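import Cfsg.Agent.LargeExtra.Basic
import Cfsg.Agent.Comp.Basic
import Cfsg.Agent.Monster.ExtraBasics
import Cfsg.Agent.Solvable.PGroupBasic
import Mathlib.GroupTheory.Sylow

/-!
Simplicity of a group with a large extraspecial subgroup from fusion of its central involution.
-/

set_option autoImplicit false
set_option linter.style.haveILetI false

namespace CfsgLib.LargeExtra

open Subgroup CfsgLib.Extra2

variable {G : Type*} [Group G] [Finite G] {Q : Subgroup G} {z : G}

theorem isExtraspecial_equiv {E E' : Type*} [Group E] [Group E'] [Finite E] (e : E ≃* E')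
    (h : Cfsg.IsExtraspecial 2 E) : Cfsg.IsExtraspecial 2 E' := by
  haveI : Finite E' := Finite.of_equiv E e.toEquiv
  have hcen : (center E).map e.toMonoidHom = center E' := by
    ext x
    constructor
    · rintro ⟨y, hy, rfl⟩
      refine mem_center_iff.2 fun w => ?_
      obtain ⟨v, rfl⟩ := e.surjective w
      exact (map_mul e v y).symm.trans ((congrArg e (mem_center_iff.1 hy v)).trans (map_mul e y v))
    · intro hx
      refine ⟨e.symm x, mem_center_iff.2 fun v => e.injective ?_, e.apply_symm_apply x⟩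
      rw [map_mul, map_mul, e.apply_symm_apply]
      exact mem_center_iff.1 hx (e v)
  have hc2 : Nat.card (center E') = 2 := by
    rw [← hcen, card_map_of_injective e.injective, h.2]
  refine Monster.isExtraspecial_of (h.1.1.of_equiv e) hc2 (fun a b => ?_) (fun a => ?_) ?_
  · obtain ⟨a, rfl⟩ := e.surjective a
    obtain ⟨b, rfl⟩ := e.surjective b
    rw [← hcen, ← map_inv, ← map_inv, ← map_mul, ← map_mul, ← map_mul]
    exact mem_map_of_mem e.toMonoidHom (commutator_mem_center h a b)
  · obtain ⟨a, rfl⟩ := e.surjective a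
    rw [← hcen, ← map_mul]
    exact mem_map_of_mem e.toMonoidHom (sq_mem_center h a)
  · by_contra hab
    push Not at hab
    haveI : Fact (Nat.Prime 2) := ⟨Nat.prime_two⟩
    have hbot : commutator E = ⊥ := by
      rw [_root_.commutator_def, commutator_eq_bot_iff_le_centralizer]
      exact fun a _ => mem_centralizer_iff.2 fun b _ => e.injective (by rw [map_mul, map_mul]; exact hab _ _)
    have := h.2
    rw [← h.1.2.2, hbot, card_bot] at this
    omega

theorem pre_of_fstar (hz : orderOf z = 2)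
    (hF : (Cfsg.generalizedFittingSubgroup ↥(centralizer ({z} : Set G))).map
      (centralizer ({z} : Set G)).subtype = Q) (hQ : Cfsg.IsExtraspecial 2 ↥Q) : Pre Q z := by
  set C := centralizer ({z} : Set G)
  set F := Cfsg.generalizedFittingSubgroup ↥C
  have hzC : z ∈ C := mem_centralizer_singleton_iff.2 rfl
  have hzQ : z ∈ Q := by
    rw [← hF]
    refine ⟨⟨z, hzC⟩, Comp.centralizer_Fstar_le (mem_centralizer_iff.2 fun y _ => Subtype.ext ?_), rfl⟩
    exact (mem_centralizer_singleton_iff.1 y.2)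
  obtain ⟨z', hg⟩ := exists_gen hQ
  have hzz' : z = z' := by
    have hz1 : z ≠ 1 := fun e => by rw [e, orderOf_one] at hz; omega
    refine (hg.center_iff z hzQ fun y hy => ?_).resolve_left hz1
    have : y ∈ C := hF.ge.trans (map_subtype_le _) hy
    exact (mem_centralizer_singleton_iff.1 this).symm
  subst hzz'
  refine ⟨hg, fun x hx => ?_, ?_⟩
  · have hxC : x ∈ C :=
      mem_centralizer_singleton_iff.2 (mem_centralizer_iff.1 hx z hzQ).symm
    rw [← hF]
    refine ⟨⟨x, hxC⟩, Comp.centralizer_Fstar_le (mem_centralizer_iff.2 fun y hy => Subtype.ext ?_), rfl⟩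
    exact mem_centralizer_iff.1 hx y (hF ▸ mem_map_of_mem _ hy)
  · intro c hc
    rw [← hF, mem_normalizer_iff]
    intro a
    haveI : F.Normal := inferInstance
    constructor
    · rintro ⟨y, hy, rfl⟩
      exact ⟨⟨c, hc⟩ * y * ⟨c, hc⟩⁻¹, Normal.conj_mem inferInstance y hy _, rfl⟩
    · rintro ⟨y, hy, he⟩
      refine ⟨⟨c, hc⟩⁻¹ * y * ⟨c, hc⟩, ?_, ?_⟩
      · simpa using Normal.conj_mem (H := F) inferInstance y hy (⟨c, hc⟩⁻¹ : ↥C)
      · simp only [Subgroup.coe_subtype, Subgroup.coe_mul, InvMemClass.coe_inv] at he ⊢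
        rw [he]; group

/-- Every nontrivial normal subgroup contains `z`, and then equals `G` if it contains `C(z)`. -/
theorem simple_of (h : Pre Q z) (hL : Cfsg.IsLargeExtraspecial Q)
    (hgen : ∀ N : Subgroup G, N.Normal → z ∈ N → centralizer ({z} : Set G) ≤ N) :
    IsSimpleGroup G := by
  haveI : Nontrivial G := ⟨z, 1, h.gen.ne_one⟩
  refine IsSimpleGroup.mk fun N hN => ?_
  by_cases hodd : Odd (Nat.card N)
  · exact Or.inl (hL.2.2.2 N hodd le_normalizer_of_normal)
  right
  haveI := Fact.mk Nat.prime_two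
  have h2 : 2 ∣ Nat.card N := by
    rcases Nat.even_or_odd (Nat.card N) with he | he
    · exact even_iff_two_dvd.1 he
    · exact absurd he hodd
  obtain ⟨S, hQS⟩ := ((hL.1.1.1 : IsPGroup 2 Q)).exists_le_sylow
  have hcen : ∀ w ∈ center ↥(S : Subgroup G), (w : G) = 1 ∨ (w : G) = z := by
    intro w hw
    have hc : ∀ y ∈ Q, Commute (w : G) y := fun y hy =>
      (congrArg Subtype.val (mem_center_iff.1 hw ⟨y, hQS hy⟩)).symm
    exact h.gen.center_iff w (h.self (mem_centralizer_iff.2 fun y hy => (hc y hy).symm.eq)) hc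
  -- `z` lies in `N`
  haveI := S.isPGroup'.isNilpotent
  have hne : N.subgroupOf (S : Subgroup G) ≠ ⊥ := by
    obtain ⟨⟨x, hxN⟩, hx⟩ := exists_prime_orderOf_dvd_card' 2 h2
    rw [Subgroup.orderOf_mk] at hx
    obtain ⟨T, hT⟩ := (IsPGroup.of_card (n := 1) (p := 2) (G := zpowers x)
      (by rw [Nat.card_zpowers, hx, pow_one])).exists_le_sylow
    obtain ⟨g, hg⟩ := MulAction.exists_smul_eq G T S
    have hxS : g * x * g⁻¹ ∈ (S : Subgroup G) := by
      rw [← hg, Sylow.coe_subgroup_smul]
      exact mem_map_of_mem (MulAut.conj g).toMonoidHom (hT (mem_zpowers x))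
    intro hb
    have hm : (⟨g * x * g⁻¹, hxS⟩ : ↥(S : Subgroup G)) ∈ N.subgroupOf (S : Subgroup G) :=
      mem_subgroupOf.2 (hN.conj_mem x hxN g)
    rw [hb, mem_bot, Subtype.ext_iff] at hm
    have hx1 : x = 1 := by exact conj_eq_one_iff.1 hm
    rw [hx1, orderOf_one] at hx
    omega
  have hzN : z ∈ N := by
    obtain ⟨w, hw, hw1⟩ := (bot_or_exists_ne_one _).resolve_left
      (PGroupBasic.inf_center_ne_bot (N.subgroupOf (S : Subgroup G)) hne)
    rcases hcen w hw.2 with e | e
    · exact absurd (Subtype.ext e) hw1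
    · exact e ▸ mem_subgroupOf.1 hw.1
  have hC := hgen N hN hzN
  have hcS : z ∈ (center ↥(S : Subgroup G)).map (S : Subgroup G).subtype := by
    haveI : Nontrivial ↥(S : Subgroup G) :=
      (nontrivial_iff_exists_ne_one _).2 ⟨z, hQS h.gen.mem, h.gen.ne_one⟩
    haveI := S.isPGroup'.center_nontrivial
    obtain ⟨w, hw⟩ := exists_ne (1 : center ↥(S : Subgroup G))
    rcases hcen w w.2 with e | e
    · exact absurd (Subtype.ext (Subtype.ext e)) hw
    · exact ⟨w, w.2, e⟩
  obtain ⟨w, hw, hwz⟩ := hcS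
  have hwz' : (w : G) = z := hwz
  have hSN : (S : Subgroup G) ≤ N := fun s hs => hC (mem_centralizer_singleton_iff.2 (by
    rw [← hwz']
    exact congrArg Subtype.val (mem_center_iff.1 hw ⟨s, hs⟩)))
  refine eq_top_iff.2 fun g _ => ?_
  have hgN : g ∈ normalizer ((S : Subgroup G) : Set G) ⊔ N := by
    have hsup : normalizer ((S : Subgroup G) : Set G) ⊔ N = ⊤ :=
      Sylow.normalizer_sup_eq_top' S hSN
    rw [hsup]; trivial
  refine (sup_le (fun n hn => hC (mem_centralizer_singleton_iff.2 ?_)) le_rfl :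
    normalizer ((S : Subgroup G) : Set G) ⊔ N ≤ N) hgN
  -- the normalizer fixes the centre
  have hn' : n * z * n⁻¹ ∈ (S : Subgroup G) :=
    (mem_normalizer_iff.1 hn z).1 (hQS h.gen.mem)
  have hcen' : (⟨n * z * n⁻¹, hn'⟩ : ↥(S : Subgroup G)) ∈ center ↥(S : Subgroup G) :=
    mem_center_iff.2 fun s => Subtype.ext (by
      have h1 : n⁻¹ * s * n ∈ (S : Subgroup G) := (mem_normalizer_iff''.1 hn _).1 s.2
      have h3 : n⁻¹ * s * n * z = z * (n⁻¹ * s * n) := by
        rw [← hwz']
        exact congrArg Subtype.val (mem_center_iff.1 hw ⟨_, h1⟩)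
      calc (s : G) * (n * z * n⁻¹) = n * (n⁻¹ * s * n * z) * n⁻¹ := by group
        _ = n * (z * (n⁻¹ * s * n)) * n⁻¹ := by rw [h3]
        _ = n * z * n⁻¹ * s := by group)
  rcases hcen _ hcen' with e | e
  · have : z = 1 := by exact conj_eq_one_iff.1 e
    exact absurd this h.gen.ne_one
  · exact mul_inv_eq_iff_eq_mul.1 e

/-- A second conjugate of `z` in `Q` makes `Q` large. -/
theorem large_of_conj (h : Pre Q z) (hQ : Cfsg.IsExtraspecial 2 ↥Q) {g : G}
    (hgQ : g * z * g⁻¹ ∈ Q) (hgz : g * z * g⁻¹ ≠ z) : Cfsg.IsLargeExtraspecial Q := by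
  have hpc := pre_conj h g
  refine large_of_core h hQ hgQ (fun e => h.gen.ne_one ?_) hgz ?_ _
    ((hQ.1.1 : IsPGroup 2 Q).map (MulAut.conj g).toMonoidHom) (h.center_mem_conj hgQ) fun c hc p hp =>
      hpc.conj_mem hc hp
  · exact conj_eq_one_iff.1 e
  · calc g * z * g⁻¹ * (g * z * g⁻¹) = g * (z * z) * g⁻¹ := by group
      _ = 1 := by rw [h.gen.sq]; group

end CfsgLib.LargeExtra
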