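/-
Extraspecial 2-subgroups normal in the centralizer of their central involution.
-/
import Cfsg.Prelude.Def_MonsterType
import Cfsg.Agent.Singular.Symmetric
import Mathlib.GroupTheory.FixedPointFree

set_option autoImplicit false

namespace CfsgLib.LargeExtra

open CfsgLib.Extra2

variable {G : Type*} [Group G]

/-- An extraspecial subgroup, self-centralizing and normalized by the centralizer of its centre. -/
structure Pre (Q : Subgroup G) (z : G) : Prop where
  gen : Gen Q z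
  self : Subgroup.centralizer (Q : Set G) ≤ Q
  norm : Subgroup.centralizer ({z} : Set G) ≤ Subgroup.normalizer (Q : Set G)

theorem pre_of {Q : Subgroup G} (hL1 : Cfsg.IsExtraspecial 2 ↥Q)
    (hL2 : Subgroup.centralizer (Q : Set G) = (Subgroup.center ↥Q).map Q.subtype)
    (hL3 : Subgroup.centralizer (((Subgroup.center ↥Q).map Q.subtype) : Set G) ≤
      Subgroup.normalizer (Q : Set G)) :
    ∃ z, Pre Q z := by
  obtain ⟨z, hz⟩ := exists_gen hL1
  refine ⟨z, hz, hL2.le.trans (Subgroup.map_subtype_le _), ?_⟩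
  rw [hz.map_center] at hL3
  refine le_trans ?_ hL3
  rw [Subgroup.zpowers_eq_closure, Subgroup.centralizer_closure]

theorem pre_of_large {Q : Subgroup G} {z : G} (hQ : Cfsg.IsLargeExtraspecial Q)
    (hz : (Subgroup.center ↥Q).map Q.subtype = Subgroup.zpowers z) : Pre Q z := by
  obtain ⟨z', hP⟩ := pre_of hQ.1 hQ.2.1 hQ.2.2.1
  have he := hP.gen.map_center
  rw [hz] at he
  have hmem : z' ∈ Subgroup.zpowers z := he ▸ Subgroup.mem_zpowers z'
  have hmem' : z ∈ Subgroup.zpowers z' := he ▸ Subgroup.mem_zpowers z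
  rcases (mem_zpowers_iff hP.gen.sq).1 hmem' with e | e
  · rw [e, Subgroup.zpowers_one_eq_bot, Subgroup.mem_bot] at hmem
    exact absurd hmem hP.gen.ne_one
  · exact e ▸ hP

variable {Q : Subgroup G} {z : G}

theorem Pre.conj_mem (h : Pre Q z) {c a : G} (hc : c * z = z * c) (ha : a ∈ Q) : c * a * c⁻¹ ∈ Q :=
  (Subgroup.mem_normalizer_iff.1 (h.norm (Subgroup.mem_centralizer_singleton_iff.2 hc)) a).1 ha

/-- The conjugate of `Q` with given central involution, the trivial group off the class. -/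
def fam (Q : Subgroup G) (z : G) : G → Subgroup G := fun x =>
  ⨆ (g : G) (_ : g * z * g⁻¹ = x), Q.map (MulAut.conj g).toMonoidHom

theorem fam_eq (h : Pre Q z) (g : G) :
    fam Q z (g * z * g⁻¹) = Q.map (MulAut.conj g).toMonoidHom := by
  refine le_antisymm (iSup₂_le fun k hk => ?_) (le_iSup₂_of_le g rfl le_rfl)
  rintro _ ⟨a, ha, rfl⟩
  refine ⟨(g⁻¹ * k) * a * (g⁻¹ * k)⁻¹, h.conj_mem ?_ ha, ?_⟩
  · calc g⁻¹ * k * z = g⁻¹ * (k * z * k⁻¹) * k := by group
      _ = g⁻¹ * (g * z * g⁻¹) * k := by rw [hk]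
      _ = z * (g⁻¹ * k) := by group
  · simp [mul_assoc]

theorem fam_self (h : Pre Q z) : fam Q z z = Q := by
  have e := fam_eq h 1
  rw [one_mul, inv_one, mul_one] at e
  rw [e]
  ext a
  simp

theorem fam_central (h : Pre Q z) (x : G) : fam Q z x ≤ Subgroup.centralizer ({x} : Set G) := by
  refine iSup₂_le fun k hk => ?_
  rintro _ ⟨a, ha, rfl⟩
  rw [Subgroup.mem_centralizer_singleton_iff, ← hk]
  simp only [MulEquiv.coe_toMonoidHom, MulAut.conj_apply]
  have e := (h.gen.comm_z a ha).eq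
  calc k * a * k⁻¹ * (k * z * k⁻¹) = k * (a * z) * k⁻¹ := by group
    _ = k * (z * a) * k⁻¹ := by rw [e]
    _ = _ := by group

theorem fam_conj_le (g x : G) : (fam Q z x).map (MulAut.conj g).toMonoidHom ≤ fam Q z (g * x * g⁻¹) := by
  rw [fam, Subgroup.map_iSup]
  refine iSup_le fun k => ?_
  rw [Subgroup.map_iSup]
  refine iSup_le fun hk => ?_
  refine le_iSup₂_of_le (g * k) (by rw [← hk]; group) (le_of_eq ?_)
  rw [Subgroup.map_map]
  congr 1
  ext a
  simp [mul_assoc]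

theorem toSetup (h : Pre Q z) : Singular.Setup (fam Q z) z := by
  refine ⟨fam_central h, fun g x a => ⟨fun ha => ?_, fun ha => fam_conj_le g x ⟨a, ha, rfl⟩⟩, ?_, ?_⟩
  · have := fam_conj_le (Q := Q) (z := z) g⁻¹ (g * x * g⁻¹) ⟨_, ha, rfl⟩
    simpa [mul_assoc] using this
  · rw [fam_self h]; exact h.gen
  · rw [fam_self h]; exact h.self

theorem Pre.center_mem_conj [Finite G] (h : Pre Q z) {g : G} (hg : g * z * g⁻¹ ∈ Q) :
    z ∈ Q.map (MulAut.conj g).toMonoidHom := by
  rw [← fam_eq h g]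
  exact Singular.mem_symm (toSetup h) (by rw [fam_self h]; exact hg)

theorem pre_conj (h : Pre Q z) (g : G) :
    Pre (Q.map (MulAut.conj g).toMonoidHom) (g * z * g⁻¹) := by
  have S := toSetup h
  refine ⟨Singular.gen_map h.gen (MulAut.conj g), ?_, fun c hc => ?_⟩
  · rw [← fam_eq h g]
    exact Singular.self_conj S ⟨g, rfl⟩
  · rw [← fam_eq h g, Subgroup.mem_normalizer_iff]
    rw [Subgroup.mem_centralizer_singleton_iff] at hc
    intro a
    refine ⟨fun ha => Singular.normal_of_comm S hc ha, fun ha => ?_⟩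
    have hc' : c⁻¹ * (g * z * g⁻¹) = (g * z * g⁻¹) * c⁻¹ := (Commute.inv_left hc).eq
    have := Singular.normal_of_comm S hc' ha
    simpa [mul_assoc] using this

/-- A four-group criterion: an element of odd order can lie in a 2-group only trivially. -/
theorem eq_one_of_two_odd {P K : Subgroup G} (hP : IsPGroup 2 P) (hK : Odd (Nat.card K)) {y : G}
    (hyP : y ∈ P) (hyK : y ∈ K) : y = 1 := by
  obtain ⟨n, hn⟩ := IsPGroup.iff_orderOf.1 hP ⟨y, hyP⟩
  rw [Subgroup.orderOf_mk] at hn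
  have h2 : orderOf y ∣ Nat.card K := by
    rw [← Subgroup.orderOf_mk y hyK]; exact orderOf_dvd_natCard _
  rw [← orderOf_eq_one_iff]
  exact Nat.eq_one_of_dvd_coprimes (Nat.Coprime.pow_left n (Nat.coprime_two_left.2 hK))
    (dvd_of_eq hn) h2

theorem large_of_core [Finite G] (h : Pre Q z) (hL1 : Cfsg.IsExtraspecial 2 ↥Q) {b : G} (hbQ : b ∈ Q)
    (hb1 : b ≠ 1) (hbz : b ≠ z) (hb2 : b * b = 1) (P : Subgroup G) (hP : IsPGroup 2 P) (hzP : z ∈ P)
    (hPn : ∀ c, c * b = b * c → ∀ p ∈ P, c * p * c⁻¹ ∈ P) : Cfsg.IsLargeExtraspecial Q := by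
  have hcz : Subgroup.centralizer (Q : Set G) = (Subgroup.center ↥Q).map Q.subtype := by
    rw [h.gen.map_center]
    refine le_antisymm (fun y hy => (mem_zpowers_iff h.gen.sq).2
      (h.gen.center_iff y (h.self hy) fun w hw => (Subgroup.mem_centralizer_iff.1 hy w hw).symm)) ?_
    rw [Subgroup.zpowers_le, Subgroup.mem_centralizer_iff]
    exact fun w hw => (h.gen.comm_z w hw).eq
  refine ⟨hL1, hcz, ?_, fun K hK hQK => ?_⟩
  · rw [h.gen.map_center, Subgroup.zpowers_eq_closure, Subgroup.centralizer_closure]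
    exact h.norm
  have hQ2 : IsPGroup 2 Q := hL1.1.1
  have conjK : ∀ q ∈ Q, ∀ w ∈ K, q * w * q⁻¹ ∈ K := fun q hq w hw =>
    (Subgroup.mem_normalizer_iff.1 (hQK hq) w).1 hw
  have hz0 : ∀ w ∈ K, z * w = w * z → w = 1 := by
    intro w hw hc
    have hwC : w ∈ Subgroup.centralizer (Q : Set G) := Subgroup.mem_centralizer_iff.2 fun q hq => by
      have h1 : q * w * q⁻¹ * w⁻¹ ∈ K := mul_mem (conjK q hq w hw) (inv_mem hw)
      have h2 : q * w * q⁻¹ * w⁻¹ ∈ Q := by
        rw [show q * w * q⁻¹ * w⁻¹ = q * (w * q⁻¹ * w⁻¹) by group]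
        exact mul_mem hq (h.conj_mem hc.symm (inv_mem hq))
      exact mul_inv_eq_iff_eq_mul.1 (mul_inv_eq_one.1 (eq_one_of_two_odd hQ2 hK h2 h1))
    exact eq_one_of_two_odd hQ2 hK (h.self hwC) hw
  have hb0 : ∀ w ∈ K, b * w = w * b → w = 1 := fun w hw hc => hz0 w hw (by
    have h1 : z * w * z⁻¹ * w⁻¹ ∈ K := mul_mem (conjK z h.gen.mem w hw) (inv_mem hw)
    have h2 : z * w * z⁻¹ * w⁻¹ ∈ P := by
      rw [show z * w * z⁻¹ * w⁻¹ = z * (w * z⁻¹ * w⁻¹) by group]
      exact mul_mem hzP (hPn w hc.symm _ (inv_mem hzP))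
    exact mul_inv_eq_iff_eq_mul.1 (mul_inv_eq_one.1 (eq_one_of_two_odd hP hK h2 h1)))
  have hinv : ∀ a ∈ Q, a * a = 1 → (∀ w ∈ K, a * w = w * a → w = 1) → ∀ w ∈ K, a * w * a⁻¹ = w⁻¹ := by
    intro a ha ha2 ha0 w hw
    let φ : K →* K :=
      { toFun := fun v => ⟨a * v * a⁻¹, conjK a ha v v.2⟩
        map_one' := Subtype.ext (by simp)
        map_mul' := fun u v => Subtype.ext (by simp [mul_assoc]) }
    have hf : MonoidHom.FixedPointFree φ := fun v hv => by
      have e : a * (v : G) * a⁻¹ = v := congrArg Subtype.val hv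
      exact Subtype.ext (ha0 v v.2 (mul_inv_eq_iff_eq_mul.1 e))
    have h2 : Function.Involutive φ := fun v => Subtype.ext (by
      show a * (a * (v : G) * a⁻¹) * a⁻¹ = v
      have e : a⁻¹ = a := inv_eq_of_mul_eq_one_right ha2
      rw [e, ← mul_assoc, ← mul_assoc, ha2, one_mul, mul_assoc, ha2, mul_one])
    exact congrArg Subtype.val (congrFun (hf.coe_eq_inv_of_involutive h2) ⟨w, hw⟩)
  obtain ⟨q, hq, hqb⟩ := exists_conj_mul h.gen hbQ hb1 hbz
  rw [Subgroup.eq_bot_iff_forall]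
  intro w hw
  have iz := hinv z h.gen.mem h.gen.sq hz0
  have ib := hinv b hbQ hb2 hb0
  -- the product of the two involutions centralises `K`
  have hfix : ∀ v ∈ K, b * z * v = v * (b * z) := fun v hv => by
    apply mul_inv_eq_iff_eq_mul.1
    calc b * z * v * (b * z)⁻¹ = b * (z * v * z⁻¹) * b⁻¹ := by group
      _ = b * v⁻¹ * b⁻¹ := by rw [iz v hv]
      _ = v := by rw [ib v⁻¹ (inv_mem hv), inv_inv]
  have hq' : q⁻¹ * w * q ∈ K := by
    have := conjK q⁻¹ (inv_mem hq) w hw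
    rwa [inv_inv] at this
  have h1 : b * (q⁻¹ * w * q) = (q⁻¹ * w * q) * b := by
    have e := hfix w hw
    rw [← hqb] at e
    calc b * (q⁻¹ * w * q) = q⁻¹ * ((q * b * q⁻¹) * w) * q := by group
      _ = q⁻¹ * (w * (q * b * q⁻¹)) * q := by rw [e]
      _ = _ := by group
  have e := hb0 _ hq' h1
  calc w = q * (q⁻¹ * w * q) * q⁻¹ := by group
    _ = 1 := by rw [e]; group

end CfsgLib.LargeExtra
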