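/-
The subgroup generated by two extraspecial subgroups with orthogonal central involutions.
-/
import Cfsg.Agent.LargeExtra.Basic
import Cfsg.Agent.Solvable.Basics

set_option autoImplicit false
set_option quotPrecheck false

namespace CfsgLib.LargeExtra

open CfsgLib.Extra2

variable {G : Type*} [Group G]

/-- Two conjugate extraspecial subgroups whose central involutions lie in each other. -/
structure Pair (Q : Subgroup G) (z g : G) : Prop where
  pre : Pre Q z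
  pre' : Pre (Q.map (MulAut.conj g).toMonoidHom) (g * z * g⁻¹)
  xQ : g * z * g⁻¹ ∈ Q
  zQ : z ∈ Q.map (MulAut.conj g).toMonoidHom
  ne : g * z * g⁻¹ ≠ z

theorem pair_of [Finite G] {Q : Subgroup G} {z g : G} (h : Pre Q z) (hx : g * z * g⁻¹ ∈ Q)
    (hg : g ∉ Subgroup.centralizer ({z} : Set G)) : Pair Q z g :=
  ⟨h, pre_conj h g, hx, h.center_mem_conj hx, fun e => hg (Subgroup.mem_centralizer_singleton_iff.2
    (mul_inv_eq_iff_eq_mul.1 e))⟩

/-- The three nontrivial elements of the four-group. -/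
def tri (z x : G) : Fin 3 → G := ![z, x, z * x]

variable {Q : Subgroup G} {z g : G} (P : Pair Q z g)
include P

local notation "X₀" => Q ⊔ Q.map (MulAut.conj g).toMonoidHom
local notation "x₀" => g * z * g⁻¹
local notation "A₀" => Q ⊓ Subgroup.centralizer ({g * z * g⁻¹} : Set G)
local notation "B₀" => Q.map (MulAut.conj g).toMonoidHom ⊓ Subgroup.centralizer ({z} : Set G)
local notation "R₀" => (Q.map (MulAut.conj g).toMonoidHom ⊓ Subgroup.centralizer ({z} : Set G)) ⊔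
  (Q ⊓ Subgroup.centralizer ({g * z * g⁻¹} : Set G))
local notation "V₀" => Subgroup.closure ({z, g * z * g⁻¹} : Set G)
local notation "C₀" => Subgroup.centralizer (Subgroup.closure ({z, g * z * g⁻¹} : Set G) : Set G)
local notation "N₀" => Subgroup.normalizer (Subgroup.closure ({z, g * z * g⁻¹} : Set G) : Set G)

theorem zx : z * x₀ = x₀ * z := (P.pre.gen.comm_z _ P.xQ).eq.symm

theorem mem_V (v : G) : v ∈ V₀ ↔ v = 1 ∨ v = z ∨ v = x₀ ∨ v = z * x₀ := by
  refine ⟨fun hv => ?_, ?_⟩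
  · have hzz := P.pre.gen.sq
    have hxx := P.pre'.gen.sq
    have hc := zx P
    set x := g * z * g⁻¹
    have p1 : z * (z * x) = x := by rw [← mul_assoc, hzz, one_mul]
    have p2 : z * x * z = x := by rw [hc, mul_assoc, hzz, mul_one]
    have p3 : x * (z * x) = z := by rw [hc, ← mul_assoc, hxx, one_mul]
    have p4 : z * x * x = z := by rw [mul_assoc, hxx, mul_one]
    have p5 : x * z = z * x := hc.symm
    have p6 : z * x * (z * x) = 1 := by rw [mul_assoc, p3, hzz]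
    have p7 : (z * x)⁻¹ = z * x := inv_eq_of_mul_eq_one_right p6
    induction hv using Subgroup.closure_induction with
    | mem y hy => rcases hy with e | e <;> simp [show y = _ from e]
    | one => simp
    | mul a b _ _ ha hb =>
      rcases ha with ha | ha | ha | ha <;> rcases hb with hb | hb | hb | hb <;> rw [ha, hb]
      all_goals simp only [one_mul, mul_one, hzz, hxx, p1, p2, p3, p4, p5, p6, true_or, or_true]
    | inv a _ ha =>
      rcases ha with e | e | e | e <;>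
        simp [e, inv_eq_of_mul_eq_one_right hzz, inv_eq_of_mul_eq_one_right hxx, p7]
  · have h1 : z ∈ V₀ := Subgroup.subset_closure (Or.inl rfl)
    have h2 : x₀ ∈ V₀ := Subgroup.subset_closure (Or.inr rfl)
    rintro (e | e | e | e) <;> rw [e]
    exacts [one_mem _, h1, h2, mul_mem h1 h2]

omit P in
theorem mem_C {y : G} : y ∈ C₀ ↔ y * z = z * y ∧ y * x₀ = x₀ * y := by
  rw [Subgroup.centralizer_closure, Subgroup.mem_centralizer_iff]
  simp only [Set.mem_insert_iff, Set.mem_singleton_iff, forall_eq_or_imp, forall_eq]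
  exact ⟨fun h => ⟨h.1.symm, h.2.symm⟩, fun h => ⟨h.1.symm, h.2.symm⟩⟩

theorem mem_N {y : G} (h1 : y * z * y⁻¹ ∈ V₀) (h2 : y * x₀ * y⁻¹ ∈ V₀) [Finite G] : y ∈ N₀ := by
  rw [Subgroup.mem_normalizer_iff]
  have hle : (V₀).map (MulAut.conj y).toMonoidHom ≤ V₀ := by
    rw [MonoidHom.map_closure, Subgroup.closure_le]
    rintro _ ⟨v, hv | hv, rfl⟩ <;> rw [show v = _ from hv]
    exacts [h1, h2]
  have heq := Subgroup.eq_of_le_of_card_ge hle
    (Subgroup.card_map_of_injective (MulAut.conj y).injective).ge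
  intro v
  refine ⟨fun hv => hle ⟨v, hv, rfl⟩, fun hv => ?_⟩
  rw [← heq] at hv
  obtain ⟨w, hw, hwv⟩ := hv
  have : w = v := (MulAut.conj y).injective hwv
  exact this ▸ hw

theorem Q_fix {q : G} (hq : q ∈ Q) : q * z * q⁻¹ = z := by
  rw [(P.pre.gen.comm_z q hq).eq, mul_inv_cancel_right]

theorem Q'_fix {q : G} (hq : q ∈ Q.map (MulAut.conj g).toMonoidHom) : q * x₀ * q⁻¹ = x₀ := by
  rw [(P.pre'.gen.comm_z q hq).eq, mul_inv_cancel_right]

theorem A_le_C : A₀ ≤ C₀ := fun a ha =>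
  mem_C.2 ⟨(P.pre.gen.comm_z a ha.1).eq, Subgroup.mem_centralizer_singleton_iff.1 ha.2⟩

theorem B_le_C : B₀ ≤ C₀ := fun a ha =>
  mem_C.2 ⟨Subgroup.mem_centralizer_singleton_iff.1 ha.2, (P.pre'.gen.comm_z a ha.1).eq⟩

theorem R_le_C : R₀ ≤ C₀ := sup_le (B_le_C P) (A_le_C P)

omit P in
theorem R_le_X : R₀ ≤ X₀ := sup_le (le_sup_of_le_right inf_le_left) (le_sup_of_le_left inf_le_left)

theorem C_normalizes_A {c a : G} (hc : c ∈ C₀) (ha : a ∈ A₀) : c * a * c⁻¹ ∈ A₀ := by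
  obtain ⟨c1, c2⟩ := mem_C.1 hc
  have ha2 := Subgroup.mem_centralizer_singleton_iff.1 ha.2
  refine ⟨P.pre.conj_mem c1 ha.1, Subgroup.mem_centralizer_singleton_iff.2 ?_⟩
  calc c * a * c⁻¹ * x₀ = c * a * (c⁻¹ * x₀) := by group
    _ = c * a * (x₀ * c⁻¹) := by rw [(Commute.inv_left c2).eq]
    _ = c * (a * x₀) * c⁻¹ := by group
    _ = c * (x₀ * a) * c⁻¹ := by rw [ha2]
    _ = (c * x₀) * a * c⁻¹ := by group
    _ = _ := by rw [c2]; group

theorem C_normalizes_B {c a : G} (hc : c ∈ C₀) (ha : a ∈ B₀) : c * a * c⁻¹ ∈ B₀ := by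
  obtain ⟨c1, c2⟩ := mem_C.1 hc
  have ha2 := Subgroup.mem_centralizer_singleton_iff.1 ha.2
  refine ⟨P.pre'.conj_mem c2 ha.1, Subgroup.mem_centralizer_singleton_iff.2 ?_⟩
  calc c * a * c⁻¹ * z = c * a * (c⁻¹ * z) := by group
    _ = c * a * (z * c⁻¹) := by rw [(Commute.inv_left c1).eq]
    _ = c * (a * z) * c⁻¹ := by group
    _ = c * (z * a) * c⁻¹ := by rw [ha2]
    _ = (c * z) * a * c⁻¹ := by group
    _ = _ := by rw [c1]; group

theorem C_normalizes_R {c r : G} (hc : c ∈ C₀) (hr : r ∈ R₀) : c * r * c⁻¹ ∈ R₀ := by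
  have hle : R₀ ≤ (R₀).comap (MulAut.conj c).toMonoidHom := by
    refine sup_le (fun y hy => ?_) fun y hy => ?_
    · exact le_sup_left (b := A₀) (C_normalizes_B P hc hy)
    · exact le_sup_right (a := B₀) (C_normalizes_A P hc hy)
  exact hle hr

theorem Q_conj_x {q : G} (hq : q ∈ Q) : q * x₀ * q⁻¹ = x₀ ∨ q * x₀ * q⁻¹ = z * x₀ :=
  conj_eq P.pre.gen hq P.xQ

theorem Q'_conj_z {q : G} (hq : q ∈ Q.map (MulAut.conj g).toMonoidHom) :
    q * z * q⁻¹ = z ∨ q * z * q⁻¹ = x₀ * z :=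
  conj_eq P.pre'.gen hq P.zQ

theorem Q_normalizes_R {q r : G} (hq : q ∈ Q) (hr : r ∈ R₀) : q * r * q⁻¹ ∈ R₀ := by
  have hle : R₀ ≤ (R₀).comap (MulAut.conj q).toMonoidHom := by
    have hA : ∀ a ∈ A₀, q * a * q⁻¹ ∈ A₀ := fun a ha => by
      rcases conj_eq P.pre.gen hq ha.1 with e | e <;> rw [e]
      exacts [ha, mul_mem ⟨P.pre.gen.mem, Subgroup.mem_centralizer_singleton_iff.2 (zx P)⟩ ha]
    refine sup_le (fun b hb => ?_) fun a ha => le_sup_right (a := B₀) (hA a ha)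
    obtain ⟨b1, b2⟩ := mem_C.1 (B_le_C P hb)
    have hmem : q * b * q⁻¹ * b⁻¹ ∈ A₀ := by
      refine ⟨?_, Subgroup.mem_centralizer_singleton_iff.2 (mul_inv_eq_iff_eq_mul.1 ?_)⟩
      · rw [show q * b * q⁻¹ * b⁻¹ = q * (b * q⁻¹ * b⁻¹) by group]
        exact mul_mem hq (P.pre.conj_mem b1 (inv_mem hq))
      · have e1 : b⁻¹ * x₀ * b = x₀ := by
          rw [(Commute.inv_left b2).eq, inv_mul_cancel_right]
        have e2 : b * (q⁻¹ * x₀ * q) * b⁻¹ = q⁻¹ * x₀ * q := by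
          rcases Q_conj_x P (inv_mem hq) with e | e <;> rw [inv_inv] at e <;> rw [e]
          · rw [b2, mul_inv_cancel_right]
          · rw [← mul_assoc, b1, mul_assoc z, b2, mul_assoc, mul_inv_cancel_right]
        calc q * b * q⁻¹ * b⁻¹ * x₀ * (q * b * q⁻¹ * b⁻¹)⁻¹ =
            q * (b * (q⁻¹ * (b⁻¹ * x₀ * b) * q) * b⁻¹) * q⁻¹ := by group
          _ = q * (q⁻¹ * x₀ * q) * q⁻¹ := by rw [e1, e2]
          _ = x₀ := by group
    show q * b * q⁻¹ ∈ R₀
    have := mul_mem (le_sup_right (a := B₀) hmem) (le_sup_left (b := A₀) hb)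
    rwa [inv_mul_cancel_right] at this
  exact hle hr

theorem Q'_normalizes_R {q r : G} (hq : q ∈ Q.map (MulAut.conj g).toMonoidHom) (hr : r ∈ R₀) :
    q * r * q⁻¹ ∈ R₀ := by
  have hle : R₀ ≤ (R₀).comap (MulAut.conj q).toMonoidHom := by
    have hB : ∀ b ∈ B₀, q * b * q⁻¹ ∈ B₀ := fun b hb => by
      rcases conj_eq P.pre'.gen hq hb.1 with e | e <;> rw [e]
      exacts [hb, mul_mem ⟨P.pre'.gen.mem, Subgroup.mem_centralizer_singleton_iff.2 (zx P).symm⟩ hb]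
    refine sup_le (fun b hb => le_sup_left (b := A₀) (hB b hb)) fun a ha => ?_
    obtain ⟨a1, a2⟩ := mem_C.1 (A_le_C P ha)
    have hmem : q * a * q⁻¹ * a⁻¹ ∈ B₀ := by
      refine ⟨?_, Subgroup.mem_centralizer_singleton_iff.2 (mul_inv_eq_iff_eq_mul.1 ?_)⟩
      · rw [show q * a * q⁻¹ * a⁻¹ = q * (a * q⁻¹ * a⁻¹) by group]
        exact mul_mem hq (P.pre'.conj_mem a2 (inv_mem hq))
      · have e1 : a⁻¹ * z * a = z := by rw [(Commute.inv_left a1).eq, inv_mul_cancel_right]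
        have e2 : a * (q⁻¹ * z * q) * a⁻¹ = q⁻¹ * z * q := by
          rcases Q'_conj_z P (inv_mem hq) with e | e <;> rw [inv_inv] at e <;> rw [e]
          · rw [a1, mul_inv_cancel_right]
          · rw [← mul_assoc, a2, mul_assoc x₀, a1, mul_assoc, mul_inv_cancel_right]
        calc q * a * q⁻¹ * a⁻¹ * z * (q * a * q⁻¹ * a⁻¹)⁻¹ =
            q * (a * (q⁻¹ * (a⁻¹ * z * a) * q) * a⁻¹) * q⁻¹ := by group
          _ = q * (q⁻¹ * z * q) * q⁻¹ := by rw [e1, e2]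
          _ = z := by group
    show q * a * q⁻¹ ∈ R₀
    have := mul_mem (le_sup_left (b := A₀) hmem) (le_sup_right (a := B₀) ha)
    rwa [inv_mul_cancel_right] at this
  exact hle hr

theorem X_normalizes_R {y r : G} (hy : y ∈ X₀) (hr : r ∈ R₀) : y * r * y⁻¹ ∈ R₀ := by
  let H : Subgroup G :=
    { carrier := {y | ∀ r, r ∈ R₀ → y * r * y⁻¹ ∈ R₀ ∧ y⁻¹ * r * y ∈ R₀}
      one_mem' := fun r hr => ⟨by rwa [one_mul, inv_one, mul_one], by rwa [inv_one, one_mul, mul_one]⟩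
      mul_mem' := fun {u v} hu hv r hr => by
        refine ⟨?_, ?_⟩
        · have := (hu _ (hv r hr).1).1
          rwa [show u * v * r * (u * v)⁻¹ = u * (v * r * v⁻¹) * u⁻¹ by group]
        · have := (hv _ (hu r hr).2).2
          rwa [show (u * v)⁻¹ * r * (u * v) = v⁻¹ * (u⁻¹ * r * u) * v by group]
      inv_mem' := fun {u} hu r hr => by rw [inv_inv]; exact (hu r hr).symm }
  have hle : X₀ ≤ H := sup_le
    (fun q hq r hr => ⟨Q_normalizes_R P hq hr, by simpa using Q_normalizes_R P (inv_mem hq) hr⟩)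
    (fun q hq r hr => ⟨Q'_normalizes_R P hq hr, by simpa using Q'_normalizes_R P (inv_mem hq) hr⟩)
  exact (hle hy r hr).1

theorem exists_a : ∃ a ∈ Q, a * x₀ * a⁻¹ = z * x₀ := by
  obtain ⟨a, ha, hax⟩ := exists_conj_mul P.pre.gen P.xQ P.pre'.gen.ne_one P.ne
  exact ⟨a, ha, hax.trans (zx P).symm⟩

theorem exists_b : ∃ b ∈ Q.map (MulAut.conj g).toMonoidHom, b * z * b⁻¹ = z * x₀ :=
  exists_conj_mul P.pre'.gen P.zQ P.pre.gen.ne_one P.ne.symm

theorem X_le_N [Finite G] : X₀ ≤ N₀ := by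
  have h1 : z ∈ V₀ := Subgroup.subset_closure (Or.inl rfl)
  have h2 : x₀ ∈ V₀ := Subgroup.subset_closure (Or.inr rfl)
  refine sup_le (fun q hq => mem_N P ?_ ?_) fun q hq => mem_N P ?_ ?_
  · rw [Q_fix P hq]; exact h1
  · rcases Q_conj_x P hq with e | e <;> rw [e]
    exacts [h2, mul_mem h1 h2]
  · rcases Q'_conj_z P hq with e | e <;> rw [e]
    exacts [h1, mul_mem h2 h1]
  · rw [Q'_fix P hq]; exact h2

theorem C_le_N [Finite G] : C₀ ≤ N₀ := fun c hc => by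
  obtain ⟨c1, c2⟩ := mem_C.1 hc
  refine mem_N P ?_ ?_
  · rw [c1, mul_inv_cancel_right]; exact Subgroup.subset_closure (Or.inl rfl)
  · rw [c2, mul_inv_cancel_right]; exact Subgroup.subset_closure (Or.inr rfl)

/-- Braid relation modulo `R`. -/
theorem braid [Finite G] {a b : G} (ha : a ∈ Q) (hax : a * x₀ * a⁻¹ = z * x₀)
    (hb : b ∈ Q.map (MulAut.conj g).toMonoidHom) (hbz : b * z * b⁻¹ = z * x₀) :
    (b * a * b)⁻¹ * (a * b * a) ∈ R₀ := by
  have hX1 : a ∈ X₀ := le_sup_left (b := Q.map (MulAut.conj g).toMonoidHom) ha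
  have hX2 : b ∈ X₀ := le_sup_right (a := Q) hb
  have S := toSetup P.pre
  have hu : b * a * b⁻¹ ∈ fam Q z (z * x₀) := by
    rw [← hbz]
    exact (Singular.conj_mem_iff S b z a).2 (by rw [fam_self P.pre]; exact ha)
  have hv : a * b * a⁻¹ ∈ fam Q z (z * x₀) := by
    rw [← hax]
    exact (Singular.conj_mem_iff S a x₀ b).2 (by rw [fam_eq P.pre g]; exact hb)
  have hza : a * z * a⁻¹ = z := Q_fix P ha
  have hxb : b * x₀ * b⁻¹ = x₀ := Q'_fix P hb
  -- both send `x₀` to `z`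
  have hux : b * a * b⁻¹ * x₀ * (b * a * b⁻¹)⁻¹ = z := by
    have e1 : b⁻¹ * x₀ * b = x₀ := by
      calc b⁻¹ * x₀ * b = b⁻¹ * (b * x₀ * b⁻¹) * b := by rw [hxb]
        _ = x₀ := by group
    calc b * a * b⁻¹ * x₀ * (b * a * b⁻¹)⁻¹ = b * (a * (b⁻¹ * x₀ * b) * a⁻¹) * b⁻¹ := by group
      _ = b * (z * x₀) * b⁻¹ := by rw [e1, hax]
      _ = (b * z * b⁻¹) * (b * x₀ * b⁻¹) := by group
      _ = z * (x₀ * x₀) := by rw [hbz, hxb, mul_assoc]
      _ = z := by rw [P.pre'.gen.sq, mul_one]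
  have hvx : a * b * a⁻¹ * x₀ * (a * b * a⁻¹)⁻¹ = z := by
    have e1 : a⁻¹ * x₀ * a = z * x₀ := by
      rcases Q_conj_x P (inv_mem ha) with e | e <;> rw [inv_inv] at e
      · exfalso
        have h1 : a * x₀ * a⁻¹ = x₀ := by
          calc a * x₀ * a⁻¹ = a * (a⁻¹ * x₀ * a) * a⁻¹ := by rw [e]
            _ = x₀ := by group
        rw [hax] at h1
        exact P.pre.gen.ne_one (mul_eq_right.1 h1)
      · exact e
    calc a * b * a⁻¹ * x₀ * (a * b * a⁻¹)⁻¹ = a * (b * (a⁻¹ * x₀ * a) * b⁻¹) * a⁻¹ := by group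
      _ = a * ((b * z * b⁻¹) * (b * x₀ * b⁻¹)) * a⁻¹ := by rw [e1]; group
      _ = a * z * a⁻¹ := by rw [hbz, hxb, mul_assoc z, P.pre'.gen.sq, mul_one]
      _ = z := hza
  obtain ⟨w, hw⟩ : ∃ w, w = (a * b * a⁻¹)⁻¹ * (b * a * b⁻¹) := ⟨_, rfl⟩
  have hwm : w ∈ fam Q z (z * x₀) := hw ▸ mul_mem (inv_mem hv) hu
  have hwx : w * x₀ = x₀ * w := by
    apply mul_inv_eq_iff_eq_mul.1
    rw [hw]
    calc (a * b * a⁻¹)⁻¹ * (b * a * b⁻¹) * x₀ * ((a * b * a⁻¹)⁻¹ * (b * a * b⁻¹))⁻¹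
        = (a * b * a⁻¹)⁻¹ * (b * a * b⁻¹ * x₀ * (b * a * b⁻¹)⁻¹) * (a * b * a⁻¹) := by group
      _ = (a * b * a⁻¹)⁻¹ * (a * b * a⁻¹ * x₀ * (a * b * a⁻¹)⁻¹) * (a * b * a⁻¹) := by rw [hux, hvx]
      _ = x₀ := by group
  have hwA : b⁻¹ * w * b ∈ A₀ := by
    refine ⟨?_, Subgroup.mem_centralizer_singleton_iff.2 ?_⟩
    · have h1 := (Singular.conj_mem_iff S b z (b⁻¹ * w * b)).1 (by
        rw [hbz]
        have : b * (b⁻¹ * w * b) * b⁻¹ = w := by group
        rwa [this])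
      rwa [fam_self P.pre] at h1
    · have e1 : b * x₀ = x₀ * b := (P.pre'.gen.comm_z b hb).eq
      calc b⁻¹ * w * b * x₀ = b⁻¹ * w * (b * x₀) := by group
        _ = b⁻¹ * (w * x₀) * b := by rw [e1]; group
        _ = (b⁻¹ * x₀) * w * b := by rw [hwx]; group
        _ = x₀ * (b⁻¹ * w * b) := by rw [(Commute.inv_left e1).eq]; group
  have hwR : w ∈ R₀ := by
    have := X_normalizes_R P hX2 (le_sup_right (a := B₀) hwA)
    rwa [show b * (b⁻¹ * w * b) * b⁻¹ = w by group] at this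
  have hbb : b * b ∈ R₀ := by
    refine le_sup_left (b := A₀) ⟨mul_mem hb hb, ?_⟩
    rcases P.pre'.gen.square b hb with e | e <;> rw [e]
    exacts [one_mem _, Subgroup.mem_centralizer_singleton_iff.2 (zx P).symm]
  have haa : a * a ∈ R₀ := by
    refine le_sup_right (a := B₀) ⟨mul_mem ha ha, ?_⟩
    rcases P.pre.gen.square a ha with e | e <;> rw [e]
    exacts [one_mem _, Subgroup.mem_centralizer_singleton_iff.2 (zx P)]
  have key : (b * a * b)⁻¹ * (a * b * a) = (b * b)⁻¹ * w⁻¹ * (a * a) := by rw [hw]; group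
  rw [key]
  exact mul_mem (mul_mem (inv_mem hbb) (inv_mem hwR)) haa

theorem X_cosets [Finite G] {a b : G} (ha : a ∈ Q) (hax : a * x₀ * a⁻¹ = z * x₀)
    (hb : b ∈ Q.map (MulAut.conj g).toMonoidHom) (hbz : b * z * b⁻¹ = z * x₀) {y : G} (hy : y ∈ X₀) :
    y ∈ R₀ ∨ a⁻¹ * y ∈ R₀ ∨ b⁻¹ * y ∈ R₀ ∨ (a * b)⁻¹ * y ∈ R₀ ∨ (b * a)⁻¹ * y ∈ R₀ ∨
      (a * b * a)⁻¹ * y ∈ R₀ := by
  have hX1 : a ∈ X₀ := le_sup_left (b := Q.map (MulAut.conj g).toMonoidHom) ha
  have hX2 : b ∈ X₀ := le_sup_right (a := Q) hb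
  let Sx : Set G := {y | y ∈ R₀ ∨ a⁻¹ * y ∈ R₀ ∨ b⁻¹ * y ∈ R₀ ∨ (a * b)⁻¹ * y ∈ R₀ ∨
    (b * a)⁻¹ * y ∈ R₀ ∨ (a * b * a)⁻¹ * y ∈ R₀}
  have hn : ∀ {u r : G}, u ∈ X₀ → r ∈ R₀ → u⁻¹ * r * u ∈ R₀ := fun {u r} hu hr => by
    have := X_normalizes_R P (inv_mem hu) hr
    rwa [inv_inv] at this
  have hbb : b * b ∈ R₀ := by
    refine le_sup_left (b := A₀) ⟨mul_mem hb hb, ?_⟩
    rcases P.pre'.gen.square b hb with e | e <;> rw [e]
    exacts [one_mem _, Subgroup.mem_centralizer_singleton_iff.2 (zx P).symm]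
  have haa : a * a ∈ R₀ := by
    refine le_sup_right (a := B₀) ⟨mul_mem ha ha, ?_⟩
    rcases P.pre.gen.square a ha with e | e <;> rw [e]
    exacts [one_mem _, Subgroup.mem_centralizer_singleton_iff.2 (zx P)]
  have hbr := braid P ha hax hb hbz
  have trans' : ∀ {u v w : G}, u⁻¹ * v ∈ R₀ → v⁻¹ * w ∈ R₀ → u⁻¹ * w ∈ R₀ := fun {u v w} h1 h2 => by
    have := mul_mem h1 h2
    rwa [show u⁻¹ * v * (v⁻¹ * w) = u⁻¹ * w by group] at this
  have mulA : ∀ s ∈ Sx, a * s ∈ Sx := by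
    intro s hs
    rcases hs with h | h | h | h | h | h
    · right; left; rwa [inv_mul_cancel_left]
    · left
      rw [show a * s = (a * a) * (a⁻¹ * s) by group]
      exact mul_mem haa h
    · right; right; right; left
      rwa [show (a * b)⁻¹ * (a * s) = b⁻¹ * s by group]
    · right; right; left
      rw [show b⁻¹ * (a * s) = (b⁻¹ * (a * a) * b) * ((a * b)⁻¹ * s) by group]
      exact mul_mem (hn hX2 haa) h
    · right; right; right; right; right
      rwa [show (a * b * a)⁻¹ * (a * s) = (b * a)⁻¹ * s by group]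
    · right; right; right; right; left
      rw [show (b * a)⁻¹ * (a * s) = ((b * a)⁻¹ * (a * a) * (b * a)) * ((a * b * a)⁻¹ * s) by group]
      exact mul_mem (hn (mul_mem hX2 hX1) haa) h
  have mulB : ∀ s ∈ Sx, b * s ∈ Sx := by
    intro s hs
    rcases hs with h | h | h | h | h | h
    · right; right; left; rwa [inv_mul_cancel_left]
    · right; right; right; right; left
      rwa [show (b * a)⁻¹ * (b * s) = a⁻¹ * s by group]
    · left
      rw [show b * s = (b * b) * (b⁻¹ * s) by group]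
      exact mul_mem hbb h
    · right; right; right; right; right
      have e1 : (a * b * a)⁻¹ * (b * a * b) ∈ R₀ := by
        have := inv_mem hbr
        rwa [show ((b * a * b)⁻¹ * (a * b * a))⁻¹ = (a * b * a)⁻¹ * (b * a * b) by group] at this
      refine trans' e1 ?_
      rwa [show (b * a * b)⁻¹ * (b * s) = (a * b)⁻¹ * s by group]
    · right; left
      rw [show a⁻¹ * (b * s) = (a⁻¹ * (b * b) * a) * ((b * a)⁻¹ * s) by group]
      exact mul_mem (hn hX1 hbb) h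
    · right; right; right; left
      have h1 : (b * a * b)⁻¹ * s ∈ R₀ := trans' hbr h
      rw [show (a * b)⁻¹ * (b * s) = ((a * b)⁻¹ * (b * b) * (a * b)) * ((b * a * b)⁻¹ * s) by group]
      exact mul_mem (hn (mul_mem hX1 hX2) hbb) h1
  have mulR : ∀ r ∈ R₀, ∀ s ∈ Sx, r * s ∈ Sx := by
    intro r hr s hs
    have e : ∀ u, u ∈ X₀ → u⁻¹ * s ∈ R₀ → u⁻¹ * (r * s) ∈ R₀ := fun u hu h => by
      rw [show u⁻¹ * (r * s) = (u⁻¹ * r * u) * (u⁻¹ * s) by group]
      exact mul_mem (hn hu hr) h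
    rcases hs with h | h | h | h | h | h
    · exact Or.inl (mul_mem hr h)
    · exact Or.inr (Or.inl (e _ hX1 h))
    · exact Or.inr (Or.inr (Or.inl (e _ hX2 h)))
    · exact Or.inr (Or.inr (Or.inr (Or.inl (e _ (mul_mem hX1 hX2) h))))
    · exact Or.inr (Or.inr (Or.inr (Or.inr (Or.inl (e _ (mul_mem hX2 hX1) h)))))
    · exact Or.inr (Or.inr (Or.inr (Or.inr (Or.inr (e _ (mul_mem (mul_mem hX1 hX2) hX1) h)))))
  -- left multiplication by `X` preserves the cosets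
  let H : Subgroup G :=
    { carrier := {y | (∀ s ∈ Sx, y * s ∈ Sx) ∧ ∀ s ∈ Sx, y⁻¹ * s ∈ Sx}
      one_mem' := ⟨fun s hs => by rwa [one_mul], fun s hs => by rwa [inv_one, one_mul]⟩
      mul_mem' := fun {u v} hu hv => ⟨fun s hs => by rw [mul_assoc]; exact hu.1 _ (hv.1 s hs),
        fun s hs => by rw [mul_inv_rev, mul_assoc]; exact hv.2 _ (hu.2 s hs)⟩
      inv_mem' := fun {u} hu => ⟨hu.2, by rw [inv_inv]; exact hu.1⟩ }
  have hHR : R₀ ≤ H := fun r hr => ⟨mulR r hr, mulR _ (inv_mem hr)⟩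
  have hHa : a ∈ H := ⟨mulA, fun s hs => by
    rw [show a⁻¹ * s = (a * a)⁻¹ * (a * s) by group]
    exact mulR _ (inv_mem haa) _ (mulA s hs)⟩
  have hHb : b ∈ H := ⟨mulB, fun s hs => by
    rw [show b⁻¹ * s = (b * b)⁻¹ * (b * s) by group]
    exact mulR _ (inv_mem hbb) _ (mulB s hs)⟩
  have hle : X₀ ≤ H := by
    refine sup_le (fun q hq => ?_) fun q hq => ?_
    · rcases Q_conj_x P hq with e | e
      · exact hHR (le_sup_right (a := B₀)
          ⟨hq, Subgroup.mem_centralizer_singleton_iff.2 (mul_inv_eq_iff_eq_mul.1 e)⟩)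
      · have hA : a⁻¹ * q ∈ A₀ := by
          refine ⟨Subgroup.mul_mem _ (Subgroup.inv_mem _ ha) hq, Subgroup.mem_centralizer_singleton_iff.2
            (mul_inv_eq_iff_eq_mul.1 ?_)⟩
          calc a⁻¹ * q * x₀ * (a⁻¹ * q)⁻¹ = a⁻¹ * (q * x₀ * q⁻¹) * a := by group
            _ = a⁻¹ * (a * x₀ * a⁻¹) * a := by rw [e, hax]
            _ = x₀ := by group
        have := mul_mem hHa (hHR (le_sup_right (a := B₀) hA))
        rwa [mul_inv_cancel_left] at this
    · rcases Q'_conj_z P hq with e | e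
      · exact hHR (le_sup_left (b := A₀)
          ⟨hq, Subgroup.mem_centralizer_singleton_iff.2 (mul_inv_eq_iff_eq_mul.1 e)⟩)
      · have hB : b⁻¹ * q ∈ B₀ := by
          refine ⟨Subgroup.mul_mem _ (Subgroup.inv_mem _ hb) hq, Subgroup.mem_centralizer_singleton_iff.2
            (mul_inv_eq_iff_eq_mul.1 ?_)⟩
          calc b⁻¹ * q * z * (b⁻¹ * q)⁻¹ = b⁻¹ * (q * z * q⁻¹) * b := by group
            _ = b⁻¹ * (b * z * b⁻¹) * b := by rw [e, hbz, zx P]
            _ = z := by group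
        have := mul_mem hHb (hHR (le_sup_left (b := A₀) hB))
        rwa [mul_inv_cancel_left] at this
  have := (hle hy).1 1 (Or.inl (one_mem _))
  rwa [mul_one] at this

end CfsgLib.LargeExtra
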