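/-
The four-group normaliser attached to two orthogonal central involutions.
-/
import Cfsg.Agent.LargeExtra.Pair

set_option autoImplicit false
set_option quotPrecheck false

namespace CfsgLib.LargeExtra

open CfsgLib.Extra2

theorem perm_three : ∀ σ : Equiv.Perm (Fin 3), σ = 1 ∨ σ = Equiv.swap 1 2 ∨ σ = Equiv.swap 0 2 ∨
    σ = Equiv.swap 1 2 * Equiv.swap 0 2 ∨ σ = Equiv.swap 0 2 * Equiv.swap 1 2 ∨
    σ = Equiv.swap 1 2 * Equiv.swap 0 2 * Equiv.swap 1 2 := by decide

theorem perm_three_odd : ∀ σ : Equiv.Perm (Fin 3), σ ≠ 1 → σ * σ * σ = 1 ∨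
    ∃ τ : Equiv.Perm (Fin 3), (σ * τ * σ⁻¹ * τ⁻¹) ^ 3 = 1 ∧ σ * τ * σ⁻¹ * τ⁻¹ ≠ 1 := by decide +kernel

variable {G : Type*} [Group G] [Finite G] {Q : Subgroup G} {z g : G} (P : Pair Q z g)
include P

local notation "X₀" => Q ⊔ Q.map (MulAut.conj g).toMonoidHom
local notation "x₀" => g * z * g⁻¹
local notation "A₀" => Q ⊓ Subgroup.centralizer ({g * z * g⁻¹} : Set G)
local notation "B₀" => Q.map (MulAut.conj g).toMonoidHom ⊓ Subgroup.centralizer ({z} : Set G)
local notation "R₀" => (Q.map (MulAut.conj g).toMonoidHom ⊓ Subgroup.centralizer ({z} : Set G)) ⊔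
  (Q ⊓ Subgroup.centralizer ({g * z * g⁻¹} : Set G))
local notation "V₀" => Subgroup.closure ({z, g * z * g⁻¹} : Set G)
local notation "C₀" => Subgroup.centralizer (Subgroup.closure ({z, g * z * g⁻¹} : Set G) : Set G)
local notation "N₀" => Subgroup.normalizer (Subgroup.closure ({z, g * z * g⁻¹} : Set G) : Set G)
local notation "E₀" => Q ⊓ Q.map (MulAut.conj g).toMonoidHom

omit [Finite G] in
theorem tri_injective : Function.Injective (tri z x₀) := by
  have h1 := P.pre.gen.ne_one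
  have h2 := P.pre'.gen.ne_one
  have h3 := P.ne
  intro i j h
  generalize g * z * g⁻¹ = x at *
  fin_cases i <;> fin_cases j <;> simp [tri] at h ⊢
  all_goals first
    | exact h3 h.symm
    | exact h3 h
    | exact h2 h
    | exact h1 h

omit [Finite G] in
theorem tri_mem (i : Fin 3) : tri z x₀ i ∈ V₀ := by
  rw [mem_V P]
  fin_cases i <;> simp [tri]

omit [Finite G] in
theorem exists_tri {v : G} (hv : v ∈ V₀) (h1 : v ≠ 1) : ∃ i, tri z x₀ i = v := by
  rcases (mem_V P v).1 hv with e | e | e | e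
  · exact absurd e h1
  · exact ⟨0, by simp [tri, e]⟩
  · exact ⟨1, by simp [tri, e]⟩
  · exact ⟨2, by simp [tri, e]⟩

omit [Finite G] in
theorem tri_ne_one (i : Fin 3) : tri z x₀ i ≠ 1 := by
  have h1 := P.pre.gen.ne_one
  have h2 := P.pre'.gen.ne_one
  have h3 := P.ne
  have hzz := P.pre.gen.sq
  generalize g * z * g⁻¹ = x at *
  fin_cases i <;> simp [tri]
  · exact h1
  · exact h2
  · intro e
    exact h3 (by rw [eq_inv_of_mul_eq_one_right e, inv_eq_of_mul_eq_one_right hzz])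

omit [Finite G] in
theorem conj_tri {y : G} (hy : y ∈ N₀) (i : Fin 3) :
    ∃ j, tri z x₀ j = y * tri z x₀ i * y⁻¹ :=
  exists_tri P ((Subgroup.mem_normalizer_iff.1 hy _).1 (tri_mem P i))
    fun e => tri_ne_one P i (conj_eq_one_iff.1 e)

/-- The index permutation induced by an element of the normaliser. -/
noncomputable def permFun (y : ↥N₀) (i : Fin 3) : Fin 3 := Classical.choose (conj_tri P y.2 i)

omit [Finite G] in
theorem permFun_spec (y : ↥N₀) (i : Fin 3) :
    tri z x₀ (permFun P y i) = (y : G) * tri z x₀ i * (y : G)⁻¹ :=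
  Classical.choose_spec (conj_tri P y.2 i)

/-- The action of the normaliser of the four-group on its three involutions. -/
noncomputable def triHom : ↥N₀ →* Equiv.Perm (Fin 3) where
  toFun y :=
    { toFun := permFun P y
      invFun := permFun P y⁻¹
      left_inv := fun i => tri_injective P (by rw [permFun_spec, permFun_spec]; simp [mul_assoc])
      right_inv := fun i => tri_injective P (by rw [permFun_spec, permFun_spec]; simp [mul_assoc]) }
  map_one' := Equiv.ext fun i => tri_injective P (by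
    show tri z x₀ (permFun P 1 i) = tri z x₀ i
    rw [permFun_spec]; simp)
  map_mul' u v := Equiv.ext fun i => tri_injective P (by
    show tri z x₀ (permFun P (u * v) i) = tri z x₀ (permFun P u (permFun P v i))
    rw [permFun_spec, permFun_spec, permFun_spec]; simp [mul_assoc])

omit [Finite G] in
theorem triHom_eq {y : ↥N₀} {i j : Fin 3}
    (h : (y : G) * tri z x₀ i * (y : G)⁻¹ = tri z x₀ j) : triHom P y i = j :=
  tri_injective P ((permFun_spec P y i).trans h)

omit [Finite G] in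
theorem triHom_ker {y : ↥N₀} : triHom P y = 1 ↔ (y : G) ∈ C₀ := by
  constructor
  · intro h
    have e : ∀ i, (y : G) * tri z x₀ i * (y : G)⁻¹ = tri z x₀ i := fun i => by
      rw [← permFun_spec P y i]
      exact congrArg (tri z x₀) (by
        show (triHom P y) i = i
        rw [h]; rfl)
    refine mem_C.2 ⟨?_, ?_⟩
    · have := e 0; simp [tri] at this; exact mul_inv_eq_iff_eq_mul.1 this
    · have := e 1; simp [tri] at this; exact mul_inv_eq_iff_eq_mul.1 (by simpa [mul_assoc] using this)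
  · intro h
    obtain ⟨c1, c2⟩ := mem_C.1 h
    refine Equiv.ext fun i => triHom_eq P ?_
    fin_cases i <;> simp only [Equiv.Perm.one_apply, tri] <;> simp only [Fin.zero_eta, Fin.mk_one, Fin.reduceFinMk, Matrix.cons_val_zero, Matrix.cons_val_one, Matrix.cons_val_two, Matrix.head_cons, Matrix.tail_cons, Matrix.cons_val]
    · exact mul_inv_eq_iff_eq_mul.2 c1
    · exact mul_inv_eq_iff_eq_mul.2 c2
    · calc (y : G) * (z * x₀) * (y : G)⁻¹ = ((y : G) * z) * (x₀ * (y : G)⁻¹) := by group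
        _ = z * ((y : G) * x₀) * (y : G)⁻¹ := by rw [c1]; group
        _ = z * x₀ := by rw [c2]; group

theorem triHom_a {a : G} (ha : a ∈ Q) (hax : a * x₀ * a⁻¹ = z * x₀) :
    triHom P ⟨a, X_le_N P (le_sup_left (b := Q.map (MulAut.conj g).toMonoidHom) ha)⟩ =
      Equiv.swap 1 2 := by
  refine Equiv.ext fun i => triHom_eq P ?_
  have e2 : a * (z * x₀) * a⁻¹ = x₀ := by
    calc a * (z * x₀) * a⁻¹ = (a * z * a⁻¹) * (a * x₀ * a⁻¹) := by group
      _ = x₀ := by rw [Q_fix P ha, hax, ← mul_assoc, P.pre.gen.sq, one_mul]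
  have e0 := Q_fix P ha
  have hp : (⟨a, X_le_N P (le_sup_left (b := Q.map (MulAut.conj g).toMonoidHom) ha)⟩ : ↥N₀).1 = a := rfl
  rw [hp]
  generalize g * z * g⁻¹ = x at e0 hax e2 ⊢
  fin_cases i
  · simpa [tri, Equiv.swap_apply_def] using e0
  · simpa [tri] using hax
  · simpa [tri] using e2

theorem triHom_b {b : G} (hb : b ∈ Q.map (MulAut.conj g).toMonoidHom)
    (hbz : b * z * b⁻¹ = z * x₀) :
    triHom P ⟨b, X_le_N P (le_sup_right (a := Q) hb)⟩ = Equiv.swap 0 2 := by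
  refine Equiv.ext fun i => triHom_eq P ?_
  have e2 : b * (z * x₀) * b⁻¹ = z := by
    calc b * (z * x₀) * b⁻¹ = (b * z * b⁻¹) * (b * x₀ * b⁻¹) := by group
      _ = z := by rw [hbz, Q'_fix P hb, mul_assoc, P.pre'.gen.sq, mul_one]
  have e1 := Q'_fix P hb
  have hp : (⟨b, X_le_N P (le_sup_right (a := Q) hb)⟩ : ↥N₀).1 = b := rfl
  rw [hp]
  generalize g * z * g⁻¹ = x at e1 hbz e2 ⊢
  fin_cases i
  · simpa [tri] using hbz
  · simpa [tri, Equiv.swap_apply_def] using e1
  · simpa [tri] using e2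

/-- The restriction to the generated subgroup. -/
noncomputable def triX : ↥X₀ →* Equiv.Perm (Fin 3) :=
  (triHom P).comp (Subgroup.inclusion (X_le_N P))

theorem triX_surjective : Function.Surjective (triX P) := by
  obtain ⟨a, ha, hax⟩ := exists_a P
  obtain ⟨b, hb, hbz⟩ := exists_b P
  let a' : ↥X₀ := ⟨a, le_sup_left (b := Q.map (MulAut.conj g).toMonoidHom) ha⟩
  let b' : ↥X₀ := ⟨b, le_sup_right (a := Q) hb⟩
  have ea : triX P a' = Equiv.swap 1 2 := triHom_a P ha hax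
  have eb : triX P b' = Equiv.swap 0 2 := triHom_b P hb hbz
  intro σ
  rcases perm_three σ with e | e | e | e | e | e
  · exact ⟨1, by rw [map_one, e]⟩
  · exact ⟨a', by rw [ea, e]⟩
  · exact ⟨b', by rw [eb, e]⟩
  · exact ⟨a' * b', by rw [map_mul, ea, eb, e]⟩
  · exact ⟨b' * a', by rw [map_mul, ea, eb, e]⟩
  · exact ⟨a' * b' * a', by rw [map_mul, map_mul, ea, eb, e]⟩

theorem triX_ker {y : ↥X₀} : triX P y = 1 ↔ (y : G) ∈ C₀ := triHom_ker P

theorem R_eq : R₀ = X₀ ⊓ C₀ := by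
  refine le_antisymm (le_inf R_le_X (R_le_C P)) fun y hy => ?_
  obtain ⟨a, ha, hax⟩ := exists_a P
  obtain ⟨b, hb, hbz⟩ := exists_b P
  let a' : ↥X₀ := ⟨a, le_sup_left (b := Q.map (MulAut.conj g).toMonoidHom) ha⟩
  let b' : ↥X₀ := ⟨b, le_sup_right (a := Q) hb⟩
  have ea : triX P a' = Equiv.swap 1 2 := triHom_a P ha hax
  have eb : triX P b' = Equiv.swap 0 2 := triHom_b P hb hbz
  let y' : ↥X₀ := ⟨y, hy.1⟩
  have ey : triX P y' = 1 := (triX_ker P).2 hy.2
  have key : ∀ w : ↥X₀, (w : G)⁻¹ * y ∈ R₀ → triX P w = 1 := fun w hw => by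
    have h1 : triX P (w⁻¹ * y') = 1 := (triX_ker P).2 (R_le_C P hw)
    rw [map_mul, ey, mul_one, map_inv, inv_eq_one] at h1
    exact h1
  rcases X_cosets P ha hax hb hbz hy.1 with h | h | h | h | h | h
  · exact h
  · exact absurd ((key a' h).symm.trans ea).symm (by decide)
  · exact absurd ((key b' h).symm.trans eb).symm (by decide)
  · have := key (a' * b') h
    rw [map_mul, ea, eb] at this
    exact absurd this (by decide)
  · have := key (b' * a') h
    rw [map_mul, ea, eb] at this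
    exact absurd this (by decide)
  · have := key (a' * b' * a') h
    rw [map_mul, map_mul, ea, eb] at this
    exact absurd this (by decide)

theorem quotient_iso : ∃ _h : ((R₀).subgroupOf X₀).Normal,
    Nonempty (↥X₀ ⧸ (R₀).subgroupOf X₀ ≃* Equiv.Perm (Fin 3)) := by
  have hk : (R₀).subgroupOf X₀ = (triX P).ker := by
    ext y
    rw [Subgroup.mem_subgroupOf, MonoidHom.mem_ker, triX_ker P, R_eq P, Subgroup.mem_inf]
    exact ⟨fun h => h.2, fun h => ⟨y.2, h⟩⟩
  have hn : ((R₀).subgroupOf X₀).Normal := hk ▸ MonoidHom.normal_ker _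
  exact ⟨hn, ⟨(QuotientGroup.quotientMulEquivOfEq hk).trans
    (QuotientGroup.quotientKerEquivOfSurjective (triX P) (triX_surjective P))⟩⟩

theorem isPGroup_R (hQ : IsPGroup 2 Q) : IsPGroup 2 (R₀ : Subgroup G) := by
  have h1 : IsPGroup 2 (B₀ : Subgroup G) := (hQ.map _).to_le inf_le_left
  have h2 : IsPGroup 2 (A₀ : Subgroup G) := hQ.to_le inf_le_left
  refine h1.to_sup_of_normal_right' h2 fun b hb => ?_
  rw [Subgroup.mem_normalizer_iff]
  intro a
  refine ⟨fun ha => C_normalizes_A P (B_le_C P hb) ha, fun ha => ?_⟩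
  have := C_normalizes_A P (inv_mem (B_le_C P hb)) ha
  rwa [show b⁻¹ * (b * a * b⁻¹) * b⁻¹⁻¹ = a by group] at this

theorem R_eq_core (hQ : IsPGroup 2 Q) :
    R₀ = (Cfsg.pCore 2 ↥X₀).map (X₀ : Subgroup G).subtype := by
  refine le_antisymm ?_ ?_
  · intro r hr
    obtain ⟨hn, -⟩ := quotient_iso P
    refine ⟨⟨r, R_le_X hr⟩, Solvable.le_pCore 2 hn ?_ (Subgroup.mem_subgroupOf.2 hr), rfl⟩
    exact (isPGroup_R P hQ).comap_subtype
  · rw [R_eq P]
    refine le_inf (Subgroup.map_subtype_le _) ?_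
    rintro _ ⟨y, hy, rfl⟩
    refine (triX_ker P).1 ?_
    have hN : ((Cfsg.pCore 2 ↥X₀).map (triX P)).Normal :=
      (Solvable.pCore_normal 2).map _ (triX_surjective P)
    have hT : IsPGroup 2 ↥((Cfsg.pCore 2 ↥X₀).map (triX P)) := (Solvable.isPGroup_pCore 2).map _
    have h3 : ∀ s ∈ (Cfsg.pCore 2 ↥X₀).map (triX P), s ^ 3 = 1 → s = 1 := fun s hs h3 => by
      obtain ⟨k, hk⟩ := hT ⟨s, hs⟩
      have hk' : s ^ 2 ^ k = 1 := congrArg Subtype.val hk
      rw [← orderOf_eq_one_iff]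
      exact Nat.eq_one_of_dvd_coprimes (Nat.Coprime.pow_left k (by norm_num))
        (orderOf_dvd_of_pow_eq_one hk') (orderOf_dvd_of_pow_eq_one h3)
    by_contra hne
    have hs : triX P y ∈ (Cfsg.pCore 2 ↥X₀).map (triX P) := Subgroup.mem_map_of_mem _ hy
    rcases perm_three_odd _ hne with e | ⟨τ, e, hne'⟩
    · exact hne (h3 _ hs (by rw [pow_three, ← mul_assoc]; exact e))
    · refine hne' (h3 _ ?_ e)
      rw [mul_assoc (triX P y * τ), mul_assoc]
      exact mul_mem hs (by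
        rw [← mul_assoc]
        exact hN.conj_mem _ (inv_mem hs) τ)

theorem N_decomp {y : G} (hy : y ∈ N₀) : ∃ u ∈ X₀, u⁻¹ * y ∈ C₀ := by
  obtain ⟨u, hu⟩ := triX_surjective P (triHom P ⟨y, hy⟩)
  have h := (triHom_ker P (y := (Subgroup.inclusion (X_le_N P) u)⁻¹ * ⟨y, hy⟩)).1 (by
    rw [map_mul, map_inv, show triHom P (Subgroup.inclusion (X_le_N P) u) = triX P u from rfl, hu,
      inv_mul_cancel])
  exact ⟨u, u.2, h⟩

omit [Finite G] in
theorem C_eq : Subgroup.centralizer ({z} : Set G) ⊓ C₀ = C₀ :=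
  inf_eq_right.2 fun c hc => Subgroup.mem_centralizer_singleton_iff.2 (mem_C.1 hc).1

theorem normalizer_eq : N₀ = X₀ ⊔ (Subgroup.centralizer ({z} : Set G) ⊓ C₀) := by
  rw [C_eq P]
  refine le_antisymm (fun y hy => ?_) (sup_le (X_le_N P) (C_le_N P))
  obtain ⟨u, hu, hc⟩ := N_decomp P hy
  have := mul_mem (le_sup_left (b := C₀) hu) (le_sup_right (a := X₀) hc)
  rwa [mul_inv_cancel_left] at this

theorem X_normal {y u : G} (hy : y ∈ N₀) (hu : u ∈ X₀) : y * u * y⁻¹ ∈ X₀ := by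
  obtain ⟨v, hv, hc⟩ := N_decomp P hy
  obtain ⟨c1, c2⟩ := mem_C.1 hc
  have hle : X₀ ≤ (X₀).comap (MulAut.conj (v⁻¹ * y)).toMonoidHom := sup_le
    (fun q hq => le_sup_left (b := Q.map (MulAut.conj g).toMonoidHom) (P.pre.conj_mem c1 hq))
    (fun q hq => le_sup_right (a := Q) (P.pre'.conj_mem c2 hq))
  have h1 : v⁻¹ * y * u * (v⁻¹ * y)⁻¹ ∈ X₀ := hle hu
  rw [show y * u * y⁻¹ = v * (v⁻¹ * y * u * (v⁻¹ * y)⁻¹) * v⁻¹ by group]
  exact mul_mem (mul_mem hv h1) (inv_mem hv)

theorem comm_X_C {u c : G} (hu : u ∈ X₀) (hc : c ∈ C₀) : u * c * u⁻¹ * c⁻¹ ∈ R₀ := by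
  rw [R_eq P]
  refine ⟨?_, ?_⟩
  · rw [show u * c * u⁻¹ * c⁻¹ = u * (c * u⁻¹ * c⁻¹) by group]
    exact mul_mem hu (X_normal P (C_le_N P hc) (inv_mem hu))
  · refine Subgroup.mul_mem _ ?_ (Subgroup.inv_mem _ hc)
    have := (triHom_ker P (y := ⟨u, X_le_N P hu⟩ * ⟨c, C_le_N P hc⟩ * ⟨u, X_le_N P hu⟩⁻¹)).1 (by
      rw [map_mul, map_mul, map_inv, (triHom_ker P (y := ⟨c, C_le_N P hc⟩)).2 hc, mul_one,
        mul_inv_cancel])
    exact this

theorem relIndex_six : (C₀).relIndex N₀ = 6 := by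
  have hk : (C₀).subgroupOf N₀ = (triHom P).ker := by
    ext y
    rw [Subgroup.mem_subgroupOf, MonoidHom.mem_ker, triHom_ker P]
  have hs : Function.Surjective (triHom P) := fun σ => by
    obtain ⟨u, hu⟩ := triX_surjective P σ
    exact ⟨_, hu⟩
  rw [Subgroup.relIndex, hk, Subgroup.index_ker, MonoidHom.range_eq_top.2 hs,
    Nat.card_congr Subgroup.topEquiv.toEquiv, Nat.card_perm, Nat.card_fin]
  rfl

end CfsgLib.LargeExtra
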