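/-
The structure of the radical of the four-group normaliser.
-/
import Cfsg.Agent.LargeExtra.PairMain

set_option autoImplicit false
set_option quotPrecheck false

namespace CfsgLib.LargeExtra

open CfsgLib.Extra2
open scoped commutatorElement

variable {G : Type*} [Group G] [Finite G] {Q : Subgroup G} {z g : G} (P : Pair Q z g)
include P

local notation "X₀" => Q ⊔ Q.map (MulAut.conj g).toMonoidHom
local notation "x₀" => g * z * g⁻¹
local notation "A₀" => Q ⊓ Subgroup.centralizer ({g * z * g⁻¹} : Set G)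
local notation "B₀" => Q.map (MulAut.conj g).toMonoidHom ⊓ Subgroup.centralizer ({z} : Set G)
local notation "R₀" => (Q.map (MulAut.conj g).toMonoidHom ⊓ Subgroup.centralizer ({z} : Set G)) ⊔
  (Q ⊓ Subgroup.centralizer ({g * z * g⁻¹} : Set G))
local notation "V₀" => Subgroup.closure ({z, g * z * g⁻¹} : Set G)
local notation "C₀" => Subgroup.centralizer (Subgroup.closure ({z, g * z * g⁻¹} : Set G) : Set G)
local notation "E₀" => Q ⊓ Q.map (MulAut.conj g).toMonoidHom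

omit [Finite G] in
theorem V_le_E : V₀ ≤ E₀ := by
  rw [Subgroup.closure_le]
  rintro v (e | e) <;> rw [show v = _ from e]
  exacts [⟨P.pre.gen.mem, P.zQ⟩, ⟨P.xQ, P.pre'.gen.mem⟩]

omit [Finite G] in
theorem meet_eq : B₀ ⊓ A₀ = E₀ := by
  refine le_antisymm (fun y hy => ⟨hy.2.1, hy.1.1⟩) fun y hy => ⟨⟨hy.2, ?_⟩, ⟨hy.1, ?_⟩⟩
  · exact Subgroup.mem_centralizer_singleton_iff.2 (P.pre.gen.comm_z y hy.1).eq
  · exact Subgroup.mem_centralizer_singleton_iff.2 (P.pre'.gen.comm_z y hy.2).eq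

omit [Finite G] in
theorem E_le_A : E₀ ≤ A₀ := fun y hy => ((meet_eq P).symm ▸ hy : y ∈ B₀ ⊓ A₀).2

omit [Finite G] in
theorem E_le_B : E₀ ≤ B₀ := fun y hy => ((meet_eq P).symm ▸ hy : y ∈ B₀ ⊓ A₀).1

omit [Finite G] in
theorem eq_one_of_z_x {y : G} (h1 : y = 1 ∨ y = z) (h2 : y = 1 ∨ y = x₀) : y = 1 := by
  rcases h1 with e | e
  · exact e
  rcases h2 with e' | e'
  · exact e'
  · exact absurd (e'.symm.trans e) P.ne

omit [Finite G] in
theorem E_comm {a b : G} (ha : a ∈ E₀) (hb : b ∈ E₀) : a * b = b * a :=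
  mul_inv_eq_iff_eq_mul.1 (mul_inv_eq_one.1
    (eq_one_of_z_x P (P.pre.gen.comm a ha.1 b hb.1) (P.pre'.gen.comm a ha.2 b hb.2)))

omit [Finite G] in
theorem E_elementary : Cfsg.IsElementaryAbelian 2 (E₀ : Subgroup G) :=
  ⟨⟨⟨fun a b => Subtype.ext (E_comm P a.2 b.2)⟩⟩, fun a ha => by
    rw [pow_two]; exact eq_one_of_z_x P (P.pre.gen.square a ha.1) (P.pre'.gen.square a ha.2)⟩

omit [Finite G] in
theorem comm_AB {a b : G} (ha : a ∈ A₀) (hb : b ∈ B₀) : a * b * a⁻¹ * b⁻¹ ∈ E₀ := by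
  obtain ⟨b1, -⟩ := mem_C.1 (B_le_C P hb)
  obtain ⟨-, a2⟩ := mem_C.1 (A_le_C P ha)
  refine ⟨?_, ?_⟩
  · rw [show a * b * a⁻¹ * b⁻¹ = a * (b * a⁻¹ * b⁻¹) by group]
    exact Subgroup.mul_mem _ ha.1 (P.pre.conj_mem b1 (Subgroup.inv_mem _ ha.1))
  · exact Subgroup.mul_mem _ (P.pre'.conj_mem a2 hb.1) (Subgroup.inv_mem _ hb.1)

omit [Finite G] in
theorem C_normalizes_E {c e : G} (hc : c ∈ C₀) (he : e ∈ E₀) : c * e * c⁻¹ ∈ E₀ := by
  obtain ⟨c1, c2⟩ := mem_C.1 hc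
  exact ⟨P.pre.conj_mem c1 he.1, P.pre'.conj_mem c2 he.2⟩

omit [Finite G] in
theorem exists_prod {r : G} (hr : r ∈ R₀) : ∃ b ∈ B₀, ∃ a ∈ A₀, r = b * a := by
  let T : Subgroup G :=
    { carrier := {r | ∃ b ∈ B₀, ∃ a ∈ A₀, r = b * a}
      one_mem' := ⟨1, one_mem _, 1, one_mem _, (one_mul _).symm⟩
      mul_mem' := by
        rintro _ _ ⟨b, hb, a, ha, rfl⟩ ⟨b', hb', a', ha', rfl⟩
        refine ⟨b * b', mul_mem hb hb', (b'⁻¹ * a * b'⁻¹⁻¹) * a', mul_mem ?_ ha', by group⟩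
        exact C_normalizes_A P (inv_mem (B_le_C P hb')) ha
      inv_mem' := by
        rintro _ ⟨b, hb, a, ha, rfl⟩
        refine ⟨b⁻¹, inv_mem hb, b * a⁻¹ * b⁻¹, ?_, by group⟩
        exact C_normalizes_A P (B_le_C P hb) (inv_mem ha) }
  have hle : R₀ ≤ T := sup_le (fun b hb => ⟨b, hb, 1, one_mem _, (mul_one b).symm⟩)
    (fun a ha => ⟨1, one_mem _, a, ha, (one_mul a).symm⟩)
  exact hle hr

omit [Finite G] in
theorem comm_R {r s : G} (hr : r ∈ R₀) (hs : s ∈ R₀) : r * s * r⁻¹ * s⁻¹ ∈ E₀ := by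
  have hzE : z ∈ E₀ := ⟨P.pre.gen.mem, P.zQ⟩
  have hxE : x₀ ∈ E₀ := ⟨P.xQ, P.pre'.gen.mem⟩
  have hb0 : ∀ u, (u ∈ A₀ ∨ u ∈ B₀) → ∀ v, (v ∈ A₀ ∨ v ∈ B₀) → u * v * u⁻¹ * v⁻¹ ∈ E₀ := by
    rintro u (hu | hu) v (hv | hv)
    · rcases P.pre.gen.comm u hu.1 v hv.1 with e | e <;> rw [e]
      exacts [one_mem _, hzE]
    · exact comm_AB P hu hv
    · rw [show u * v * u⁻¹ * v⁻¹ = (v * u * v⁻¹ * u⁻¹)⁻¹ by group]
      exact inv_mem (comm_AB P hv hu)
    · rcases P.pre'.gen.comm u hu.1 v hv.1 with e | e <;> rw [e]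
      exacts [one_mem _, hxE]
  have step : ∀ u, u ∈ C₀ → ∀ v, v ∈ C₀ → ∀ w, u * w * u⁻¹ * w⁻¹ ∈ E₀ → v * w * v⁻¹ * w⁻¹ ∈ E₀ →
      (u * v) * w * (u * v)⁻¹ * w⁻¹ ∈ E₀ := fun u hu v _ w h1 h2 => by
    rw [show (u * v) * w * (u * v)⁻¹ * w⁻¹ =
      (u * (v * w * v⁻¹ * w⁻¹) * u⁻¹) * (u * w * u⁻¹ * w⁻¹) by group]
    exact mul_mem (C_normalizes_E P hu h2) h1
  obtain ⟨b, hb, a, ha, rfl⟩ := exists_prod P hr
  have one : ∀ v, (v ∈ A₀ ∨ v ∈ B₀) → (b * a) * v * (b * a)⁻¹ * v⁻¹ ∈ E₀ := fun v hv =>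
    step b (B_le_C P hb) a (A_le_C P ha) v (hb0 b (Or.inr hb) v hv) (hb0 a (Or.inl ha) v hv)
  obtain ⟨b', hb', a', ha', rfl⟩ := exists_prod P hs
  rw [show b * a * (b' * a') * (b * a)⁻¹ * (b' * a')⁻¹ =
    (b * a * b' * (b * a)⁻¹ * b'⁻¹) * (b' * (b * a * a' * (b * a)⁻¹ * a'⁻¹) * b'⁻¹) by group]
  exact mul_mem (one b' (Or.inr hb')) (C_normalizes_E P (B_le_C P hb') (one a' (Or.inl ha')))

omit [Finite G] in
theorem sq_R {r : G} (hr : r ∈ R₀) : r ^ 2 ∈ E₀ := by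
  obtain ⟨b, hb, a, ha, rfl⟩ := exists_prod P hr
  have hzE : z ∈ E₀ := ⟨P.pre.gen.mem, P.zQ⟩
  have hxE : x₀ ∈ E₀ := ⟨P.xQ, P.pre'.gen.mem⟩
  have hbb : b * b ∈ E₀ := by
    rcases P.pre'.gen.square b hb.1 with e | e <;> rw [e]
    exacts [one_mem _, hxE]
  have haa : a * a ∈ E₀ := by
    rcases P.pre.gen.square a ha.1 with e | e <;> rw [e]
    exacts [one_mem _, hzE]
  rw [show (b * a) ^ 2 = (b * (a * b * a⁻¹ * b⁻¹) * b⁻¹) * (b * b) * (a * a) by rw [pow_two]; group]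
  exact mul_mem (mul_mem (C_normalizes_E P (B_le_C P hb) (comm_AB P ha hb)) hbb) haa

theorem comm_X_E {u e : G} (hu : u ∈ X₀) (he : e ∈ E₀) : u * e * u⁻¹ * e⁻¹ ∈ V₀ := by
  have h1 : z ∈ V₀ := Subgroup.subset_closure (Or.inl rfl)
  have h2 : x₀ ∈ V₀ := Subgroup.subset_closure (Or.inr rfl)
  have hN := X_le_N P
  let T : Subgroup G :=
    { carrier := {u | u ∈ Subgroup.normalizer (V₀ : Set G) ∧ ∀ e ∈ E₀, u * e * u⁻¹ * e⁻¹ ∈ V₀}
      one_mem' := ⟨one_mem _, fun e _ => by simp⟩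
      mul_mem' := by
        rintro a b ⟨ha, ha'⟩ ⟨hb, hb'⟩
        refine ⟨mul_mem ha hb, fun e he => ?_⟩
        rw [show a * b * e * (a * b)⁻¹ * e⁻¹ =
          (a * (b * e * b⁻¹ * e⁻¹) * a⁻¹) * (a * e * a⁻¹ * e⁻¹) by group]
        exact mul_mem ((Subgroup.mem_normalizer_iff.1 ha _).1 (hb' e he)) (ha' e he)
      inv_mem' := by
        rintro a ⟨ha, ha'⟩
        refine ⟨inv_mem ha, fun e he => ?_⟩
        rw [show a⁻¹ * e * a⁻¹⁻¹ * e⁻¹ = a⁻¹ * (a * e * a⁻¹ * e⁻¹)⁻¹ * a⁻¹⁻¹ by group]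
        exact (Subgroup.mem_normalizer_iff.1 (inv_mem ha) _).1 (inv_mem (ha' e he)) }
  have hle : X₀ ≤ T := by
    refine sup_le (fun q hq => ⟨hN (le_sup_left (b := Q.map (MulAut.conj g).toMonoidHom) hq),
      fun e he => ?_⟩) fun q hq => ⟨hN (le_sup_right (a := Q) hq), fun e he => ?_⟩
    · rcases P.pre.gen.comm q hq e he.1 with h | h <;> rw [h]
      exacts [one_mem _, h1]
    · rcases P.pre'.gen.comm q hq e he.2 with h | h <;> rw [h]
      exacts [one_mem _, h2]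
  exact (hle hu).2 e he

theorem bracket_le : ⁅(X₀ : Subgroup G), (E₀ : Subgroup G)⁆ ≤ V₀ := by
  rw [Subgroup.commutator_le]
  intro u hu e he
  rw [commutatorElement_def]
  exact comm_X_E P hu he

theorem center_R : (Subgroup.center ↥R₀).map (R₀ : Subgroup G).subtype = V₀ := by
  refine le_antisymm ?_ fun v hv => ?_
  swap
  · have hvR : v ∈ R₀ := le_sup_right (a := B₀) (E_le_A P (V_le_E P hv))
    refine ⟨⟨v, hvR⟩, Subgroup.mem_center_iff.2 fun r => Subtype.ext ?_, rfl⟩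
    exact (Subgroup.mem_centralizer_iff.1 (R_le_C P r.2) v hv).symm
  rintro _ ⟨⟨y, hyR⟩, hy, rfl⟩
  show y ∈ V₀
  have hyc : ∀ r ∈ R₀, r * y = y * r := fun r hr =>
    congrArg Subtype.val (Subgroup.mem_center_iff.1 hy ⟨r, hr⟩)
  obtain ⟨q, hq, hqx⟩ := exists_a P
  obtain ⟨y1, -⟩ := mem_C.1 (R_le_C P hyR)
  have hzx := zx P
  have hzV : z ∈ V₀ := Subgroup.subset_closure (Or.inl rfl)
  have hxV : x₀ ∈ V₀ := Subgroup.subset_closure (Or.inr rfl)
  have hqX : q ∈ X₀ := le_sup_left (b := Q.map (MulAut.conj g).toMonoidHom) hq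
  obtain ⟨u, hu⟩ : ∃ u, u = q * y * q⁻¹ * y⁻¹ := ⟨_, rfl⟩
  have hquy : q * y * q⁻¹ = u * y := by rw [hu]; group
  have huQ : u ∈ Q := by
    rw [hu, show q * y * q⁻¹ * y⁻¹ = q * (y * q⁻¹ * y⁻¹) by group]
    exact Subgroup.mul_mem _ hq (P.pre.conj_mem y1 (Subgroup.inv_mem _ hq))
  have hconjc : ∀ r ∈ R₀, r * (q * y * q⁻¹) = (q * y * q⁻¹) * r := fun r hr => by
    have h := hyc _ (Q_normalizes_R P (inv_mem hq) hr)
    rw [inv_inv] at h
    calc r * (q * y * q⁻¹) = q * ((q⁻¹ * r * q) * y) * q⁻¹ := by group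
      _ = q * (y * (q⁻¹ * r * q)) * q⁻¹ := by rw [h]
      _ = _ := by group
  have hA : ∀ v ∈ A₀, v * u = u * v := fun v hv => by
    have hvR : v ∈ R₀ := le_sup_right (a := B₀) hv
    rw [hu]
    have e1 := hconjc v hvR
    have e2 : v * y⁻¹ = y⁻¹ * v := ((show Commute v y from hyc v hvR).inv_right).eq
    calc v * (q * y * q⁻¹ * y⁻¹) = (v * (q * y * q⁻¹)) * y⁻¹ := by group
      _ = (q * y * q⁻¹) * (v * y⁻¹) := by rw [e1]; group
      _ = (q * y * q⁻¹) * (y⁻¹ * v) := by rw [e2]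
      _ = q * y * q⁻¹ * y⁻¹ * v := by group
  have hcc := centralizer_centralizer P.pre.gen hzV ((V_le_E P).trans inf_le_left)
  have hAeq : Q ⊓ Subgroup.centralizer (V₀ : Set G) = A₀ := by
    ext v
    rw [Subgroup.mem_inf, Subgroup.mem_inf]
    refine and_congr_right fun hv => ?_
    rw [mem_C, Subgroup.mem_centralizer_singleton_iff]
    exact and_iff_right (P.pre.gen.comm_z v hv).eq
  rw [hAeq] at hcc
  have huV : u ∈ V₀ := by
    rw [← hcc]
    exact ⟨huQ, Subgroup.mem_centralizer_iff.2 hA⟩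
  -- `u` is trivial or `z`
  have huz : u = 1 ∨ u = z := by
    have hq2 : q * q * y * (q * q)⁻¹ = y := by
      rcases P.pre.gen.square q hq with e | e <;> rw [e]
      · group
      · rw [← y1, mul_inv_cancel_right]
    have hbad : u = x₀ ∨ u = z * x₀ → q * u * q⁻¹ = u * z := by
      rintro (e | e) <;> rw [e]
      · rw [hqx, hzx]
      · calc q * (z * x₀) * q⁻¹ = (q * z * q⁻¹) * (q * x₀ * q⁻¹) := by group
          _ = x₀ := by rw [Q_fix P hq, hqx, ← mul_assoc, P.pre.gen.sq, one_mul]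
          _ = z * x₀ * z := by rw [hzx, mul_assoc x₀, P.pre.gen.sq, mul_one]
    rcases (mem_V P u).1 huV with e | e | e | e
    · exact Or.inl e
    · exact Or.inr e
    all_goals
      exfalso
      apply P.pre.gen.ne_one
      have h1 := hbad (by simp [e])
      have huu : u * u = 1 := eq_one_of_z_x P
        (P.pre.gen.square u huQ) (P.pre'.gen.square u (V_le_E P huV).2)
      have h2 : q * q * y * (q * q)⁻¹ = z * y := by
        calc q * q * y * (q * q)⁻¹ = (q * u * q⁻¹) * (q * y * q⁻¹) := by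
              rw [show q * q * y * (q * q)⁻¹ = q * (q * y * q⁻¹) * q⁻¹ by group, hquy,
                show q * (u * y) * q⁻¹ = (q * u * q⁻¹) * (q * y * q⁻¹) by group, hquy]
          _ = z * (u * u) * y := by
              rw [h1, hquy, (P.pre.gen.comm_z u huQ).eq]; group
          _ = z * y := by rw [huu, mul_one]
      rw [hq2] at h2
      exact mul_eq_right.1 h2.symm
  -- adjust by `x₀` to centralise `Q`
  obtain ⟨y', hyV, hyC, hyq⟩ : ∃ y', (y' ∈ V₀ → y ∈ V₀) ∧ (∀ v ∈ A₀, v * y' = y' * v) ∧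
      q * y' = y' * q := by
    rcases huz with e | e
    · refine ⟨y, id, fun v hv => hyc v (le_sup_right (a := B₀) hv), ?_⟩
      rw [e, one_mul] at hquy
      exact mul_inv_eq_iff_eq_mul.1 hquy
    · refine ⟨y * x₀, fun h => ?_, fun v hv => ?_, mul_inv_eq_iff_eq_mul.1 ?_⟩
      · simpa [mul_assoc] using mul_mem h (inv_mem hxV)
      · rw [← mul_assoc, hyc v (le_sup_right (a := B₀) hv), mul_assoc,
          Subgroup.mem_centralizer_singleton_iff.1 hv.2, ← mul_assoc]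
      · calc q * (y * x₀) * q⁻¹ = (q * y * q⁻¹) * (q * x₀ * q⁻¹) := by group
          _ = z * y * (z * x₀) := by rw [hquy, hqx, e]
          _ = (y * z) * (z * x₀) := by rw [y1]
          _ = y * x₀ := by rw [mul_assoc, ← mul_assoc z z, P.pre.gen.sq, one_mul]
  apply hyV
  have hQ : ∀ v ∈ Q, v * y' = y' * v := fun v hv => by
    rcases Q_conj_x P hv with e | e
    · exact hyC v ⟨hv, Subgroup.mem_centralizer_singleton_iff.2 (mul_inv_eq_iff_eq_mul.1 e)⟩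
    · have hA' : q⁻¹ * v ∈ A₀ := by
        refine ⟨Subgroup.mul_mem _ (Subgroup.inv_mem _ hq) hv,
          Subgroup.mem_centralizer_singleton_iff.2 (mul_inv_eq_iff_eq_mul.1 ?_)⟩
        calc q⁻¹ * v * x₀ * (q⁻¹ * v)⁻¹ = q⁻¹ * (v * x₀ * v⁻¹) * q := by group
          _ = q⁻¹ * (q * x₀ * q⁻¹) * q := by rw [e, hqx]
          _ = x₀ := by group
      calc v * y' = q * ((q⁻¹ * v) * y') := by group
        _ = q * (y' * (q⁻¹ * v)) := by rw [hyC _ hA']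
        _ = (q * y') * (q⁻¹ * v) := by group
        _ = (y' * q) * (q⁻¹ * v) := by rw [hyq]
        _ = y' * v := by group
  have hy'Q := P.pre.self (Subgroup.mem_centralizer_iff.2 hQ)
  rcases P.pre.gen.center_iff y' hy'Q (fun v hv => (hQ v hv).symm) with e | e <;> rw [e]
  exacts [one_mem _, hzV]

theorem E_le_upper : E₀ ≤ (Subgroup.upperCentralSeries ↥R₀ 2).map (R₀ : Subgroup G).subtype := by
  intro e he
  have heR : e ∈ R₀ := le_sup_right (a := B₀) (E_le_A P he)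
  refine ⟨⟨e, heR⟩, Subgroup.mem_upperCentralSeries_succ_iff.2 fun r => ?_, rfl⟩
  rw [Subgroup.upperCentralSeries_one]
  have hV : (e * r * e⁻¹ * (r : G)⁻¹) ∈ (Subgroup.center ↥R₀).map (R₀ : Subgroup G).subtype := by
    rw [center_R P]
    have h := inv_mem (comm_X_E P (R_le_X r.2) he)
    rwa [show ((r : G) * e * (r : G)⁻¹ * e⁻¹)⁻¹ = e * r * e⁻¹ * (r : G)⁻¹ by group] at h
  obtain ⟨w, hw, hwe⟩ := hV
  have : ⁅(⟨e, heR⟩ : ↥R₀), r⁆ = w := Subtype.ext (by rw [commutatorElement_def]; exact hwe.symm)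
  rwa [this]

theorem upper_three : Subgroup.upperCentralSeries ↥R₀ 3 = ⊤ := by
  rw [Subgroup.eq_top_iff']
  intro r
  refine Subgroup.mem_upperCentralSeries_succ_iff.2 fun s => ?_
  obtain ⟨w, hw, hwe⟩ := E_le_upper P (comm_R P r.2 s.2)
  have : ⁅r, s⁆ = w := Subtype.ext (by rw [commutatorElement_def]; exact hwe.symm)
  rwa [this]

end CfsgLib.LargeExtra
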