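import Cfsg.Prelude.Def_MonsterType
import Cfsg.Agent.Solvable.PGroupBasic
import Cfsg.Agent.Solvable.Basics
import Mathlib.GroupTheory.Subgroup.Centralizer
import Mathlib.LinearAlgebra.Matrix.GeneralLinearGroup.Defs
import Mathlib.LinearAlgebra.FiniteDimensional.Basic
import Mathlib.Algebra.Module.ZMod
import Mathlib.FieldTheory.Finiteness

/-!
The large extraspecial subgroup in the centraliser of a vector of the affine group over `GF(2)`.
-/

set_option autoImplicit false
set_option linter.style.haveILetI false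
set_option linter.unusedSectionVars false

namespace CfsgLib.Holomorph

open Subgroup Matrix

theorem zmod2_cases : ∀ s : ZMod 2, s = 0 ∨ s = 1 := by decide

variable {n : ℕ}

/-- The model of the translation group: a hyperplane and the distinguished vector. -/
abbrev V (n : ℕ) : Type := (Fin n → ZMod 2) × ZMod 2

/-- The shear `(a, c) ↦ (a, c + v ⬝ a)`. -/
def shear (v : Fin n → ZMod 2) : V n ≃+ V n where
  toFun x := (x.1, x.2 + v ⬝ᵥ x.1)
  invFun x := (x.1, x.2 + v ⬝ᵥ x.1)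
  left_inv x := by simp [add_assoc, CharTwo.add_self_eq_zero]
  right_inv x := by simp [add_assoc, CharTwo.add_self_eq_zero]
  map_add' x y := by simp [dotProduct_add, add_assoc, add_left_comm]

/-- The action of `GL n` on the hyperplane. -/
def blockMap (g : GL (Fin n) (ZMod 2)) : V n ≃+ V n where
  toFun x := ((g : Matrix (Fin n) (Fin n) (ZMod 2)) *ᵥ x.1, x.2)
  invFun x := (((g⁻¹ : GL (Fin n) (ZMod 2)) : Matrix (Fin n) (Fin n) (ZMod 2)) *ᵥ x.1, x.2)
  left_inv x := by simp [Matrix.mulVec_mulVec]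
  right_inv x := by simp [Matrix.mulVec_mulVec]
  map_add' x y := by simp [Matrix.mulVec_add]

/-- Shears as automorphisms of the multiplicative model. -/
def tauHom : Multiplicative (Fin n → ZMod 2) →* MulAut (Multiplicative (V n)) where
  toFun v := AddEquiv.toMultiplicative (shear v.toAdd)
  map_one' := MulEquiv.ext fun x => by
    show Multiplicative.ofAdd (shear (0 : Fin n → ZMod 2) x.toAdd) = x
    simp [shear]
  map_mul' v w := MulEquiv.ext fun x => by
    show Multiplicative.ofAdd (shear (v.toAdd + w.toAdd) x.toAdd) =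
      Multiplicative.ofAdd (shear v.toAdd (shear w.toAdd x.toAdd))
    simp [shear, add_dotProduct, add_assoc, add_comm (v.toAdd ⬝ᵥ _)]

/-- Block matrices as automorphisms of the multiplicative model. -/
def kappaHom : GL (Fin n) (ZMod 2) →* MulAut (Multiplicative (V n)) where
  toFun g := AddEquiv.toMultiplicative (blockMap g)
  map_one' := MulEquiv.ext fun x => by
    show Multiplicative.ofAdd (blockMap (1 : GL (Fin n) (ZMod 2)) x.toAdd) = x
    simp [blockMap]
  map_mul' g h := MulEquiv.ext fun x => by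
    show Multiplicative.ofAdd (blockMap (g * h) x.toAdd) =
      Multiplicative.ofAdd (blockMap g (blockMap h x.toAdd))
    simp [blockMap, Matrix.mulVec_mulVec]

theorem tauHom_apply (v : Fin n → ZMod 2) (a : Fin n → ZMod 2) (c : ZMod 2) :
    tauHom (Multiplicative.ofAdd v) (Multiplicative.ofAdd ((a, c) : V n)) =
      Multiplicative.ofAdd ((a, c + v ⬝ᵥ a) : V n) := rfl

theorem kappaHom_apply (g : GL (Fin n) (ZMod 2)) (a : Fin n → ZMod 2) (c : ZMod 2) :
    kappaHom g (Multiplicative.ofAdd ((a, c) : V n)) =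
      Multiplicative.ofAdd (((g : Matrix (Fin n) (Fin n) (ZMod 2)) *ᵥ a, c) : V n) := rfl

theorem tauHom_injective : Function.Injective (tauHom (n := n)) := by
  intro v w h
  apply Multiplicative.toAdd.injective
  funext i
  have h1 := DFunLike.congr_fun h (Multiplicative.ofAdd ((Pi.single i 1, 0) : V n))
  rw [← ofAdd_toAdd v, ← ofAdd_toAdd w, tauHom_apply, tauHom_apply] at h1
  simpa using h1

theorem kappaHom_injective : Function.Injective (kappaHom (n := n)) := by
  intro g h he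
  refine Units.ext (Matrix.ext_of_mulVec_single fun i => ?_)
  have h1 := DFunLike.congr_fun he (Multiplicative.ofAdd ((Pi.single i 1, 0) : V n))
  rw [kappaHom_apply, kappaHom_apply] at h1
  exact (Prod.ext_iff.1 (Multiplicative.ofAdd.injective h1)).1

/-- An automorphism fixing the distinguished vector is a block times a shear. -/
theorem exists_decomp (φ : MulAut (Multiplicative (V n)))
    (hφ : φ (Multiplicative.ofAdd ((0, 1) : V n)) = Multiplicative.ofAdd ((0, 1) : V n)) :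
    ∃ g v, φ = kappaHom g * tauHom (Multiplicative.ofAdd v) := by
  let ψ : V n →+ V n := (MulEquiv.toAdditive φ : _ ≃+ _).toAddMonoidHom
  have hψ : ∀ x, φ (Multiplicative.ofAdd x) = Multiplicative.ofAdd (ψ x) := fun _ => rfl
  have hψ1 : ψ (0, 1) = (0, 1) := Multiplicative.ofAdd.injective ((hψ _).symm.trans hφ)
  have hψinj : Function.Injective ψ := fun x y h => by
    have h' : φ (Multiplicative.ofAdd x) = φ (Multiplicative.ofAdd y) := by rw [hψ, hψ, h]
    exact Multiplicative.ofAdd.injective (φ.injective h')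
  have hc : ∀ (a : Fin n → ZMod 2) (c : ZMod 2), ψ (a, c) = ψ (a, 0) + (0, c) := by
    intro a c
    rw [show ((a, c) : V n) = (a, 0) + (0, c) by simp, map_add]
    rcases zmod2_cases c with rfl | rfl
    · rw [show ((0 : Fin n → ZMod 2), (0 : ZMod 2)) = (0 : V n) from rfl, map_zero]
    · rw [hψ1]
  let f : (Fin n → ZMod 2) →ₗ[ZMod 2] (Fin n → ZMod 2) :=
    AddMonoidHom.toZModLinearMap 2
      ((AddMonoidHom.fst _ _).comp (ψ.comp (AddMonoidHom.inl _ _)))
  have hf : ∀ a, f a = (ψ (a, 0)).1 := fun _ => rfl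
  let lam : (Fin n → ZMod 2) →ₗ[ZMod 2] ZMod 2 :=
    AddMonoidHom.toZModLinearMap 2
      ((AddMonoidHom.snd _ _).comp (ψ.comp (AddMonoidHom.inl _ _)))
  have hlam : ∀ a, lam a = (ψ (a, 0)).2 := fun _ => rfl
  have hinj : Function.Injective f := by
    rw [injective_iff_map_eq_zero]
    intro a ha
    have h0 : ψ (a, lam a) = ψ (0, 0) := by
      rw [hc, show ((0 : Fin n → ZMod 2), (0 : ZMod 2)) = (0 : V n) from rfl, map_zero]
      refine Prod.ext ?_ ?_
      · simpa [hf] using ha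
      · simp [hlam, CharTwo.add_self_eq_zero]
    exact (Prod.ext_iff.1 (hψinj h0)).1
  let g : GL (Fin n) (ZMod 2) := Matrix.GeneralLinearGroup.mk''
    (LinearMap.toMatrix' f) ((LinearMap.toMatrix' f).isUnit_iff_isUnit_det.1
      (Matrix.mulVec_injective_iff_isUnit.1 (by
        intro x y hxy
        simp only [← Matrix.toLin'_apply, Matrix.toLin'_toMatrix'] at hxy
        exact hinj hxy)))
  refine ⟨g, fun i => lam (Pi.single i 1), MulEquiv.ext fun x => ?_⟩
  obtain ⟨⟨a, c⟩, rfl⟩ := Multiplicative.ofAdd.surjective x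
  rw [hψ, MulAut.mul_apply, tauHom_apply, kappaHom_apply, hc]
  congr 1
  have hla : lam a = (fun i => lam (Pi.single i 1)) ⬝ᵥ a := by
    conv_lhs => rw [pi_eq_sum_univ' a]
    simp [map_sum, dotProduct, mul_comm]
  have hga : ((g : Matrix (Fin n) (Fin n) (ZMod 2)) *ᵥ a) = f a := by
    show LinearMap.toMatrix' f *ᵥ a = f a
    rw [← Matrix.toLin'_apply, Matrix.toLin'_toMatrix']
  ext : 1
  · simp [hga, hf]
  · simp only [Prod.snd_add]
    rw [← hla, hlam, add_comm]

/-- `GL n` moves a nonzero vector to any other. -/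
theorem exists_move {v w : Fin n → ZMod 2} (hv : v ≠ 0) (hw : w ≠ 0) :
    ∃ g : GL (Fin n) (ZMod 2), (g : Matrix (Fin n) (Fin n) (ZMod 2)) *ᵥ v = w := by
  by_cases hvw : v = w
  · exact ⟨1, by simp [hvw]⟩
  obtain ⟨l, hl1, hl0⟩ : ∃ l : Fin n → ZMod 2, l ⬝ᵥ v = 1 ∧ l ⬝ᵥ (v + w) = 0 := by
    obtain ⟨i, hi⟩ := Function.ne_iff.1 hv
    have h01 : ∀ c : ZMod 2, c ≠ 0 → c = 1 := by decide
    have hvi : v i = 1 := h01 _ hi
    by_cases hu : (v + w) i = 0
    · exact ⟨Pi.single i 1, by simpa using hvi, by simpa using hu⟩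
    have hui : (v + w) i = 1 := h01 _ hu
    have hne : v + w ≠ v := fun e => hw (by
      funext k
      have h2 := congrFun e k
      simpa using h2)
    obtain ⟨j, hj⟩ := Function.ne_iff.1 hne
    have key : ∀ x y : ZMod 2, x ≠ y → (x = 0 ∧ y = 1) ∨ (x = 1 ∧ y = 0) := by decide
    rcases key _ _ hj with ⟨h1, h2⟩ | ⟨h1, h2⟩
    · exact ⟨Pi.single j 1, by simpa using h2, by simpa using h1⟩
    · refine ⟨Pi.single i 1 + Pi.single j 1, ?_, ?_⟩
      · simp [add_dotProduct, hvi, h2]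
      · simp only [add_dotProduct, single_dotProduct, one_mul, hui, h1]
        decide
  let A : Matrix (Fin n) (Fin n) (ZMod 2) := 1 + Matrix.vecMulVec (v + w) l
  have hA : ∀ x, A *ᵥ x = x + (l ⬝ᵥ x) • (v + w) := fun x => by
    simp [A, Matrix.add_mulVec, Matrix.vecMulVec_mulVec]
  have hAA' : ∀ x, A *ᵥ (A *ᵥ x) = x := fun x => by
    rw [hA (A *ᵥ x), hA x, dotProduct_add, dotProduct_smul, hl0, smul_zero, add_zero, add_assoc,
      ← add_smul, CharTwo.add_self_eq_zero, zero_smul, add_zero]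
  have hAA : A * A = 1 := by
    refine Matrix.ext_of_mulVec_single fun i => ?_
    rw [← Matrix.mulVec_mulVec, hAA', Matrix.one_mulVec]
  refine ⟨⟨A, A, hAA, hAA⟩, ?_⟩
  show A *ᵥ v = w
  rw [hA, hl1, one_smul, ← add_assoc]
  funext k
  simp [CharTwo.add_self_eq_zero]

theorem exists_basis {W : Type*} [AddCommGroup W] [Module (ZMod 2) W] [Finite W] (n : ℕ)
    (hc : Nat.card W = 2 ^ (n + 1)) {v : W} (hv : v ≠ 0) : ∃ e : W ≃ₗ[ZMod 2] V n, e v = (0, 1) := by
  haveI := Module.Finite.of_finite (R := ZMod 2) (M := W)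
  have hfr : Module.finrank (ZMod 2) W = n + 1 := by
    have h := Module.natCard_eq_pow_finrank (K := ZMod 2) (V := W)
    rw [hc, Nat.card_zmod] at h
    exact (Nat.pow_right_injective le_rfl h).symm
  obtain ⟨H, hH⟩ := Submodule.exists_isCompl (Submodule.span (ZMod 2) {v})
  have hfH : Module.finrank (ZMod 2) H = n := by
    have h := Submodule.finrank_add_eq_of_isCompl hH
    rw [finrank_span_singleton hv, hfr] at h
    omega
  let eH : H ≃ₗ[ZMod 2] (Fin n → ZMod 2) :=
    LinearEquiv.ofFinrankEq _ _ (by rw [hfH, Module.finrank_fin_fun])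
  let e := (Submodule.prodEquivOfIsCompl H (Submodule.span (ZMod 2) {v}) hH.symm).symm.trans
    (eH.prodCongr (LinearEquiv.toSpanNonzeroSingleton (ZMod 2) W v hv).symm)
  refine ⟨e, ?_⟩
  rw [← LinearEquiv.eq_symm_apply]
  show v = Submodule.prodEquivOfIsCompl H (Submodule.span (ZMod 2) {v}) hH.symm
    (eH.symm 0, LinearEquiv.toSpanNonzeroSingleton (ZMod 2) W v hv 1)
  simp

section Main

variable {G : Type*} [Group G] [Finite G]

theorem main (n : ℕ) (hn : 1 ≤ n) (U M : Subgroup G) (hU : Cfsg.IsElementaryAbelian 2 U)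
    (hUcard : Nat.card ↥U = 2 ^ (n + 1)) (hMU : M ≤ normalizer (U : Set G)) (hdis : U ⊓ M = ⊥)
    (hfaith : ∀ m ∈ M, (∀ u ∈ U, m * u * m⁻¹ = u) → m = 1)
    (hfull : ∀ φ : ↥U ≃* ↥U, ∃ m ∈ M, ∀ u : ↥U, ((φ u : ↥U) : G) = m * u * m⁻¹)
    (hcent : ∀ u ∈ U, u ≠ 1 → centralizer ({u} : Set G) ≤ U ⊔ M)
    (z : G) (hzU : z ∈ U) (hz1 : z ≠ 1) (Q : Subgroup G)
    (hQ : Q = (Cfsg.pCore 2 ↥(centralizer ({z} : Set G))).map (centralizer ({z} : Set G)).subtype) :
    Cfsg.IsExtraspecial 2 ↥Q ∧ Nat.card ↥Q = 2 ^ (2 * n + 1) ∧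
      (∃ E : Subgroup G, E ≤ Q ∧ Cfsg.IsElementaryAbelian 2 E ∧ Nat.card ↥E = 2 ^ (n + 1)) ∧
      Cfsg.IsLargeExtraspecial Q ∧
      ∃ K : Subgroup G, K ≤ centralizer ({z} : Set G) ∧ Q ⊓ K = ⊥ ∧
        Q ⊔ K = centralizer ({z} : Set G) ∧ Nonempty (↥K ≃* GL (Fin n) (ZMod 2)) := by
  classical
  haveI : Fact (Nat.Prime 2) := ⟨Nat.prime_two⟩
  haveI : IsMulCommutative U := hU.1
  letI : CommGroup U := { (inferInstance : Group U) with mul_comm := fun a b => hU.1.is_comm.comm a b }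
  have hU2 : ∀ x : Additive U, 2 • x = 0 := fun x => by
    apply Additive.toMul.injective
    exact Subtype.ext (hU.2 _ x.toMul.2)
  letI : Module (ZMod 2) (Additive U) := AddCommGroup.zmodModule hU2
  obtain ⟨e₀, he₀⟩ := exists_basis (W := Additive U) n (by rw [← hUcard]; exact Nat.card_congr Additive.toMul)
    (v := Additive.ofMul ⟨z, hzU⟩) (fun e => hz1 (congrArg Subtype.val (congrArg Additive.toMul e) :))
  let e : U ≃* Multiplicative (V n) := AddEquiv.toMultiplicativeRight e₀.toAddEquiv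
  have hez : e ⟨z, hzU⟩ = Multiplicative.ofAdd ((0, 1) : V n) := congrArg Multiplicative.ofAdd he₀
  -- `M` is the automorphism group of `U`
  let c : M →* MulAut U := U.normalizerMonoidHom.comp (inclusion hMU)
  have hc : ∀ (m : M) (u : U), ((c m u : U) : G) = (m : G) * u * (m : G)⁻¹ := fun _ _ => rfl
  have hcb : Function.Bijective c := by
    refine ⟨(MonoidHom.ker_eq_bot_iff _).1 (eq_bot_iff.2 fun m hm => mem_bot.2 (Subtype.ext
      (hfaith m m.2 fun u hu => ?_))), fun φ => ?_⟩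
    · have h := congrArg Subtype.val (DFunLike.congr_fun (MonoidHom.mem_ker.1 hm) ⟨u, hu⟩)
      rw [hc] at h
      exact h
    · obtain ⟨m, hm, hφ⟩ := hfull φ
      exact ⟨⟨m, hm⟩, MulEquiv.ext fun u => Subtype.ext (hφ u).symm⟩
  let cE := MulEquiv.ofBijective c hcb
  let ι : MulAut (Multiplicative (V n)) →* G :=
    M.subtype.comp (cE.symm.toMonoidHom.comp (MulAut.congr e.symm).toMonoidHom)
  have hιM : ∀ φ, ι φ ∈ M := fun φ => SetLike.coe_mem _
  have hιinj : Function.Injective ι := M.subtype_injective.comp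
    (cE.symm.injective.comp (MulAut.congr e.symm).injective)
  have hι : ∀ φ (u : U), ι φ * u * (ι φ)⁻¹ = ((e.symm (φ (e u)) : U) : G) := by
    intro φ u
    have h1 : c (cE.symm (MulAut.congr e.symm φ)) = MulAut.congr e.symm φ :=
      cE.apply_symm_apply _
    have h2 := congrArg Subtype.val (DFunLike.congr_fun h1 u)
    rw [hc] at h2
    exact h2
  have hιsurj : ∀ m ∈ M, ∃ φ, ι φ = m := fun m hm => ⟨MulAut.congr e (c ⟨m, hm⟩), by
    show ((cE.symm (MulAut.congr e.symm (MulAut.congr e (c ⟨m, hm⟩)))) : G) = m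
    rw [show MulAut.congr e.symm (MulAut.congr e (c ⟨m, hm⟩)) = c ⟨m, hm⟩ by
      ext u; simp [MulAut.congr]]
    rw [show c ⟨m, hm⟩ = cE ⟨m, hm⟩ from rfl, MulEquiv.symm_apply_apply]⟩
  have hez' : e.symm (Multiplicative.ofAdd ((0, 1) : V n)) = ⟨z, hzU⟩ := by
    rw [← hez, MulEquiv.symm_apply_apply]
  have hfixz : ∀ φ, φ (Multiplicative.ofAdd ((0, 1) : V n)) = Multiplicative.ofAdd ((0, 1) : V n) →
      ι φ ∈ centralizer ({z} : Set G) := fun φ hφ => by
    refine mem_centralizer_singleton_iff.2 ?_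
    have h := hι φ ⟨z, hzU⟩
    rw [hez, hφ, hez'] at h
    exact mul_inv_eq_iff_eq_mul.1 h
  set C := centralizer ({z} : Set G) with hC
  let τ : Multiplicative (Fin n → ZMod 2) →* G := ι.comp tauHom
  let κ : GL (Fin n) (ZMod 2) →* G := ι.comp kappaHom
  set T := τ.range with hT
  set K := κ.range with hKdef
  have hTC : T ≤ C := by
    rintro _ ⟨v, rfl⟩
    refine hfixz _ ?_
    rw [← ofAdd_toAdd v, tauHom_apply]
    simp
  have hKC : K ≤ C := by
    rintro _ ⟨g, rfl⟩
    refine hfixz _ ?_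
    rw [kappaHom_apply]
    simp
  have hUc : ∀ x ∈ U, ∀ y ∈ U, x * y = y * x := fun x hx y hy =>
    congrArg Subtype.val (hU.1.is_comm.comm ⟨x, hx⟩ ⟨y, hy⟩)
  have hUC : U ≤ C := fun u hu => mem_centralizer_singleton_iff.2 (hUc u hu z hzU)
  have hTM : T ≤ M := by rintro _ ⟨v, rfl⟩; exact hιM _
  have hKM : K ≤ M := by rintro _ ⟨v, rfl⟩; exact hιM _
  set R := T ⊔ U with hR
  have hTU : T ≤ normalizer (U : Set G) := hTM.trans hMU
  have hRC : R ≤ C := sup_le hTC hUC
  have hRmem : ∀ x, x ∈ R ↔ ∃ t ∈ T, ∃ u ∈ U, t * u = x := fun x =>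
    CfsgLib.Solvable.mem_sup_of_le_normalizer hTU
  -- shears move translations by powers of `z`
  have htu : ∀ t ∈ T, ∀ u ∈ U, ∃ d ∈ zpowers z, t * u * t⁻¹ = u * d := by
    rintro _ ⟨v, rfl⟩ u hu
    obtain ⟨⟨a, b⟩, hab⟩ := Multiplicative.ofAdd.surjective (e ⟨u, hu⟩)
    refine ⟨((e.symm (Multiplicative.ofAdd ((0, v.toAdd ⬝ᵥ a) : V n)) : U) : G), ?_, ?_⟩
    · rcases zmod2_cases (v.toAdd ⬝ᵥ a) with h0 | h0 <;> rw [h0]
      · rw [show Multiplicative.ofAdd ((0, 0) : V n) = 1 from rfl, map_one]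
        exact one_mem _
      · rw [hez']
        exact mem_zpowers z
    · show ι (tauHom v) * ((⟨u, hu⟩ : U) : G) * (ι (tauHom v))⁻¹ = _
      rw [hι, ← hab, ← ofAdd_toAdd v, tauHom_apply]
      simp only [toAdd_ofAdd]
      rw [show ((a, b + v.toAdd ⬝ᵥ a) : V n) = (a, b) + (0, v.toAdd ⬝ᵥ a) by simp, ofAdd_add, map_mul,
        hab, MulEquiv.symm_apply_apply]
      rfl
  have hzd : ∀ d ∈ zpowers z, ∀ x ∈ C, x * d = d * x := by
    rintro _ ⟨i, rfl⟩ x hx
    exact ((show Commute x z from mem_centralizer_singleton_iff.1 hx).zpow_right i).eq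
  have hTab : ∀ t ∈ T, ∀ t' ∈ T, t * t' = t' * t := by
    rintro _ ⟨v, rfl⟩ _ ⟨w, rfl⟩
    rw [← map_mul, ← map_mul, mul_comm]
  have hT2 : ∀ t ∈ T, t * t = 1 := by
    rintro _ ⟨v, rfl⟩
    rw [← map_mul, show v * v = 1 by
      apply Multiplicative.toAdd.injective; funext i; simp [CharTwo.add_self_eq_zero], map_one]
  have hU2' : ∀ u ∈ U, u * u = 1 := fun u hu => by rw [← pow_two]; exact hU.2 u hu
  have hcard : Nat.card R = 2 ^ (2 * n + 1) := by
    have hdT : T ⊓ U = ⊥ := eq_bot_iff.2 fun x hx => hdis ▸ ⟨hx.2, hTM hx.1⟩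
    rw [hR, CfsgLib.Solvable.card_sup_of_disjoint hTU hdT, hUcard,
      ← Nat.card_congr (MonoidHom.ofInjective (f := τ) (hιinj.comp tauHom_injective)).toEquiv]
    simp [Nat.card_eq_fintype_card, ← pow_add]
    ring_nf
  have hUfix : ∀ g ∈ C, (∀ u ∈ U, g * u = u * g) → g ∈ U := by
    intro g hg hgu
    obtain ⟨m, hm, u, hu, rfl⟩ := (CfsgLib.Solvable.mem_sup_of_le_normalizer hMU).1
      ((sup_comm U M ▸ hcent z hzU hz1) hg)
    have hm1 : m = 1 := hfaith m hm fun x hx => mul_inv_eq_iff_eq_mul.2 <| by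
      have h1 := hgu x hx
      rw [mul_assoc, hUc u hu x hx, ← mul_assoc, ← mul_assoc] at h1
      exact mul_right_cancel h1
    rw [hm1, one_mul]
    exact hu
  have hCent : centralizer (R : Set G) = zpowers z := by
    refine le_antisymm (fun g hg => ?_) ?_
    · have hgC : g ∈ C := mem_centralizer_singleton_iff.2
        (mem_centralizer_iff.1 hg z (mem_sup_right hzU)).symm
      have hgU := hUfix g hgC fun u hu => (mem_centralizer_iff.1 hg u (mem_sup_right hu)).symm
      obtain ⟨⟨a, b⟩, hab⟩ := Multiplicative.ofAdd.surjective (e ⟨g, hgU⟩)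
      have ha : a = 0 := by
        funext i
        have h1 := mem_centralizer_iff.1 hg (τ (Multiplicative.ofAdd (Pi.single i 1)))
          (mem_sup_left ⟨_, rfl⟩)
        have h2 := hι (tauHom (Multiplicative.ofAdd (Pi.single i 1))) ⟨g, hgU⟩
        simp only at h2
        rw [show ι (tauHom (Multiplicative.ofAdd (Pi.single i 1))) * g =
          g * ι (tauHom (Multiplicative.ofAdd (Pi.single i 1))) from h1, mul_inv_cancel_right, ← hab,
          tauHom_apply] at h2
        have h3 : e ⟨g, hgU⟩ = Multiplicative.ofAdd ((a, b + Pi.single i 1 ⬝ᵥ a) : V n) := by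
          rw [← MulEquiv.eq_symm_apply]
          exact Subtype.ext h2
        rw [← hab] at h3
        have h4 := (Prod.ext_iff.1 (Multiplicative.ofAdd.injective h3)).2
        simpa using h4
      subst ha
      have hgz : (⟨g, hgU⟩ : U) = e.symm (Multiplicative.ofAdd ((0, b) : V n)) := by
        rw [hab, MulEquiv.symm_apply_apply]
      rcases zmod2_cases b with h0 | h0 <;> rw [h0] at hgz
      · rw [show Multiplicative.ofAdd ((0, 0) : V n) = 1 from rfl, map_one] at hgz
        rw [show g = 1 from congrArg Subtype.val hgz]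
        exact one_mem _
      · rw [hez'] at hgz
        rw [show g = z from congrArg Subtype.val hgz]
        exact mem_zpowers z
    · exact fun d hd => mem_centralizer_iff.2 fun x hx => hzd d hd x (hRC hx)
  have hzR : zpowers z ≤ R := zpowers_le.2 (mem_sup_right hzU)
  have hcenterR : (center R).map R.subtype = zpowers z := by
    refine le_antisymm ?_ fun d hd => ⟨⟨d, hzR hd⟩, mem_center_iff.2 fun x =>
      Subtype.ext (hzd d hd x (hRC x.2)), rfl⟩
    rintro _ ⟨x, hx, rfl⟩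
    rw [← hCent]
    exact mem_centralizer_iff.2 fun y hy => congrArg Subtype.val (mem_center_iff.1 hx ⟨y, hy⟩)
  have hcz : center R = (zpowers z).subgroupOf R := by
    rw [← hcenterR, subgroupOf, comap_map_eq_self_of_injective R.subtype_injective]
  have hmul : ∀ t ∈ T, ∀ u ∈ U, ∀ t' ∈ T, ∀ u' ∈ U, ∃ d ∈ zpowers z,
      (t * u) * (t' * u') = (t * t') * (u * u') * d := by
    intro t ht u hu t' ht' u' hu'
    obtain ⟨d, hd, hdd⟩ := htu t'⁻¹ (inv_mem ht') u hu
    rw [inv_inv] at hdd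
    refine ⟨d, hd, ?_⟩
    calc t * u * (t' * u') = t * t' * (t'⁻¹ * u * t') * u' := by group
      _ = t * t' * (u * u') * d := by
        rw [hdd, mul_assoc (t * t'), mul_assoc u, ← hzd d hd u' (hUC hu'), ← mul_assoc u,
          ← mul_assoc (t * t')]
  have hRp : IsPGroup 2 R := IsPGroup.of_card (n := 2 * n + 1) hcard
  have hcomm : commutator R ≤ center R := by
    refine commutator_le.2 fun ⟨x, hx⟩ _ ⟨y, hy⟩ _ => ?_
    rw [hcz, mem_subgroupOf]
    obtain ⟨t, ht, u, hu, rfl⟩ := (hRmem x).1 hx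
    obtain ⟨t', ht', u', hu', rfl⟩ := (hRmem y).1 hy
    obtain ⟨d, hd, e1⟩ := hmul t ht u hu t' ht' u' hu'
    obtain ⟨d', hd', e2⟩ := hmul t' ht' u' hu' t ht u hu
    rw [hTab t' ht' t ht, hUc u' hu' u hu] at e2
    show (t * u) * (t' * u') * (t * u)⁻¹ * (t' * u')⁻¹ ∈ zpowers z
    rw [show t * u * (t' * u') * (t * u)⁻¹ * (t' * u')⁻¹ =
      (t * u * (t' * u')) * ((t' * u') * (t * u))⁻¹ by group, e1, e2,
      show t * t' * (u * u') * d * (t * t' * (u * u') * d')⁻¹ =
        t * t' * (u * u') * (d * d'⁻¹) * (t * t' * (u * u'))⁻¹ by group,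
      hzd _ (mul_mem hd (inv_mem hd')) _ (mul_mem (mul_mem (hTC ht) (hTC ht'))
        (mul_mem (hUC hu) (hUC hu'))), mul_inv_cancel_right]
    exact mul_mem hd (inv_mem hd')
  have hsq : ∀ x : R, x ^ 2 ∈ center R := by
    rintro ⟨x, hx⟩
    rw [hcz, mem_subgroupOf]
    obtain ⟨t, ht, u, hu, rfl⟩ := (hRmem x).1 hx
    obtain ⟨d, hd, e1⟩ := hmul t ht u hu t ht u hu
    show (t * u) ^ 2 ∈ zpowers z
    rw [pow_two, e1, hT2 t ht, hU2' u hu, one_mul, one_mul]
    exact hd
  have hzcard : Nat.card (center R) = 2 := by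
    rw [hcz, Nat.card_congr (subgroupOfEquivOfLe hzR).toEquiv, Nat.card_zpowers,
      orderOf_eq_prime (hU.2 z hzU) hz1]
  have hcge : center R ≤ commutator R := by
    let i₀ : Fin n := ⟨0, hn⟩
    set t := τ (Multiplicative.ofAdd (Pi.single i₀ 1)) with ht
    set u : G := ((e.symm (Multiplicative.ofAdd ((Pi.single i₀ 1, 0) : V n)) : U) : G) with hu
    have huU : u ∈ U := SetLike.coe_mem _
    have key : t * u * t⁻¹ * u⁻¹ = z := by
      have h1 := hι (tauHom (Multiplicative.ofAdd (Pi.single i₀ 1)))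
        (e.symm (Multiplicative.ofAdd ((Pi.single i₀ 1, 0) : V n)))
      rw [MulEquiv.apply_symm_apply, tauHom_apply,
        show ((Pi.single i₀ 1, 0 + Pi.single i₀ 1 ⬝ᵥ Pi.single i₀ 1) : V n) =
          (Pi.single i₀ 1, 0) + (0, 1) by simp, ofAdd_add, map_mul, hez', Subgroup.coe_mul] at h1
      change t * u * t⁻¹ = u * z at h1
      rw [h1, hUc u huU z hzU, mul_inv_cancel_right]
    rw [hcz]
    intro x hx
    rw [mem_subgroupOf] at hx
    obtain ⟨i, hi⟩ := hx
    have hzm : (⟨z, hzR (mem_zpowers z)⟩ : R) ∈ commutator R := by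
      have h := commutator_mem_commutator (H₁ := (⊤ : Subgroup R)) (H₂ := (⊤ : Subgroup R))
        (mem_top (⟨t, mem_sup_left ⟨_, rfl⟩⟩ : R)) (mem_top (⟨u, mem_sup_right huU⟩ : R))
      have e1 : (⟨z, hzR (mem_zpowers z)⟩ : R) = (⟨t, mem_sup_left ⟨_, rfl⟩⟩ : R) *
          ⟨u, mem_sup_right huU⟩ * (⟨t, mem_sup_left ⟨_, rfl⟩⟩ : R)⁻¹ *
          (⟨u, mem_sup_right huU⟩ : R)⁻¹ := Subtype.ext key.symm
      rw [e1, ← commutatorElement_def]
      exact h
    rw [show x = (⟨z, hzR (mem_zpowers z)⟩ : R) ^ i from Subtype.ext (by simp [hi])]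
    exact zpow_mem hzm i
  have hext : Cfsg.IsExtraspecial 2 R := by
    refine ⟨⟨hRp, ?_, le_antisymm hcomm hcge⟩, hzcard⟩
    haveI : Group.IsNilpotent R := hRp.isNilpotent
    refine le_antisymm (CfsgLib.PGroupBasic.frattini_le_of_elementary (p := 2) (center R) hcomm hsq) ?_
    exact hcge.trans (CfsgLib.PGroupBasic.commutator_pow_le_frattini hRp).1
  -- the complement
  have hRK : R ⊓ K = ⊥ := by
    rw [eq_bot_iff]
    rintro x ⟨hxR, g, rfl⟩
    obtain ⟨_, ⟨v, rfl⟩, u, hu, he⟩ := (hRmem _).1 hxR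
    have hu1 : u = 1 := by
      rw [← mem_bot, ← hdis]
      refine ⟨hu, ?_⟩
      rw [show u = (τ v)⁻¹ * κ g by rw [← he, inv_mul_cancel_left]]
      exact mul_mem (Subgroup.inv_mem _ (hTM ⟨v, rfl⟩)) (hKM ⟨g, rfl⟩)
    rw [hu1, mul_one] at he
    have h1 := hιinj he
    have hv : v = 1 := by
      apply Multiplicative.toAdd.injective
      funext i
      have h2 := DFunLike.congr_fun h1 (Multiplicative.ofAdd ((Pi.single i 1, 0) : V n))
      rw [← ofAdd_toAdd v, tauHom_apply, kappaHom_apply] at h2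
      simpa using (Prod.ext_iff.1 (Multiplicative.ofAdd.injective h2)).2
    rw [hv, map_one] at he
    exact mem_bot.2 he.symm
  have hsup : R ⊔ K = C := by
    refine le_antisymm (sup_le hRC hKC) fun x hx => ?_
    obtain ⟨m, hm, u, hu, rfl⟩ := (CfsgLib.Solvable.mem_sup_of_le_normalizer hMU).1
      ((sup_comm U M ▸ hcent z hzU hz1) hx)
    have hmC : m ∈ C := by
      have := mul_mem hx (inv_mem (hUC hu))
      rwa [mul_inv_cancel_right] at this
    obtain ⟨φ, rfl⟩ := hιsurj m hm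
    have hφ : φ (Multiplicative.ofAdd ((0, 1) : V n)) = Multiplicative.ofAdd ((0, 1) : V n) := by
      have h1 := hι φ ⟨z, hzU⟩
      simp only at h1
      rw [mem_centralizer_singleton_iff.1 hmC, mul_inv_cancel_right, hez] at h1
      have h2 : e ⟨z, hzU⟩ = φ (Multiplicative.ofAdd ((0, 1) : V n)) := by
        rw [← MulEquiv.eq_symm_apply]
        exact Subtype.ext h1
      rw [hez] at h2
      exact h2.symm
    obtain ⟨g, v, rfl⟩ := exists_decomp φ hφ
    rw [map_mul]
    exact mul_mem (mul_mem (mem_sup_right ⟨g, rfl⟩) (mem_sup_left (mem_sup_left ⟨_, rfl⟩)))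
      (mem_sup_left (mem_sup_right hu))
  have hKnorm : K ≤ normalizer (R : Set G) := by
    rintro _ ⟨g, rfl⟩
    have key : ∀ g, ∀ x ∈ R, κ g * x * (κ g)⁻¹ ∈ R := by
      intro g x hx
      obtain ⟨_, ⟨v, rfl⟩, u, hu, rfl⟩ := (hRmem x).1 hx
      rw [show κ g * (τ v * u) * (κ g)⁻¹ =
        (κ g * τ v * (κ g)⁻¹) * (κ g * u * (κ g)⁻¹) by group]
      refine mul_mem (mem_sup_left ?_)
        (mem_sup_right ((mem_normalizer_iff.1 (hMU (hKM ⟨g, rfl⟩)) u).1 hu))
      refine ⟨Multiplicative.ofAdd (((g⁻¹ : GL (Fin n) (ZMod 2)) : Matrix (Fin n) (Fin n) (ZMod 2))ᵀ *ᵥ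
        v.toAdd), ?_⟩
      show ι _ = ι _ * ι _ * (ι _)⁻¹
      rw [← map_inv, ← map_mul, ← map_mul]
      refine congrArg ι (MulEquiv.ext fun y => ?_)
      obtain ⟨⟨a, b⟩, rfl⟩ := Multiplicative.ofAdd.surjective y
      rw [MulAut.mul_apply, MulAut.mul_apply, ← map_inv, kappaHom_apply, ← ofAdd_toAdd v,
        tauHom_apply, tauHom_apply, kappaHom_apply]
      simp [Matrix.mulVec_mulVec, Matrix.dotProduct_mulVec, Matrix.mulVec_transpose]
    refine mem_normalizer_iff.2 fun x => ⟨key g x, fun hx => ?_⟩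
    have h := key g⁻¹ _ hx
    rw [map_inv] at h
    simpa [mul_assoc] using h
  -- `R` is the 2-core
  have hCn : C ≤ normalizer (R : Set G) := by
    rw [← hsup]
    exact sup_le le_normalizer hKnorm
  have hcore : Cfsg.pCore 2 C = R.subgroupOf C := by
    haveI hRn : (R.subgroupOf C).Normal := (normal_subgroupOf_iff_le_normalizer hRC).2 hCn
    have hRpC : IsPGroup 2 (R.subgroupOf C) := hRp.of_equiv (subgroupOfEquivOfLe hRC).symm
    refine le_antisymm (fun x hx => ?_) (CfsgLib.Solvable.le_pCore 2 hRn hRpC)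
    obtain ⟨hPn, hPp⟩ := CfsgLib.Solvable.pCore_spec (G := C) 2
    let X : Subgroup (GL (Fin n) (ZMod 2)) :=
      (Cfsg.pCore 2 C).comap ((κ.codRestrict C fun g => hKC ⟨g, rfl⟩))
    have hκinj : Function.Injective (κ.codRestrict C fun g => hKC ⟨g, rfl⟩) := fun a b h =>
      kappaHom_injective (hιinj (congrArg Subtype.val h :))
    have hXn : X.Normal := hPn.comap _
    have hXp : IsPGroup 2 X := hPp.comap_of_injective _ hκinj
    have hX : X = ⊥ := by
      rw [eq_bot_iff]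
      intro g hg
      letI : MulAction X (Fin n → ZMod 2) :=
        { smul := fun x a => ((x : GL (Fin n) (ZMod 2)) : Matrix (Fin n) (Fin n) (ZMod 2)) *ᵥ a
          one_smul := fun a => by show (1 : Matrix (Fin n) (Fin n) (ZMod 2)) *ᵥ a = a; simp
          mul_smul := fun x y a => by
            show (((x * y : X) : GL (Fin n) (ZMod 2)) : Matrix (Fin n) (Fin n) (ZMod 2)) *ᵥ a = _
            rw [Subgroup.coe_mul, Units.val_mul, ← Matrix.mulVec_mulVec]
            rfl }
      have h2 : 2 ∣ Nat.card (Fin n → ZMod 2) := by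
        rw [Nat.card_fun, Nat.card_zmod, Nat.card_fin]
        exact dvd_pow_self 2 (by omega)
      have h0 : (0 : Fin n → ZMod 2) ∈ MulAction.fixedPoints X (Fin n → ZMod 2) := fun x =>
        Matrix.mulVec_zero _
      obtain ⟨v, hv, hv0⟩ := hXp.exists_fixed_point_of_prime_dvd_card_of_fixed_point (α := Fin n → ZMod 2) h2 h0
      refine mem_bot.2 (Units.ext (Matrix.ext_of_mulVec_single fun i => ?_))
      obtain ⟨h, hh⟩ := exists_move (Ne.symm hv0) (w := Pi.single i 1) (by simp)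
      have h3 := hv ⟨h⁻¹ * g * h, by simpa using hXn.conj_mem g hg h⁻¹⟩
      have h4 : ((h⁻¹ * g * h : GL (Fin n) (ZMod 2)) : Matrix (Fin n) (Fin n) (ZMod 2)) *ᵥ v = v := h3
      have h5 := congrArg (((h : GL (Fin n) (ZMod 2)) : Matrix (Fin n) (Fin n) (ZMod 2)) *ᵥ ·) h4
      simp only [Matrix.mulVec_mulVec, ← Units.val_mul] at h5
      rw [show h * (h⁻¹ * g * h) = g * h by group, Units.val_mul, ← Matrix.mulVec_mulVec, hh] at h5
      rw [h5]
      funext k
      simp [Matrix.one_apply, Pi.single_apply, eq_comm]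
    obtain ⟨r, hr, _, ⟨g, rfl⟩, hrg⟩ : ∃ r ∈ R, ∃ k ∈ K, r * k = (x : G) := by
      obtain ⟨k, hk, r, hr, e1⟩ := (CfsgLib.Solvable.mem_sup_of_le_normalizer hKnorm).1
        (show (x : G) ∈ K ⊔ R by rw [sup_comm, hsup]; exact x.2)
      exact ⟨k * r * k⁻¹, (mem_normalizer_iff.1 (hKnorm hk) r).1 hr, k, hk, by rw [inv_mul_cancel_right, e1]⟩
    have hg : g ∈ X := by
      show (⟨κ g, _⟩ : C) ∈ Cfsg.pCore 2 C
      have he : (⟨κ g, hKC ⟨g, rfl⟩⟩ : C) = (⟨r, hRC hr⟩ : C)⁻¹ * x :=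
        Subtype.ext (by simp [← hrg])
      rw [he]
      exact mul_mem (inv_mem (CfsgLib.Solvable.le_pCore 2 hRn hRpC hr)) hx
    rw [hX, mem_bot] at hg
    rw [hg, map_one, mul_one] at hrg
    exact mem_subgroupOf.2 (hrg ▸ hr)
  have hQR : Q = R := by
    rw [hQ, hcore, map_subgroupOf_eq_of_le hRC]
  subst hQR
  refine ⟨hext, hcard, ⟨U, le_sup_right, hU, hUcard⟩, ⟨hext, ?_, ?_, ?_⟩, K, hKC, hRK, hsup,
    ⟨(MonoidHom.ofInjective (f := κ) (hιinj.comp kappaHom_injective)).symm⟩⟩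
  · rw [hcenterR, hCent]
  · rw [hcenterR, zpowers_eq_closure, centralizer_closure]
    exact hCn
  · intro L hL hRL
    by_contra hne
    have hLU : ∀ k ∈ L, k ∈ U → k = 1 := fun k hk hkU => by
      have h1 : orderOf k ∣ Nat.card L := Subgroup.orderOf_dvd_natCard L hk
      have h2 : orderOf k ∣ 2 := orderOf_dvd_of_pow_eq_one (hU.2 k hkU)
      have hcop : (Nat.card L).Coprime 2 := hL.coprime_two_right
      exact orderOf_eq_one_iff.1 (Nat.eq_one_of_dvd_coprimes hcop h1 h2)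
    have hin : ∀ k ∈ L, ∀ u ∈ U, k ∈ U ⊔ M → u * k * u⁻¹ = k := by
      intro k hk u hu hkP
      have hconj : u * k * u⁻¹ ∈ L := (mem_normalizer_iff.1 (hRL (mem_sup_right hu)) k).1 hk
      have hUn : k ∈ normalizer (U : Set G) := (sup_le le_normalizer hMU) hkP
      refine mul_inv_eq_one.1 (hLU _ (mul_mem hconj (inv_mem hk)) ?_)
      rw [show u * k * u⁻¹ * k⁻¹ = u * (k * u⁻¹ * k⁻¹) by group]
      exact mul_mem hu ((mem_normalizer_iff.1 hUn _).1 (inv_mem hu))
    have hP : ∀ k ∈ L, k ∈ U ⊔ M → k = 1 := by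
      intro k hk hkP
      refine hLU k hk (hUfix k (mem_centralizer_singleton_iff.2 ?_) fun u hu => ?_)
      · exact (mul_inv_eq_iff_eq_mul.1 (hin k hk z hzU hkP)).symm
      · exact (mul_inv_eq_iff_eq_mul.1 (hin k hk u hu hkP)).symm
    -- every involution of `U` inverts `L`
    have hinv : ∀ u ∈ U, u ≠ 1 → ∀ k ∈ L, u * k * u⁻¹ = k⁻¹ := by
      intro u hu hu1
      have hui : u⁻¹ = u := inv_eq_of_mul_eq_one_right (hU2' u hu)
      let f : L → L := fun k => ⟨(k : G)⁻¹ * (u * k * u⁻¹),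
        mul_mem (inv_mem k.2) ((mem_normalizer_iff.1 (hRL (mem_sup_right hu)) _).1 k.2)⟩
      have hf : Function.Injective f := by
        intro k l h
        have h1 : (k : G)⁻¹ * (u * k * u⁻¹) = (l : G)⁻¹ * (u * l * u⁻¹) := congrArg Subtype.val h
        have h2 : u * ((l : G) * (k : G)⁻¹) * u⁻¹ = (l : G) * (k : G)⁻¹ := by
          calc u * ((l : G) * (k : G)⁻¹) * u⁻¹ =
              (l : G) * ((l : G)⁻¹ * (u * l * u⁻¹)) * (u * k * u⁻¹)⁻¹ := by group
            _ = (l : G) * (k : G)⁻¹ := by rw [← h1]; group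
        have h3 := hP _ (mul_mem l.2 (inv_mem k.2))
          (hcent u hu hu1 (mem_centralizer_singleton_iff.2 (mul_inv_eq_iff_eq_mul.1 h2).symm))
        exact Subtype.ext (mul_inv_eq_one.1 h3).symm
      intro k hk
      obtain ⟨l, hl⟩ := (Finite.injective_iff_surjective.1 hf) ⟨k, hk⟩
      have h1 : (l : G)⁻¹ * (u * l * u⁻¹) = k := congrArg Subtype.val hl
      rw [← h1]
      simp only [_root_.mul_inv_rev, inv_inv, hui]
      calc u * ((l : G)⁻¹ * (u * l * u)) * u = u * (l : G)⁻¹ * u * l * (u * u) := by group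
        _ = _ := by rw [hU2' u hu, mul_one]; group
    obtain ⟨k, hk, hk1⟩ := (Subgroup.bot_or_exists_ne_one L).resolve_left hne
    -- two involutions inverting everything, whose product does so as well
    set u : G := ((e.symm (Multiplicative.ofAdd ((Pi.single ⟨0, hn⟩ 1, 0) : V n)) : U) : G) with hu
    have huU : u ∈ U := SetLike.coe_mem _
    have hu0 : (⟨u, huU⟩ : U) = e.symm (Multiplicative.ofAdd ((Pi.single ⟨0, hn⟩ 1, 0) : V n)) := rfl
    have hu1 : u ≠ 1 := fun h => by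
      have h1 : e (⟨u, huU⟩ : U) = 1 := by rw [show (⟨u, huU⟩ : U) = 1 from Subtype.ext h, map_one]
      rw [hu0, MulEquiv.apply_symm_apply] at h1
      simpa using congrFun (Prod.ext_iff.1 (Multiplicative.ofAdd.injective h1)).1 ⟨0, hn⟩
    have huz : u * z ≠ 1 := fun h => by
      have h1 : e ((⟨u, huU⟩ : U) * ⟨z, hzU⟩) = 1 := by
        rw [show (⟨u, huU⟩ : U) * ⟨z, hzU⟩ = 1 from Subtype.ext h, map_one]
      rw [map_mul, hu0, MulEquiv.apply_symm_apply, hez, ← ofAdd_add] at h1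
      simpa using congrFun (Prod.ext_iff.1 (Multiplicative.ofAdd.injective h1)).1 ⟨0, hn⟩
    have h1 := hinv (u * z) (mul_mem huU hzU) huz k hk
    rw [show u * z * k * (u * z)⁻¹ = u * (z * k * z⁻¹) * u⁻¹ by group, hinv z hzU hz1 k hk,
      hinv u huU hu1 k⁻¹ (inv_mem hk), inv_inv] at h1
    have h2 : k ^ 2 = 1 := by
      rw [pow_two]
      nth_rewrite 1 [h1]
      exact inv_mul_cancel k
    exact hk1 (orderOf_eq_one_iff.1 (Nat.eq_one_of_dvd_coprimes hL.coprime_two_right
      (Subgroup.orderOf_dvd_natCard L hk) (orderOf_dvd_of_pow_eq_one h2)))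

end Main

end CfsgLib.Holomorph
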