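import Cfsg.Agent.LargeExtra.Holomorph
import Mathlib.LinearAlgebra.Matrix.SpecialLinearGroup
import Mathlib.LinearAlgebra.Matrix.Transvection

/-!
The stabiliser of a vector in `SL(n + 1, 2)` as the affine group of degree `n`.
-/

set_option autoImplicit false

namespace CfsgLib.Holomorph

open Matrix

variable {m : ℕ}

theorem det_eq_one_of_mul_eq_one {k : ℕ} {A B : Matrix (Fin k) (Fin k) (ZMod 2)} (h : A * B = 1) :
    A.det = 1 := by
  rcases zmod2_cases A.det with h0 | h0
  · have h1 := congrArg Matrix.det h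
    rw [Matrix.det_mul, h0, zero_mul, Matrix.det_one] at h1
    exact absurd h1 zero_ne_one
  · exact h0

theorem toGL_bijective (k : ℕ) :
    Function.Bijective (Matrix.SpecialLinearGroup.toGL (n := Fin k) (R := ZMod 2)) := by
  refine ⟨fun a b h => Subtype.ext (congrArg Units.val h), fun g => ?_⟩
  exact ⟨⟨g, det_eq_one_of_mul_eq_one g.mul_inv⟩, Units.ext rfl⟩

/-- The transvection with centre `e₀`. -/
def trMat (w : Fin m → ZMod 2) : Matrix (Fin (m + 1)) (Fin (m + 1)) (ZMod 2) :=
  Matrix.of (Fin.cons (Fin.cons 1 w) fun i => Fin.cons 0 (Pi.single i 1))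

/-- The Levi complement. -/
def emMat (h : Matrix (Fin m) (Fin m) (ZMod 2)) : Matrix (Fin (m + 1)) (Fin (m + 1)) (ZMod 2) :=
  Matrix.of (Fin.cons (Fin.cons 1 0) fun i => Fin.cons 0 (h i))

theorem trMat_mul (v w : Fin m → ZMod 2) : trMat v * trMat w = trMat (v + w) := by
  ext i j
  cases i using Fin.cases <;> cases j using Fin.cases <;>
    simp [trMat, Matrix.mul_apply, Fin.sum_univ_succ, Pi.single_apply, add_comm]

theorem trMat_zero : trMat (0 : Fin m → ZMod 2) = 1 := by
  ext i j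
  cases i using Fin.cases <;> cases j using Fin.cases <;>
    simp [trMat, Matrix.one_apply, Pi.single_apply, eq_comm]

theorem emMat_mul (h k : Matrix (Fin m) (Fin m) (ZMod 2)) : emMat h * emMat k = emMat (h * k) := by
  ext i j
  cases i using Fin.cases <;> cases j using Fin.cases <;>
    simp [emMat, Matrix.mul_apply, Fin.sum_univ_succ]

theorem emMat_one : emMat (1 : Matrix (Fin m) (Fin m) (ZMod 2)) = 1 := by
  ext i j
  cases i using Fin.cases <;> cases j using Fin.cases <;>
    simp [emMat, Matrix.one_apply, eq_comm]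

theorem emMat_mul_trMat (h : Matrix (Fin m) (Fin m) (ZMod 2)) (v : Fin m → ZMod 2) :
    emMat h * trMat (v ᵥ* h) = trMat v * emMat h := by
  ext i j
  cases i using Fin.cases <;> cases j using Fin.cases <;>
    simp [emMat, trMat, Matrix.mul_apply, Fin.sum_univ_succ, Pi.single_apply, Matrix.vecMul,
      dotProduct]

/-- The transvections with centre `e₀`. -/
def trHom : Multiplicative (Fin m → ZMod 2) →* Matrix.SpecialLinearGroup (Fin (m + 1)) (ZMod 2) where
  toFun v := ⟨trMat v.toAdd, det_eq_one_of_mul_eq_one (B := trMat v.toAdd) (by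
    rw [trMat_mul, show v.toAdd + v.toAdd = 0 by funext i; simp [CharTwo.add_self_eq_zero],
      trMat_zero])⟩
  map_one' := Subtype.ext trMat_zero
  map_mul' v w := Subtype.ext (trMat_mul v.toAdd w.toAdd).symm

/-- The Levi complement as a homomorphism. -/
def emHom : GL (Fin m) (ZMod 2) →* Matrix.SpecialLinearGroup (Fin (m + 1)) (ZMod 2) where
  toFun g := ⟨emMat g, det_eq_one_of_mul_eq_one (B := emMat (g⁻¹ : GL (Fin m) (ZMod 2)))
    (by rw [emMat_mul, Units.mul_inv, emMat_one])⟩
  map_one' := Subtype.ext (by simp [emMat_one])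
  map_mul' g h := Subtype.ext (emMat_mul _ _).symm

theorem trHom_injective : Function.Injective (trHom (m := m)) := by
  intro v w h
  apply Multiplicative.toAdd.injective
  funext i
  have h1 : trMat v.toAdd 0 i.succ = trMat w.toAdd 0 i.succ := by
    rw [show trMat v.toAdd = trMat w.toAdd from congrArg Subtype.val h]
  simpa [trMat] using h1

theorem emHom_mul_trHom (g : GL (Fin m) (ZMod 2)) (v : Fin m → ZMod 2) :
    emHom g * trHom (Multiplicative.ofAdd (v ᵥ* (g : Matrix (Fin m) (Fin m) (ZMod 2)))) *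
      (emHom g)⁻¹ = trHom (Multiplicative.ofAdd v) := by
  rw [mul_inv_eq_iff_eq_mul]
  exact Subtype.ext (emMat_mul_trMat _ _)

theorem emHom_conj (g : GL (Fin m) (ZMod 2)) (v : Fin m → ZMod 2) :
    emHom g * trHom (Multiplicative.ofAdd v) * (emHom g)⁻¹ = trHom (Multiplicative.ofAdd
      (v ᵥ* ((g⁻¹ : GL (Fin m) (ZMod 2)) : Matrix (Fin m) (Fin m) (ZMod 2)))) := by
  rw [← emHom_mul_trHom g (v ᵥ* _), Matrix.vecMul_vecMul, Units.inv_mul, Matrix.vecMul_one]

theorem trRange_elementary :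
    Cfsg.IsElementaryAbelian 2 (trHom (m := m)).range := by
  refine ⟨⟨⟨?_⟩⟩, ?_⟩
  · rintro ⟨_, v, rfl⟩ ⟨_, w, rfl⟩
    exact Subtype.ext (show trHom v * trHom w = trHom w * trHom v by
      rw [← map_mul, ← map_mul, mul_comm])
  · rintro _ ⟨v, rfl⟩
    rw [← map_pow, show v ^ 2 = 1 by
      apply Multiplicative.toAdd.injective; funext i
      simp [pow_two, CharTwo.add_self_eq_zero], map_one]

theorem trRange_card : Nat.card (trHom (m := m)).range = 2 ^ m := by
  rw [← Nat.card_congr (MonoidHom.ofInjective (f := trHom (m := m)) trHom_injective).toEquiv]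
  simp [Nat.card_eq_fintype_card]

theorem emRange_le_normalizer :
    (emHom (m := m)).range ≤ Subgroup.normalizer ((trHom (m := m)).range : Set _) := by
  rintro _ ⟨g, rfl⟩
  refine Subgroup.mem_normalizer_iff.2 fun x => ⟨?_, ?_⟩
  · rintro ⟨v, rfl⟩
    exact ⟨_, (emHom_conj g v.toAdd).symm⟩
  · rintro ⟨v, hv⟩
    refine ⟨Multiplicative.ofAdd (v.toAdd ᵥ* (g : Matrix (Fin m) (Fin m) (ZMod 2))), ?_⟩
    have h := emHom_mul_trHom g v.toAdd
    rw [ofAdd_toAdd, hv] at h
    exact mul_left_cancel (mul_right_cancel h)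

theorem trRange_inf_emRange : (trHom (m := m)).range ⊓ (emHom (m := m)).range = ⊥ := by
  rw [eq_bot_iff]
  rintro _ ⟨⟨v, rfl⟩, g, hg⟩
  refine Subgroup.mem_bot.2 ?_
  have hv : v = 1 := by
    apply Multiplicative.toAdd.injective
    funext i
    have h1 : emMat (g : Matrix (Fin m) (Fin m) (ZMod 2)) 0 i.succ = trMat v.toAdd 0 i.succ := by
      rw [show emMat (g : Matrix (Fin m) (Fin m) (ZMod 2)) = trMat v.toAdd from
        congrArg Subtype.val hg]
    simpa [emMat, trMat] using h1.symm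
  rw [hv, map_one]

theorem emRange_faithful : ∀ x ∈ (emHom (m := m)).range,
    (∀ u ∈ (trHom (m := m)).range, x * u * x⁻¹ = u) → x = 1 := by
  rintro _ ⟨g, rfl⟩ h
  have hg : (g⁻¹ : GL (Fin m) (ZMod 2)) = 1 := by
    refine Units.ext (Matrix.ext_of_single_vecMul fun i => ?_)
    have h1 := h _ ⟨Multiplicative.ofAdd (Pi.single i 1), rfl⟩
    rw [emHom_conj] at h1
    simpa using Multiplicative.ofAdd.injective (trHom_injective h1)
  rw [inv_eq_one.1 hg, map_one]

theorem emRange_full (φ : (trHom (m := m)).range ≃* (trHom (m := m)).range) :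
    ∃ x ∈ (emHom (m := m)).range, ∀ u : (trHom (m := m)).range,
      ((φ u : (trHom (m := m)).range) : Matrix.SpecialLinearGroup (Fin (m + 1)) (ZMod 2)) =
        x * u * x⁻¹ := by
  let e := MonoidHom.ofInjective (f := trHom (m := m)) trHom_injective
  let ψ : (Fin m → ZMod 2) ≃+ (Fin m → ZMod 2) :=
    MulEquiv.toAdditive (e.trans (φ.trans e.symm))
  let f : (Fin m → ZMod 2) →ₗ[ZMod 2] (Fin m → ZMod 2) :=
    AddMonoidHom.toZModLinearMap 2 ψ.toAddMonoidHom
  let f' : (Fin m → ZMod 2) →ₗ[ZMod 2] (Fin m → ZMod 2) :=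
    AddMonoidHom.toZModLinearMap 2 ψ.symm.toAddMonoidHom
  have hrow : ∀ (l : (Fin m → ZMod 2) →ₗ[ZMod 2] (Fin m → ZMod 2)) (x : Fin m → ZMod 2),
      x ᵥ* Matrix.of (fun i => l (Pi.single i 1)) = l x := fun l x => by
    conv_rhs => rw [pi_eq_sum_univ' x]
    funext j
    simp [map_sum, Matrix.vecMul, dotProduct, Finset.sum_apply]
  let g : GL (Fin m) (ZMod 2) :=
    ⟨Matrix.of (fun i => f' (Pi.single i 1)), Matrix.of (fun i => f (Pi.single i 1)),
      Matrix.ext_of_single_vecMul fun i => by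
        rw [← Matrix.vecMul_vecMul, hrow, hrow, Matrix.vecMul_one]
        exact ψ.apply_symm_apply _,
      Matrix.ext_of_single_vecMul fun i => by
        rw [← Matrix.vecMul_vecMul, hrow, hrow, Matrix.vecMul_one]
        exact ψ.symm_apply_apply _⟩
  refine ⟨_, ⟨g, rfl⟩, fun u => ?_⟩
  obtain ⟨v, rfl⟩ := e.surjective u
  show _ = emHom g * trHom (Multiplicative.ofAdd v.toAdd) * (emHom g)⁻¹
  rw [emHom_conj, show (v.toAdd ᵥ* ((g⁻¹ : GL (Fin m) (ZMod 2)) : Matrix (Fin m) (Fin m) (ZMod 2)))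
    = ψ v.toAdd from hrow f _]
  exact (congrArg Subtype.val (e.apply_symm_apply (φ (e v)))).symm

theorem centralizer_trHom_le : ∀ u ∈ (trHom (m := m)).range, u ≠ 1 →
    Subgroup.centralizer ({u} : Set (Matrix.SpecialLinearGroup (Fin (m + 1)) (ZMod 2))) ≤
      (trHom (m := m)).range ⊔ (emHom (m := m)).range := by
  rintro _ ⟨v, rfl⟩ hv g hg
  obtain ⟨j, hj⟩ : ∃ j, v.toAdd j = 1 := by
    by_contra h
    rw [not_exists] at h
    refine hv ?_
    rw [show v = 1 by
      apply Multiplicative.toAdd.injective; funext i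
      exact (zmod2_cases _).resolve_right (h i), map_one]
  have key : ∀ x ∈ Subgroup.centralizer
      ({trHom v} : Set (Matrix.SpecialLinearGroup (Fin (m + 1)) (ZMod 2))), ∀ i : Fin m,
      (x : Matrix (Fin (m + 1)) (Fin (m + 1)) (ZMod 2)) i.succ 0 = 0 := by
    intro x hx i
    have h1 : ((x : Matrix (Fin (m + 1)) (Fin (m + 1)) (ZMod 2)) * trMat v.toAdd) i.succ j.succ =
        (trMat v.toAdd * (x : Matrix (Fin (m + 1)) (Fin (m + 1)) (ZMod 2))) i.succ j.succ := by
      rw [show (x : Matrix (Fin (m + 1)) (Fin (m + 1)) (ZMod 2)) * trMat v.toAdd =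
        trMat v.toAdd * x by
          have h := Subgroup.mem_centralizer_singleton_iff.1 hx
          exact congrArg Subtype.val h]
    simpa [trMat, Matrix.mul_apply, Fin.sum_univ_succ, Pi.single_apply, hj] using h1
  set A : Matrix (Fin (m + 1)) (Fin (m + 1)) (ZMod 2) := g.1 with hA
  set B : Matrix (Fin (m + 1)) (Fin (m + 1)) (ZMod 2) := (g⁻¹).1 with hB
  have hAB : A * B = 1 := by
    have h := mul_inv_cancel g
    exact congrArg Subtype.val h
  have hBA : B * A = 1 := by
    have h := inv_mul_cancel g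
    exact congrArg Subtype.val h
  have hA0 : ∀ i : Fin m, A i.succ 0 = 0 := key g hg
  have hB0 : ∀ i : Fin m, B i.succ 0 = 0 := key g⁻¹ (Subgroup.inv_mem _ hg)
  have hblock : ∀ {C D : Matrix (Fin (m + 1)) (Fin (m + 1)) (ZMod 2)},
      (∀ i : Fin m, C i.succ 0 = 0) → C * D = 1 →
      C.submatrix Fin.succ Fin.succ * D.submatrix Fin.succ Fin.succ = 1 := by
    intro C D hC hCD
    ext i k
    have h1 := congrFun (congrFun hCD i.succ) k.succ
    simpa [Matrix.mul_apply, Fin.sum_univ_succ, hC, Matrix.one_apply] using h1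
  let h : GL (Fin m) (ZMod 2) := ⟨_, _, hblock hA0 hAB, hblock hB0 hBA⟩
  have h00 : A 0 0 = 1 := (zmod2_cases _).resolve_left fun h0 => by
    have h1 := congrFun (congrFun hBA 0) 0
    simp [Matrix.mul_apply, Fin.sum_univ_succ, hA0, h0] at h1
  have hg' : g = emHom h * trHom (Multiplicative.ofAdd fun k => A 0 k.succ) := by
    refine Subtype.ext (Matrix.ext fun i k => ?_)
    show A i k = (emMat (A.submatrix Fin.succ Fin.succ) * trMat fun k => A 0 k.succ) i k
    cases i using Fin.cases <;> cases k using Fin.cases <;>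
      simp [emMat, trMat, Matrix.mul_apply, Fin.sum_univ_succ, Pi.single_apply, hA0, h00]
  rw [hg']
  exact mul_mem (Subgroup.mem_sup_right ⟨_, rfl⟩) (Subgroup.mem_sup_left ⟨_, rfl⟩)

end CfsgLib.Holomorph
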