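import Cfsg.Agent.LargeExtra.SimpleCriterion
import Cfsg.Prelude.Def_Transfer
import Mathlib.GroupTheory.Transfer

/-!
Transfer into the centralizer of a central involution of an extraspecial 2-subgroup, computed
orbit by orbit.
-/

set_option autoImplicit false
set_option linter.unusedSectionVars false
set_option linter.style.haveILetI false

namespace CfsgLib.OrbitTransfer

open Subgroup MulAction CfsgLib.Extra2 CfsgLib.LargeExtra
open scoped Pointwise

section Cocycle

variable {G Ω B : Type*} [Group G] [Finite G] [MulAction G Ω] [CommGroup B]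

/-- A multiplicative cocycle for the action. -/
def IsCocycle (f : G → Ω → B) : Prop := ∀ g h : G, ∀ ω : Ω, f (g * h) ω = f g (h • ω) * f h ω

theorem IsCocycle.one {f : G → Ω → B} (hf : IsCocycle f) (ω : Ω) : f 1 ω = 1 := by
  have := hf 1 1 ω
  rw [mul_one, one_smul] at this
  exact mul_eq_left.1 this.symm

/-- An invariant function on a union of orbits of even length. -/
theorem prod_eq_one_of_invariant [DecidableEq Ω] (hB : ∀ b : B, b * b = 1) {E : Subgroup G}
    (hE : IsPGroup 2 E) (g : Ω → B) (S : Finset Ω) (hS : ∀ e ∈ E, ∀ ω ∈ S, e • ω ∈ S)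
    (hg : ∀ e ∈ E, ∀ ω ∈ S, g (e • ω) = g ω) (hmove : ∀ ω ∈ S, ∃ e ∈ E, e • ω ≠ ω) :
    ∏ ω ∈ S, g ω = 1 := by
  classical
  let r : Ω → Ω := fun ω => (Quotient.mk (orbitRel E Ω) ω).out
  have hr : ∀ ω, ∃ e : E, e • ω = r ω := fun ω =>
    mem_orbit_iff.1 (orbitRel_apply.1 (Quotient.mk_out (s := orbitRel E Ω) ω))
  rw [← Finset.prod_fiberwise_of_maps_to (t := S.image r) (g := r)
    (fun ω hω => Finset.mem_image_of_mem r hω)]
  refine Finset.prod_eq_one fun c hc => ?_
  obtain ⟨ω, hω, rfl⟩ := Finset.mem_image.1 hc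
  have hval : ∀ ρ ∈ S.filter (fun ρ => r ρ = r ω), g ρ = g (r ω) := by
    intro ρ hρ
    obtain ⟨hρS, hρr⟩ := Finset.mem_filter.1 hρ
    obtain ⟨e, he⟩ := hr ρ
    rw [← hρr, ← he]
    exact (hg e e.2 ρ hρS).symm
  rw [Finset.prod_congr rfl hval, Finset.prod_const]
  have horb : ((S.filter (fun ρ => r ρ = r ω) : Finset Ω) : Set Ω) = orbit E ω := by
    ext ρ
    simp only [Finset.coe_filter, Set.mem_setOf_eq]
    constructor
    · rintro ⟨-, h⟩
      obtain ⟨e, he⟩ := hr ρ
      obtain ⟨e', he'⟩ := hr ω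
      exact mem_orbit_iff.2 ⟨e⁻¹ * e', by rw [mul_smul, he', ← h, ← he, inv_smul_smul]⟩
    · rintro hρ
      refine ⟨?_, congrArg Quotient.out (Quotient.sound (s := orbitRel E Ω) hρ)⟩
      obtain ⟨e, rfl⟩ := mem_orbit_iff.1 hρ
      exact hS e e.2 ω hω
  obtain ⟨k, hk⟩ := IsPGroup.iff_card.1 hE
  have heven : 2 ∣ (S.filter (fun ρ => r ρ = r ω)).card := by
    have h1 : Nat.card (orbit E ω) = (S.filter (fun ρ => r ρ = r ω)).card := by
      rw [← horb]; simp
    have h2 : Nat.card (orbit E ω) ∣ 2 ^ k := by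
      rw [← hk, Nat.card_congr (orbitEquivQuotientStabilizer E ω), ← index_eq_card]
      exact index_dvd_card _
    obtain ⟨j, -, hj⟩ := (Nat.dvd_prime_pow Nat.prime_two).1 h2
    have hj0 : j ≠ 0 := by
      rintro rfl
      obtain ⟨e, he, hne⟩ := hmove ω hω
      rw [pow_zero, Nat.card_eq_one_iff_unique] at hj
      exact hne (congrArg Subtype.val (hj.1.elim
        ⟨e • ω, mem_orbit ω (⟨e, he⟩ : E)⟩ ⟨ω, mem_orbit_self ω⟩))
    rw [← h1, hj]
    exact dvd_pow_self 2 hj0
  obtain ⟨m, hm⟩ := heven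
  rw [hm, pow_mul, pow_two, hB, one_pow]

variable {f : G → Ω → B} (hf : IsCocycle f)
include hf

/-- The contribution of a union of moved orbits with trivial isotropy values is trivial. -/
theorem prod_eq_one [DecidableEq Ω] (hB : ∀ b : B, b * b = 1) {E : Subgroup G} (hE : IsPGroup 2 E)
    {x : G} (hx : ∀ e ∈ E, x * e * x⁻¹ ∈ E) (S : Finset Ω)
    (hS : ∀ e ∈ E, ∀ ω ∈ S, e • ω ∈ S) (hxS : ∀ ω ∈ S, x • ω ∈ S)
    (hstab : ∀ e ∈ E, ∀ ω ∈ S, e • ω = ω → f e ω = 1) (hmove : ∀ ω ∈ S, ∃ e ∈ E, e • ω ≠ ω) :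
    ∏ ω ∈ S, f x ω = 1 := by
  classical
  let r : Ω → Ω := fun ω => (Quotient.mk (orbitRel E Ω) ω).out
  have hr : ∀ ω, ∃ e : E, e • ω = r ω := fun ω =>
    mem_orbit_iff.1 (orbitRel_apply.1 (Quotient.mk_out (s := orbitRel E Ω) ω))
  choose c hc using hr
  let δ : Ω → B := fun ω => f ((c ω : E) : G) ω
  have hrr : ∀ e ∈ E, ∀ ω, r (e • ω) = r ω := fun e he ω =>
    congrArg Quotient.out (Quotient.sound (s := orbitRel E Ω) (mem_orbit ω (⟨e, he⟩ : E)))
  have hδ : ∀ e ∈ E, ∀ ω ∈ S, δ (e • ω) = f e ω * δ ω := by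
    intro e he ω hω
    set a := ((c (e • ω) : E) : G) * e
    set b := ((c ω : E) : G)
    have hab : a • ω = b • ω := by
      show (((c (e • ω) : E) : G) * e) • ω = _
      rw [mul_smul]
      exact (hc (e • ω)).trans ((hrr e he ω).trans (hc ω).symm)
    have hk : b⁻¹ * a ∈ E := mul_mem (inv_mem (c ω).2) (mul_mem (c (e • ω)).2 he)
    have hfix : (b⁻¹ * a) • ω = ω := by rw [mul_smul, hab, inv_smul_smul]
    have h1 : f a ω = f b ω := by
      conv_lhs => rw [← mul_inv_cancel_left b a, hf, hfix, hstab _ hk ω hω hfix, mul_one]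
    have h2 : δ (e • ω) * f e ω = δ ω := (hf _ e ω).symm.trans h1
    rw [← h2, mul_comm (f e ω), mul_assoc, hB, mul_one]
  have key : ∀ e ∈ E, ∀ ω ∈ S, f x (e • ω) * δ (e • ω) * δ (x • e • ω) =
      f x ω * δ ω * δ (x • ω) := by
    intro e he ω hω
    have h1 : f x (e • ω) * f e ω = f (x * e * x⁻¹) (x • ω) * f x ω := by
      rw [← hf, ← hf, inv_mul_cancel_right]
    have h2 : x • e • ω = (x * e * x⁻¹) • x • ω := by rw [← mul_smul, ← mul_smul, inv_mul_cancel_right]
    rw [hδ e he ω hω, h2, hδ _ (hx e he) _ (hxS ω hω)]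
    calc f x (e • ω) * (f e ω * δ ω) * (f (x * e * x⁻¹) (x • ω) * δ (x • ω))
        = (f x (e • ω) * f e ω) * f (x * e * x⁻¹) (x • ω) * (δ ω * δ (x • ω)) := by ac_rfl
      _ = f x ω * (f (x * e * x⁻¹) (x • ω) * f (x * e * x⁻¹) (x • ω)) * (δ ω * δ (x • ω)) := by
          rw [h1]; ac_rfl
      _ = _ := by rw [hB, mul_one, mul_assoc]
  have hxim : S.image (x • ·) = S := Finset.eq_of_subset_of_card_le
    (fun y hy => by obtain ⟨ω, hω, rfl⟩ := Finset.mem_image.1 hy; exact hxS ω hω)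
    (Finset.card_image_of_injective _ (MulAction.injective x)).ge
  have hinv := prod_eq_one_of_invariant hB hE (fun ω => f x ω * δ ω * δ (x • ω)) S hS key hmove
  rw [Finset.prod_mul_distrib, Finset.prod_mul_distrib] at hinv
  have : ∏ ω ∈ S, δ (x • ω) = ∏ ω ∈ S, δ ω := by
    conv_rhs => rw [← hxim]
    exact (Finset.prod_image (f := δ) fun a _ b _ h => MulAction.injective x h).symm
  rwa [this, mul_assoc, hB, mul_one] at hinv

/-- The contribution for an element of `E` itself, when the central element has trivial value. -/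
theorem prod_self_eq_one [DecidableEq Ω] (hB : ∀ b : B, b * b = 1) {E : Subgroup G}
    (hE : IsPGroup 2 E) {z e : G} (he : e ∈ E) (he2 : e * e = 1 ∨ e * e = z)
    (hcm : ∀ a ∈ E, e * a = a * e ∨ e * a = a * e * z) (S : Finset Ω)
    (hS : ∀ a ∈ E, ∀ ω ∈ S, a • ω ∈ S) (hz : ∀ ω ∈ S, z • ω = ω) (hfz : ∀ ω ∈ S, f z ω = 1)
    (hmove : ∀ ω ∈ S, ∃ a ∈ E, a • ω ≠ ω) : ∏ ω ∈ S, f e ω = 1 := by
  classical
  have hee : ∀ ω ∈ S, e • e • ω = ω ∧ f (e * e) ω = 1 := fun ω hω => by
    rw [← mul_smul]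
    rcases he2 with h | h <;> rw [h]
    · exact ⟨one_smul _ _, hf.one ω⟩
    · exact ⟨hz ω hω, hfz ω hω⟩
  rw [← Finset.prod_filter_mul_prod_filter_not S (fun ω => e • ω = ω)]
  have h2 : ∏ ω ∈ S.filter (fun ω => ¬ e • ω = ω), f e ω = 1 := by
    refine Finset.prod_involution (fun ω _ => e • ω) (fun ω hω => ?_)
      (fun ω hω _ => (Finset.mem_filter.1 hω).2) (fun ω hω => ?_) (fun ω hω => ?_)
    · have := hee ω (Finset.mem_filter.1 hω).1
      rw [hf] at this
      rw [mul_comm]; exact this.2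
    · obtain ⟨hωS, hne⟩ := Finset.mem_filter.1 hω
      exact Finset.mem_filter.2 ⟨hS e he ω hωS, fun h => hne (MulAction.injective e h)⟩
    · exact (hee ω (Finset.mem_filter.1 hω).1).1
  rw [h2, mul_one]
  have hcomm : ∀ a ∈ E, ∀ ω ∈ S, e • a • ω = a • e • ω := fun a ha ω hω => by
    rw [← mul_smul, ← mul_smul]
    rcases hcm a ha with h | h <;> rw [h]
    rw [mul_smul, hz ω hω]
  refine prod_eq_one_of_invariant hB hE _ _ (fun a ha ω hω => ?_) (fun a ha ω hω => ?_)
    fun ω hω => hmove ω (Finset.mem_filter.1 hω).1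
  · obtain ⟨hωS, hfix⟩ := Finset.mem_filter.1 hω
    exact Finset.mem_filter.2 ⟨hS a ha ω hωS, by rw [hcomm a ha ω hωS, hfix]⟩
  · obtain ⟨hωS, hfix⟩ := Finset.mem_filter.1 hω
    have h1 : f (e * a) ω = f a ω * f e ω := by
      rcases hcm a ha with h | h <;> rw [h]
      · rw [hf, hfix]
      · rw [hf, hz ω hωS, hfz ω hωS, mul_one, hf, hfix]
    rw [hf, mul_comm] at h1
    exact mul_left_cancel h1

/-- The cocycle on finite sets of points. -/
theorem isCocycle_finset [DecidableEq Ω] : IsCocycle (fun g (P : Finset Ω) => ∏ ρ ∈ P, f g ρ) :=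
  fun g h P => by
    show ∏ ρ ∈ P, f (g * h) ρ = (∏ ρ ∈ h • P, f g ρ) * ∏ ρ ∈ P, f h ρ
    rw [Finset.smul_finset_def, Finset.prod_image (fun a _ b _ e => MulAction.injective h e),
      ← Finset.prod_mul_distrib]
    exact Finset.prod_congr rfl fun ρ _ => hf g h ρ

end Cocycle

section Setting

variable {G : Type*} [Group G] [Finite G] {B : Type*} [CommGroup B] {z : G}


/-- The conjugate of `z` attached to a coset of `C(z)`. -/
noncomputable def wt (ω : G ⧸ (centralizer ({z} : Set G))) : G := ω.out * z * ω.out⁻¹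

theorem smul_out (g : G) (ω : G ⧸ (centralizer ({z} : Set G))) : (g • ω).out⁻¹ * g * ω.out ∈ (centralizer ({z} : Set G)) := by
  have h : ((g • ω).out : G ⧸ (centralizer ({z} : Set G))) = ((g * ω.out : G) : G ⧸ (centralizer ({z} : Set G))) := by
    rw [QuotientGroup.out_eq']
    conv_lhs => rw [← QuotientGroup.out_eq' ω]
    rfl
  simpa [mul_assoc] using QuotientGroup.eq.1 h

theorem wt_smul (g : G) (ω : G ⧸ (centralizer ({z} : Set G))) : wt (g • ω) = g * wt ω * g⁻¹ := by
  have h := mem_centralizer_singleton_iff.1 (smul_out g ω)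
  simp only [wt]
  calc (g • ω).out * z * (g • ω).out⁻¹
      = (g • ω).out * (z * ((g • ω).out⁻¹ * g * ω.out)) * (ω.out⁻¹ * g⁻¹) := by group
    _ = (g • ω).out * ((g • ω).out⁻¹ * g * ω.out * z) * (ω.out⁻¹ * g⁻¹) := by rw [h]
    _ = _ := by group

theorem wt_injective : Function.Injective (wt (z := z)) := fun a b h => by
  rw [← QuotientGroup.out_eq' a, ← QuotientGroup.out_eq' b, QuotientGroup.eq,
    mem_centralizer_singleton_iff]
  simp only [wt] at h
  calc a.out⁻¹ * b.out * z = a.out⁻¹ * (b.out * z * b.out⁻¹) * b.out := by group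
    _ = a.out⁻¹ * (a.out * z * a.out⁻¹) * b.out := by rw [h]
    _ = z * (a.out⁻¹ * b.out) := by group

theorem fix_iff {g : G} {ω : G ⧸ (centralizer ({z} : Set G))} : g • ω = ω ↔ g * wt ω = wt ω * g := by
  rw [← wt_injective.eq_iff, wt_smul, mul_inv_eq_iff_eq_mul]

variable (θ : ↥(centralizer ({z} : Set G)) →* B)

/-- The summands of the transfer. -/
noncomputable def term (g : G) (ω : G ⧸ (centralizer ({z} : Set G))) : B := θ ⟨(g • ω).out⁻¹ * g * ω.out, smul_out g ω⟩

theorem isCocycle_term : IsCocycle (term θ) := fun g h ω => by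
  simp only [term]
  rw [← map_mul]
  congr 1
  apply Subtype.ext
  simp only [Subgroup.coe_mul, mul_smul]
  group

theorem term_fixed {g : G} {ω : G ⧸ (centralizer ({z} : Set G))} (h : g • ω = ω)
    (hm : ω.out⁻¹ * g * ω.out ∈ (centralizer ({z} : Set G))) : term θ g ω = θ ⟨ω.out⁻¹ * g * ω.out, hm⟩ := by
  simp only [term]
  congr 1
  refine Subtype.ext ?_
  show (g • ω).out⁻¹ * g * ω.out = ω.out⁻¹ * g * ω.out
  rw [h]

theorem transfer_eq [Fintype (G ⧸ (centralizer ({z} : Set G)))] (g : G) :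
    MonoidHom.transfer θ g = ∏ ω : G ⧸ (centralizer ({z} : Set G)), term θ g ω := by
  classical
  let T : ((centralizer ({z} : Set G))).LeftTransversal :=
    ⟨Set.range Quotient.out, isComplement_range_left (fun q => QuotientGroup.out_eq' q)⟩
  rw [MonoidHom.transfer_def θ T g]
  simp only [leftTransversals.diff]
  symm
  convert Fintype.prod_equiv (MulAction.toPerm g : Equiv.Perm (G ⧸ (centralizer ({z} : Set G)))) _ _ (fun ω => ?_) using 3
  simp only [term]
  congr 1
  apply Subtype.ext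
  show (g • ω).out⁻¹ * g * ω.out = _
  simp only [MulAction.toPerm_apply]
  rw [smul_apply_eq_smul_apply_inv_smul, inv_smul_smul,
    IsComplement.leftQuotientEquiv_apply (fun q => QuotientGroup.out_eq' q),
    IsComplement.leftQuotientEquiv_apply (fun q => QuotientGroup.out_eq' q), smul_eq_mul, mul_assoc]

theorem transfer_eq_one (hres : Cfsg.pResidual 2 G = ⊤) (hB : ∀ b : B, b * b = 1) (g : G) :
    MonoidHom.transfer θ g = 1 := by
  have hle : Cfsg.pResidual 2 G ≤ (MonoidHom.transfer θ).ker := by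
    rw [Cfsg.pResidual, closure_le]
    intro y hy
    rw [SetLike.mem_coe, MonoidHom.mem_ker, ← orderOf_eq_one_iff]
    refine Nat.eq_one_of_dvd_coprimes (show (orderOf y).Coprime 2 from hy) (orderOf_map_dvd _ _)
      (orderOf_dvd_of_pow_eq_one ?_)
    rw [pow_two, hB]
  exact hle (hres ▸ mem_top g)

end Setting

section Main

variable {G : Type*} [Group G] [Finite G] {B : Type*} [CommGroup B] {E : Subgroup G} {z : G}
  (h : Pre E z) (hE : Cfsg.IsExtraspecial 2 ↥E)


include h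

theorem le_C : E ≤ (centralizer ({z} : Set G)) := fun e he => mem_centralizer_singleton_iff.2 (h.gen.comm_z e he).eq

theorem moved {w : G} (hw2 : w * w = 1) (hw : w ≠ z) (hw1 : w ≠ 1) :
    ∃ e ∈ E, e * w ≠ w * e := by
  by_contra hall
  push Not at hall
  rcases h.gen.center_iff w (h.self (mem_centralizer_iff.2 hall)) (fun y hy => (hall y hy).symm)
    with e | e
  · exact hw1 e
  · exact hw e

theorem wt_props (ω : G ⧸ (centralizer ({z} : Set G))) : wt ω * wt ω = 1 ∧ wt ω ≠ 1 := by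
  refine ⟨?_, fun e => h.gen.ne_one (conj_eq_one_iff.1 e)⟩
  calc wt ω * wt ω = ω.out * (z * z) * ω.out⁻¹ := by simp only [wt]; group
    _ = 1 := by rw [h.gen.sq]; group

/-- The image of `z` at a fixed point is a commutator when the isotropy group in `E` is nonabelian. -/
theorem exists_comm {ω : G ⧸ (centralizer ({z} : Set G))} {a b : G} (ha : a ∈ E) (hb : b ∈ E)
    (haw : a * wt ω = wt ω * a) (hbw : b * wt ω = wt ω * b) (hab : a * b ≠ b * a) :
    ∃ (a' b' : ↥(centralizer ({z} : Set G))) (hz : ω.out⁻¹ * z * ω.out ∈ (centralizer ({z} : Set G))),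
      a' * b' * a'⁻¹ * b'⁻¹ = ⟨ω.out⁻¹ * z * ω.out, hz⟩ := by
  have hmem : ∀ y : G, y * wt ω = wt ω * y → ω.out⁻¹ * y * ω.out ∈ (centralizer ({z} : Set G)) := fun y hy => by
    have := smul_out y ω
    rwa [fix_iff.2 hy] at this
  have hcz : a * b * a⁻¹ * b⁻¹ = z := (h.gen.comm a ha b hb).resolve_left fun e =>
    hab (mul_inv_eq_iff_eq_mul.1 (mul_inv_eq_one.1 e))
  have hzw : z * wt ω = wt ω * z := by
    have h2 : ∀ y, y * wt ω = wt ω * y → y ∈ centralizer ({wt ω} : Set G) := fun y hy =>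
      mem_centralizer_singleton_iff.2 hy
    have h3 : a * b * a⁻¹ * b⁻¹ ∈ centralizer ({wt ω} : Set G) :=
      mul_mem (mul_mem (mul_mem (h2 a haw) (h2 b hbw)) (inv_mem (h2 a haw))) (inv_mem (h2 b hbw))
    exact mem_centralizer_singleton_iff.1 (Eq.mp (congrArg (· ∈ centralizer ({wt ω} : Set G)) hcz) h3)
  refine ⟨⟨_, hmem a haw⟩, ⟨_, hmem b hbw⟩, hmem z hzw, Subtype.ext ?_⟩
  simp only [Subgroup.coe_mul, InvMemClass.coe_inv]
  calc _ = ω.out⁻¹ * (a * b * a⁻¹ * b⁻¹) * ω.out := by group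
    _ = _ := congrArg (fun y => ω.out⁻¹ * y * ω.out) hcz

omit [CommGroup B] in
theorem fixed_smul {e : G} (he : e ∈ (centralizer ({z} : Set G))) {ω : G ⧸ (centralizer ({z} : Set G))} (hω : z • ω = ω) : z • e • ω = e • ω := by
  rw [← mul_smul, ← mem_centralizer_singleton_iff.1 he, mul_smul, hω]

/-- Points moved by `z` do not contribute. -/
theorem moved_part [Fintype (G ⧸ (centralizer ({z} : Set G)))] (hB : ∀ b : B, b * b = 1) (θ : ↥(centralizer ({z} : Set G)) →* B) {x : G}
    (hx : x ∈ (centralizer ({z} : Set G))) (S : Finset (G ⧸ (centralizer ({z} : Set G)))) (hS : ∀ ω, ω ∈ S ↔ z • ω ≠ ω) :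
    ∏ ω ∈ S, term θ x ω = 1 := by
  classical
  have hxz : x * z = z * x := mem_centralizer_singleton_iff.1 hx
  refine prod_eq_one (isCocycle_term θ) hB (E := zpowers z) (IsPGroup.of_card (n := 1)
    (by rw [Nat.card_zpowers, orderOf_gen h.gen, pow_one])) (fun e he => ?_) S ?_ ?_ ?_
    fun ω hω => ⟨z, mem_zpowers z, (hS ω).1 hω⟩
  · rcases (mem_zpowers_iff h.gen.sq).1 he with rfl | rfl
    · simp
    · rw [hxz, mul_inv_cancel_right]; exact he
  · intro e he ω hω
    rcases (mem_zpowers_iff h.gen.sq).1 he with rfl | rfl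
    · rwa [one_smul]
    · rw [hS] at hω ⊢
      exact fun e' => hω (MulAction.injective _ e')
  · intro ω hω
    rw [hS] at hω ⊢
    intro e
    refine hω (MulAction.injective x ?_)
    show x • z • ω = x • ω
    rw [← mul_smul, hxz, mul_smul]; exact e
  · intro e he ω hω hfix
    rcases (mem_zpowers_iff h.gen.sq).1 he with rfl | rfl
    · exact (isCocycle_term θ).one ω
    · exact absurd hfix ((hS ω).1 hω)

/-- The transfer is the value at `x` times the contributions of the other fixed points of `z`. -/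
theorem transfer_split [Fintype (G ⧸ (centralizer ({z} : Set G)))] (hres : Cfsg.pResidual 2 G = ⊤)
    (hB : ∀ b : B, b * b = 1) (θ : ↥(centralizer ({z} : Set G)) →* B) {x : G} (hx : x ∈ (centralizer ({z} : Set G)))
    (S : Finset (G ⧸ (centralizer ({z} : Set G)))) (hS : ∀ ω, ω ∈ S ↔ z • ω = ω ∧ wt ω ≠ z)
    (hone : ∏ ω ∈ S, term θ x ω = 1) : θ ⟨x, hx⟩ = 1 := by
  classical
  set ω₀ : G ⧸ (centralizer ({z} : Set G)) := ((1 : G) : G ⧸ (centralizer ({z} : Set G)))
  have hout : ω₀.out ∈ (centralizer ({z} : Set G)) := by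
    have := QuotientGroup.eq.1 (QuotientGroup.out_eq' ω₀).symm
    simpa using this
  have hw0 : wt ω₀ = z := by
    simp only [wt]
    rw [mem_centralizer_singleton_iff.1 hout, mul_inv_cancel_right]
  have hz0 : ∀ y ∈ (centralizer ({z} : Set G)), y • ω₀ = ω₀ := fun y hy => fix_iff.2 (by
    rw [hw0]; exact mem_centralizer_singleton_iff.1 hy)
  have hsplit : (Finset.univ : Finset (G ⧸ (centralizer ({z} : Set G)))) =
      insert ω₀ (S ∪ Finset.univ.filter fun ω => z • ω ≠ ω) := by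
    ext ω
    simp only [Finset.mem_univ, Finset.mem_insert, Finset.mem_union, Finset.mem_filter, true_and,
      hS, true_iff]
    by_cases hf : z • ω = ω
    · by_cases hw : wt ω = z
      · exact Or.inl (wt_injective (hw.trans hw0.symm))
      · exact Or.inr (Or.inl ⟨hf, hw⟩)
    · exact Or.inr (Or.inr hf)
  have hzC : z ∈ (centralizer ({z} : Set G)) := mem_centralizer_singleton_iff.2 rfl
  have h1 := transfer_eq_one θ hres hB x
  rw [transfer_eq, hsplit, Finset.prod_insert, Finset.prod_union, hone,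
    moved_part h hB θ hx _ (fun ω => by simp), mul_one, mul_one] at h1
  · rw [term_fixed θ (hz0 x hx) (mul_mem (mul_mem (inv_mem hout) hx) hout),
      show (⟨_, mul_mem (mul_mem (inv_mem hout) hx) hout⟩ : ↥(centralizer ({z} : Set G))) =
        ⟨ω₀.out, hout⟩⁻¹ * ⟨x, hx⟩ * ⟨ω₀.out, hout⟩ from rfl, map_mul, map_mul, map_inv,
      mul_comm (θ ⟨ω₀.out, hout⟩)⁻¹, inv_mul_cancel_right] at h1
    exact h1
  · rw [Finset.disjoint_left]
    intro ω hω hω'
    exact (Finset.mem_filter.1 hω').2 ((hS ω).1 hω).1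
  · intro hm
    rcases Finset.mem_union.1 hm with hm | hm
    · exact ((hS ω₀).1 hm).2 hw0
    · exact (Finset.mem_filter.1 hm).2 (hz0 z hzC)

include hE

/-- An abelian isotropy group with an element of order four: some element of `E` sends `w` to `wz`,
and `E` moves the pair `{w, wz}`. -/
theorem abelian_iso {w : G} (hwC : w ∈ (centralizer ({z} : Set G))) (hw2 : w * w = 1) (hw : w ≠ z)
    (hab : ∀ a ∈ E, ∀ b ∈ E, a * w = w * a → b * w = w * b → a * b = b * a)
    {c : G} (hc : c ∈ E) (hcw : c * w = w * c) (hc2 : c * c ≠ 1) :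
    (∃ d ∈ E, d * w * d⁻¹ = w * z) ∧ ∃ e ∈ E, e * w * e⁻¹ ≠ w ∧ e * w * e⁻¹ ≠ w * z := by
  have hwz : w * z = z * w := mem_centralizer_singleton_iff.1 hwC
  have hcc : c * c = z := (h.gen.square c hc).resolve_left hc2
  have hd : ∃ d ∈ E, d * w * d⁻¹ = w * z := by
    by_contra hno
    push Not at hno
    have hwinv : w⁻¹ = w := inv_eq_of_mul_eq_one_right hw2
    -- the elements `[e, w]` are involutions centralizing `w`
    have hk : ∀ e ∈ E, e * w * e⁻¹ * w ∈ E ∧ (e * w * e⁻¹ * w) * w = w * (e * w * e⁻¹ * w) ∧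
        (e * w * e⁻¹ * w) * (e * w * e⁻¹ * w) = 1 := by
      intro e he
      set k := e * w * e⁻¹ * w with hk
      have hkE : k ∈ E := by
        have := mul_mem he (h.conj_mem hwz (inv_mem he))
        rw [hwinv] at this
        simpa [k, mul_assoc] using this
      have hkw : w * k * w = k⁻¹ := by
        calc w * k * w = w * e * w * e⁻¹ * (w * w) := by simp only [k]; group
          _ = w * e * w * e⁻¹ := by rw [hw2, mul_one]
          _ = k⁻¹ := by simp only [k, mul_inv_rev, inv_inv, hwinv]; group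
      have hk2 : k * k = 1 := by
        rcases h.gen.square k hkE with e' | e'
        · exact e'
        · exfalso
          refine hno k hkE ?_
          have h3 : k⁻¹ = k * z := by
            rw [inv_eq_iff_mul_eq_one, ← mul_assoc, e', h.gen.sq]
          have h4 : k * w = w * (k * z) := by
            rw [← h3, ← hkw]
            calc k * w = (w * w) * k * w := by rw [hw2, one_mul]
              _ = w * (w * k * w) := by group
          calc k * w * k⁻¹ = w * (k * z) * k⁻¹ := by rw [h4]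
            _ = w * (z * k) * k⁻¹ := by rw [(h.gen.comm_z k hkE).eq]
            _ = w * z := by group
      refine ⟨hkE, ?_, hk2⟩
      rw [inv_eq_of_mul_eq_one_right hk2] at hkw
      calc k * w = (w * w) * k * w := by rw [hw2, one_mul]
        _ = w * (w * k * w) := by group
        _ = w * k := by rw [hkw]
    set U := closure ({z} ∪ {k | ∃ e ∈ E, k = e * w * e⁻¹ * w})
    set C := E ⊓ centralizer ({w} : Set G)
    have hUC : U ≤ C := by
      rw [closure_le]
      rintro y (rfl | ⟨e, he, rfl⟩)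
      · exact ⟨h.gen.mem, mem_centralizer_singleton_iff.2 hwz.symm⟩
      · exact ⟨(hk e he).1, mem_centralizer_singleton_iff.2 (hk e he).2.1⟩
    have hzU : z ∈ U := subset_closure (Or.inl rfl)
    have hCab : ∀ a ∈ C, ∀ b ∈ C, a * b = b * a := fun a ha b hb =>
      hab a ha.1 b hb.1 (mem_centralizer_singleton_iff.1 ha.2) (mem_centralizer_singleton_iff.1 hb.2)
    have hCU : E ⊓ centralizer (U : Set G) = C := by
      refine le_antisymm (fun e he => ?_) (fun a ha => ⟨ha.1, mem_centralizer_iff.2 fun u hu =>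
        hCab u (hUC hu) a ha⟩)
      obtain ⟨heE, heU⟩ := mem_inf.1 he
      refine ⟨heE, mem_centralizer_singleton_iff.2 ?_⟩
      obtain ⟨haE, haw, ha2⟩ := hk e heE
      set a := e * w * e⁻¹ * w with hadef
      have hconj : w * e * w⁻¹ = a * e := by
        calc w * e * w⁻¹ = a⁻¹ * e := by simp only [a, mul_inv_rev, inv_inv, hwinv]; group
          _ = a * e := by rw [inv_eq_of_mul_eq_one_right ha2]
      have hcen : ∀ y ∈ E, a * y = y * a := by
        intro y hy
        set k := y * w * y⁻¹ * w with hkdef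
        obtain ⟨hkE, hkw, hk2⟩ := hk y hy
        have hconjy : w * y * w⁻¹ = k * y := by
          calc w * y * w⁻¹ = k⁻¹ * y := by simp only [k, mul_inv_rev, inv_inv, hwinv]; group
            _ = k * y := by rw [inv_eq_of_mul_eq_one_right hk2]
        have hek : k * e = e * k :=
          mem_centralizer_iff.1 heU k (subset_closure (Or.inr ⟨y, hy, rfl⟩))
        have hak : a * k = k * a := hCab a
          ⟨haE, mem_centralizer_singleton_iff.2 haw⟩ k ⟨hkE, mem_centralizer_singleton_iff.2 hkw⟩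
        have hcm : a * e * (k * y) * (a * e)⁻¹ * (k * y)⁻¹ = e * y * e⁻¹ * y⁻¹ := by
          rw [← hconj, ← hconjy]
          rcases h.gen.comm e heE y hy with e' | e' <;>
          · calc w * e * w⁻¹ * (w * y * w⁻¹) * (w * e * w⁻¹)⁻¹ * (w * y * w⁻¹)⁻¹
                = w * (e * y * e⁻¹ * y⁻¹) * w⁻¹ := by group
              _ = e * y * e⁻¹ * y⁻¹ := by
                rw [e']
                first
                  | simp
                  | rw [hwz, mul_inv_cancel_right]
        have h1 : a * e * (k * y) * (a * e)⁻¹ * (k * y)⁻¹ =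
            a * k * (e * y * e⁻¹ * y⁻¹) * (y * a⁻¹ * y⁻¹ * k⁻¹) := by
          calc a * e * (k * y) * (a * e)⁻¹ * (k * y)⁻¹
              = a * (e * k) * y * e⁻¹ * a⁻¹ * (y⁻¹ * k⁻¹) := by group
            _ = a * (k * e) * y * e⁻¹ * a⁻¹ * (y⁻¹ * k⁻¹) := by rw [hek]
            _ = _ := by group
        rw [h1] at hcm
        rcases h.gen.comm e heE y hy with e' | e' <;> rw [e'] at hcm
        · have h2 : a * k * (y * a⁻¹ * y⁻¹ * k⁻¹) = 1 := by rw [mul_one] at hcm; exact hcm
          calc a * y = k⁻¹ * (a * k) * y := by rw [hak]; group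
            _ = k⁻¹ * (a * k * (y * a⁻¹ * y⁻¹ * k⁻¹)) * k * y * a := by group
            _ = y * a := by rw [h2]; group
        · have hzk : a * k * z = z * (a * k) := (h.gen.comm_z _ (mul_mem haE hkE)).eq
          have h2 : a * k * (y * a⁻¹ * y⁻¹ * k⁻¹) = 1 := by
            rw [hzk, mul_assoc] at hcm
            exact mul_eq_left.1 hcm
          calc a * y = k⁻¹ * (a * k) * y := by rw [hak]; group
            _ = k⁻¹ * (a * k * (y * a⁻¹ * y⁻¹ * k⁻¹)) * k * y * a := by group
            _ = y * a := by rw [h2]; group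
      rcases h.gen.center_iff a haE (fun y hy => hcen y hy) with e' | e'
      · have := mul_inv_eq_iff_eq_mul.1 ((mul_eq_one_iff_eq_inv.1 e').trans hwinv)
        exact this
      · refine absurd ?_ (hno e heE)
        rw [hwz, ← e']
        simp only [a, mul_assoc, hw2, mul_one]
    have hcardU := card_mul_card_centralizer h.gen hzU (hUC.trans inf_le_left)
    rw [hCU] at hcardU
    have hCC : E ⊓ centralizer (C : Set G) = C := le_antisymm
      (fun a ha => hCU.le ⟨ha.1, centralizer_le (show (U : Set G) ⊆ (C : Set G) from hUC) ha.2⟩)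
      (fun a ha => ⟨ha.1, mem_centralizer_iff.2 fun b hb => hCab b hb a ha⟩)
    have hcardC := card_mul_card_centralizer h.gen (R := C) (hUC hzU) inf_le_left
    rw [hCC] at hcardC
    have hUeq : U = C := eq_of_le_of_card_ge hUC
      (Nat.le_of_mul_le_mul_right (hcardC.trans hcardU.symm).le Nat.card_pos)
    have hinvol : ∀ u ∈ U, u * u = 1 := by
      intro u hu
      induction hu using closure_induction with
      | mem y hy =>
        rcases hy with rfl | ⟨e, he, rfl⟩
        · exact h.gen.sq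
        · exact (hk e he).2.2
      | one => simp
      | mul a b ha hb iha ihb =>
        calc a * b * (a * b) = a * (b * a) * b := by group
          _ = a * (a * b) * b := by rw [hCab b (hUC hb) a (hUC ha)]
          _ = (a * a) * (b * b) := by group
          _ = 1 := by rw [iha, ihb, one_mul]
      | inv a _ iha => rw [← mul_inv_rev, iha, inv_one]
    exact hc2 (hinvol c (hUeq.symm ▸ ⟨hc, mem_centralizer_singleton_iff.2 hcw⟩))
  refine ⟨hd, ?_⟩
  obtain ⟨d, hdE, hdw⟩ := hd
  by_contra hall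
  push Not at hall
  have hCab : ∀ a ∈ E, a * w = w * a → a * c = c * a := fun a ha haw => hab a ha c hc haw hcw
  have hdc : d * c * d⁻¹ = c * z := by
    rcases conj_eq h.gen hdE hc with e | e
    · exfalso
      have hcz : ∀ y ∈ E, c * y = y * c := by
        intro y hy
        by_cases hyw : y * w * y⁻¹ = w
        · exact (hCab y hy (mul_inv_eq_iff_eq_mul.1 hyw)).symm
        · have hyd := hCab (d⁻¹ * y) (mul_mem (inv_mem hdE) hy) (mul_inv_eq_iff_eq_mul.1 (by
            calc d⁻¹ * y * w * (d⁻¹ * y)⁻¹ = d⁻¹ * (y * w * y⁻¹) * d := by group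
              _ = d⁻¹ * (d * w * d⁻¹) * d := by rw [hall y hy hyw, hdw]
              _ = w := by group))
          calc c * y = (d * c * d⁻¹) * y := by rw [e]
            _ = d * (c * (d⁻¹ * y)) := by group
            _ = d * ((d⁻¹ * y) * c) := by rw [hyd]
            _ = y * c := by group
      rcases h.gen.center_iff c hc hcz with e | e
      · exact hc2 (by rw [e, one_mul])
      · exact hc2 (by rw [e]; exact h.gen.sq)
    · rw [e]; exact (h.gen.comm_z c hc).eq.symm
  have hwc : ∀ y ∈ E, y * (w * c) = w * c * y := by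
    have hcd : d * (w * c) = w * c * d := by
      refine mul_inv_eq_iff_eq_mul.1 ?_
      calc d * (w * c) * d⁻¹ = (d * w * d⁻¹) * (d * c * d⁻¹) := by group
        _ = w * z * (c * z) := by rw [hdw, hdc]
        _ = w * (z * c * z) := by group
        _ = w * c := by rw [← (h.gen.comm_z c hc).eq, mul_assoc c, h.gen.sq, mul_one]
    intro y hy
    by_cases hyw : y * w * y⁻¹ = w
    · have h1 := mul_inv_eq_iff_eq_mul.1 hyw
      rw [← mul_assoc, h1, mul_assoc, hCab y hy h1, mul_assoc]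
    · have h1 : d⁻¹ * y * w = w * (d⁻¹ * y) := mul_inv_eq_iff_eq_mul.1 (by
        calc d⁻¹ * y * w * (d⁻¹ * y)⁻¹ = d⁻¹ * (y * w * y⁻¹) * d := by group
          _ = d⁻¹ * (d * w * d⁻¹) * d := by rw [hall y hy hyw, hdw]
          _ = w := by group)
      have h2 := hCab (d⁻¹ * y) (mul_mem (inv_mem hdE) hy) h1
      calc y * (w * c) = d * ((d⁻¹ * y) * w) * c := by group
        _ = d * w * ((d⁻¹ * y) * c) := by rw [h1]; group
        _ = d * (w * c) * (d⁻¹ * y) := by rw [h2]; group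
        _ = w * c * y := by rw [hcd]; group
  have hm : w * c ∈ E := h.self (mem_centralizer_iff.2 hwc)
  rcases h.gen.center_iff _ hm (fun y hy => (hwc y hy).symm) with e | e
  · have hwc' : w = c⁻¹ := eq_inv_of_mul_eq_one_left e
    exact hc2 (by rw [← inv_inj, mul_inv_rev, inv_one, ← hwc', hw2])
  · have hwc' : w = z * c⁻¹ := eq_mul_inv_of_mul_eq e
    refine hc2 ?_
    have h3 : z * c⁻¹ * (z * c⁻¹) = 1 := hwc' ▸ hw2
    calc c * c = (z * z) * (c * c) := by rw [h.gen.sq, one_mul]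
      _ = z * z * (c⁻¹ * c⁻¹)⁻¹ := by rw [mul_inv_rev, inv_inv]
      _ = 1 := by
        rw [h.gen.sq, one_mul, inv_eq_one]
        calc c⁻¹ * c⁻¹ = (z * z) * (c⁻¹ * c⁻¹) := by rw [h.gen.sq, one_mul]
          _ = z * (z * c⁻¹) * c⁻¹ := by group
          _ = z * (c⁻¹ * z) * c⁻¹ := by rw [← (h.gen.comm_z _ (inv_mem hc)).eq]
          _ = (z * c⁻¹) * (z * c⁻¹) := by group
          _ = 1 := h3

/-- A character killing everything of order at most two in the abelianization is trivial. -/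
theorem char_eq_one (hres : Cfsg.pResidual 2 G = ⊤) (hB : ∀ b : B, b * b = 1) (θ : ↥(centralizer ({z} : Set G)) →* B)
    (hθ : ∀ y : ↥(centralizer ({z} : Set G)), Abelianization.of y ^ 2 = 1 → θ y = 1) (x : ↥(centralizer ({z} : Set G))) : θ x = 1 := by
  classical
  haveI : Fintype (G ⧸ (centralizer ({z} : Set G))) := Fintype.ofFinite _
  obtain ⟨x, hx⟩ := x
  have hEp : IsPGroup 2 E := hE.1.1
  set S := (Finset.univ : Finset (G ⧸ (centralizer ({z} : Set G)))).filter fun ω => z • ω = ω ∧ wt ω ≠ z with hSdef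
  refine transfer_split h hres hB θ hx S (fun ω => by simp [S]) ?_
  set bad : G → Prop := fun w => (∀ a ∈ E, ∀ b ∈ E, a * w = w * a → b * w = w * b → a * b = b * a) ∧
    ∃ c ∈ E, c * w = w * c ∧ c * c ≠ 1 with hbad
  have hstable : ∀ y ∈ (centralizer ({z} : Set G)), ∀ ω : G ⧸ (centralizer ({z} : Set G)), ω ∈ S → y • ω ∈ S := by
    intro y hy ω hω
    simp only [S, Finset.mem_filter, Finset.mem_univ, true_and] at hω ⊢
    refine ⟨fixed_smul h hy hω.1, fun e => hω.2 ?_⟩
    rw [wt_smul] at e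
    calc wt ω = y⁻¹ * (y * wt ω * y⁻¹) * y := by group
      _ = y⁻¹ * (z * y) := by rw [e, mul_assoc]
      _ = z := by rw [← mem_centralizer_singleton_iff.1 hy, inv_mul_cancel_left]
  have hbad_conj : ∀ y ∈ (centralizer ({z} : Set G)), ∀ w, bad w → bad (y * w * y⁻¹) := by
    rintro y hy w ⟨h1, c, hcE, hcw, hc2⟩
    have hy' := mem_centralizer_singleton_iff.1 hy
    have hy'' : y⁻¹ * z = z * y⁻¹ := (Commute.inv_left hy').eq
    refine ⟨fun a ha b hb haw hbw => ?_, y * c * y⁻¹, h.conj_mem hy' hcE, ?_, ?_⟩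
    · have hm : ∀ a ∈ E, a * (y * w * y⁻¹) = y * w * y⁻¹ * a →
          y⁻¹ * a * y ∈ E ∧ y⁻¹ * a * y * w = w * (y⁻¹ * a * y) := fun a ha haw =>
        ⟨by simpa using h.conj_mem hy'' ha, by
          calc y⁻¹ * a * y * w = y⁻¹ * (a * (y * w * y⁻¹)) * y := by group
            _ = y⁻¹ * (y * w * y⁻¹ * a) * y := by rw [haw]
            _ = _ := by group⟩
      have h2 := h1 _ (hm a ha haw).1 _ (hm b hb hbw).1 (hm a ha haw).2 (hm b hb hbw).2
      calc a * b = y * ((y⁻¹ * a * y) * (y⁻¹ * b * y)) * y⁻¹ := by group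
        _ = y * ((y⁻¹ * b * y) * (y⁻¹ * a * y)) * y⁻¹ := by rw [h2]
        _ = b * a := by group
    · calc y * c * y⁻¹ * (y * w * y⁻¹) = y * (c * w) * y⁻¹ := by group
        _ = y * (w * c) * y⁻¹ := by rw [hcw]
        _ = _ := by group
    · intro e
      refine hc2 ?_
      calc c * c = y⁻¹ * (y * c * y⁻¹ * (y * c * y⁻¹)) * y := by group
        _ = 1 := by rw [e]; group
  have hbad_iff : ∀ y ∈ (centralizer ({z} : Set G)), ∀ ω : G ⧸ (centralizer ({z} : Set G)), bad (wt (y • ω)) ↔ bad (wt ω) := fun y hy ω =>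
    ⟨fun hb => by
      have := hbad_conj y⁻¹ (inv_mem hy) _ hb
      rwa [← wt_smul, inv_smul_smul] at this,
     fun hb => by rw [wt_smul]; exact hbad_conj y hy _ hb⟩
  have hmem : ∀ {ω : G ⧸ (centralizer ({z} : Set G))}, ω ∈ S → z • ω = ω ∧ wt ω ≠ z := fun hω =>
    (Finset.mem_filter.1 hω).2
  have hxE : ∀ e ∈ E, x * e * x⁻¹ ∈ E := fun e he =>
    h.conj_mem (mem_centralizer_singleton_iff.1 hx) he
  rw [← Finset.prod_filter_mul_prod_filter_not S (fun ω => bad (wt ω))]
  have hgood : ∏ ω ∈ S.filter (fun ω => ¬ bad (wt ω)), term θ x ω = 1 := by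
    refine prod_eq_one (isCocycle_term θ) hB hEp hxE _ (fun e he ω hω => ?_) (fun ω hω => ?_)
      (fun e he ω hω hfix => ?_) fun ω hω => ?_
    · obtain ⟨hωS, hb⟩ := Finset.mem_filter.1 hω
      exact Finset.mem_filter.2 ⟨hstable e (le_C h he) ω hωS,
        fun hb' => hb ((hbad_iff e (le_C h he) ω).1 hb')⟩
    · obtain ⟨hωS, hb⟩ := Finset.mem_filter.1 hω
      exact Finset.mem_filter.2 ⟨hstable x hx ω hωS, fun hb' => hb ((hbad_iff x hx ω).1 hb')⟩
    · obtain ⟨hωS, hb⟩ := Finset.mem_filter.1 hω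
      have hm : ω.out⁻¹ * e * ω.out ∈ (centralizer ({z} : Set G)) := by
        have := smul_out e ω
        rwa [hfix] at this
      rw [term_fixed θ hfix hm]
      refine hθ _ ?_
      rw [pow_two, ← map_mul]
      rcases h.gen.square e he with e2 | e2
      · rw [show (⟨_, hm⟩ : ↥(centralizer ({z} : Set G))) * ⟨_, hm⟩ = 1 from Subtype.ext (by
          show ω.out⁻¹ * e * ω.out * (ω.out⁻¹ * e * ω.out) = 1
          calc _ = ω.out⁻¹ * (e * e) * ω.out := by group
            _ = 1 := by rw [e2]; group), map_one]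
      · have hne : e * e ≠ 1 := by rw [e2]; exact h.gen.ne_one
        obtain ⟨a, ha, b, hb', haw, hbw, hnc⟩ : ∃ a ∈ E, ∃ b ∈ E, a * wt ω = wt ω * a ∧
            b * wt ω = wt ω * b ∧ a * b ≠ b * a := by
          by_contra hno
          push Not at hno
          exact hb ⟨hno, e, he, fix_iff.1 hfix, hne⟩
        obtain ⟨a', b', hz, hab'⟩ := exists_comm h ha hb' haw hbw hnc
        rw [show (⟨_, hm⟩ : ↥(centralizer ({z} : Set G))) * ⟨_, hm⟩ = ⟨ω.out⁻¹ * z * ω.out, hz⟩ from Subtype.ext (by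
          show ω.out⁻¹ * e * ω.out * (ω.out⁻¹ * e * ω.out) = _
          calc _ = ω.out⁻¹ * (e * e) * ω.out := by group
            _ = _ := congrArg (fun y => ω.out⁻¹ * y * ω.out) e2), ← hab', map_mul, map_mul, map_mul, map_inv, map_inv,
          mul_comm (Abelianization.of a'), mul_inv_cancel_right, mul_inv_cancel]
    · obtain ⟨hωS, -⟩ := Finset.mem_filter.1 hω
      obtain ⟨e, he, hne⟩ := moved h (wt_props h ω).1 (hmem hωS).2 (wt_props h ω).2
      exact ⟨e, he, fun hf => hne (fix_iff.1 hf)⟩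
  rw [hgood, mul_one]
  -- blocks `{w, wz}`
  set S₂ := S.filter fun ω => bad (wt ω) with hS₂def
  let P : G ⧸ (centralizer ({z} : Set G)) → Finset (G ⧸ (centralizer ({z} : Set G))) := fun ω =>
    Finset.univ.filter fun ρ => wt ρ = wt ω ∨ wt ρ = wt ω * z
  have hPmem : ∀ {ω ρ : G ⧸ (centralizer ({z} : Set G))}, ρ ∈ P ω ↔ wt ρ = wt ω ∨ wt ρ = wt ω * z := fun {ω ρ} => by
    simp [P]
  have hwz : ∀ {ω : G ⧸ (centralizer ({z} : Set G))}, ω ∈ S₂ → z * wt ω = wt ω * z ∧ wt ω ∈ (centralizer ({z} : Set G)) ∧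
      ∃ d ∈ E, d * wt ω * d⁻¹ = wt ω * z ∧
        ∃ e ∈ E, e * wt ω * e⁻¹ ≠ wt ω ∧ e * wt ω * e⁻¹ ≠ wt ω * z := by
    intro ω hω
    obtain ⟨hωS, hb⟩ := Finset.mem_filter.1 hω
    have hzw := fix_iff.1 (hmem hωS).1
    have hwC : wt ω ∈ (centralizer ({z} : Set G)) := mem_centralizer_singleton_iff.2 hzw.symm
    obtain ⟨hab, c, hc, hcw, hc2⟩ := hb
    obtain ⟨⟨d, hd, hdw⟩, he⟩ :=
      abelian_iso h hE hwC (wt_props h ω).1 (hmem hωS).2 hab hc hcw hc2
    exact ⟨hzw, hwC, d, hd, hdw, he⟩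
  have hPsmul : ∀ y ∈ (centralizer ({z} : Set G)), ∀ ω, y • P ω = P (y • ω) := by
    intro y hy ω
    ext ρ
    rw [Finset.mem_smul_finset]
    have hy' := mem_centralizer_singleton_iff.1 hy
    constructor
    · rintro ⟨σ, hσ, rfl⟩
      rw [hPmem] at hσ ⊢
      rw [wt_smul, wt_smul]
      rcases hσ with e | e <;> rw [e]
      · exact Or.inl rfl
      · refine Or.inr ?_
        calc y * (wt ω * z) * y⁻¹ = y * wt ω * y⁻¹ * (y * z) * y⁻¹ := by group
          _ = y * wt ω * y⁻¹ * (z * y) * y⁻¹ := by rw [hy']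
          _ = _ := by group
    · intro hρ
      refine ⟨y⁻¹ • ρ, ?_, smul_inv_smul y ρ⟩
      rw [hPmem] at hρ ⊢
      rw [wt_smul] at hρ ⊢
      rcases hρ with e | e <;> rw [e, inv_inv]
      · exact Or.inl (by group)
      · refine Or.inr ?_
        calc y⁻¹ * (y * wt ω * y⁻¹ * z) * y = wt ω * y⁻¹ * (z * y) := by group
          _ = wt ω * y⁻¹ * (y * z) := by rw [hy']
          _ = wt ω * z := by group
  have hPpair : ∀ {ω : G ⧸ (centralizer ({z} : Set G))} {d : G}, d * wt ω * d⁻¹ = wt ω * z →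
      d • ω ≠ ω ∧ P ω = {ω, d • ω} := by
    intro ω d hd
    refine ⟨fun e => h.gen.ne_one ?_, ?_⟩
    · have h1 := congrArg wt e
      rw [wt_smul, hd] at h1
      exact mul_eq_left.1 h1
    · ext ρ
      rw [hPmem, Finset.mem_insert, Finset.mem_singleton, ← wt_injective.eq_iff,
        ← wt_injective.eq_iff (a := ρ) (b := d • ω), wt_smul, hd]
  have hPclass : ∀ {ω ρ : G ⧸ (centralizer ({z} : Set G))}, ρ ∈ P ω → P ρ = P ω := by
    intro ω ρ hρ
    rw [hPmem] at hρ
    ext σ
    rw [hPmem, hPmem]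
    rcases hρ with e | e <;> rw [e]
    rw [mul_assoc, h.gen.sq, mul_one]
    exact or_comm
  have hfib : ∀ ω ∈ S₂, S₂.filter (fun ρ => P ρ = P ω) = P ω := by
    intro ω hω
    obtain ⟨-, -, d, hd, hdw, -⟩ := hwz hω
    ext ρ
    rw [Finset.mem_filter]
    constructor
    · rintro ⟨-, e⟩
      rw [← e, hPmem]
      exact Or.inl rfl
    · intro hρ
      refine ⟨?_, hPclass hρ⟩
      rw [(hPpair hdw).2, Finset.mem_insert, Finset.mem_singleton] at hρ
      rcases hρ with rfl | rfl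
      · exact hω
      · obtain ⟨hωS, hb⟩ := Finset.mem_filter.1 hω
        exact Finset.mem_filter.2 ⟨hstable d (le_C h hd) ω hωS, (hbad_iff d (le_C h hd) ω).2 hb⟩
  rw [← Finset.prod_fiberwise_of_maps_to (t := S₂.image P) (g := P)
    (fun ω hω => Finset.mem_image_of_mem P hω)]
  rw [Finset.prod_congr rfl (g := fun Q => ∏ ρ ∈ Q, term θ x ρ) fun Q hQ => by
    obtain ⟨ω, hω, rfl⟩ := Finset.mem_image.1 hQ
    rw [hfib ω hω]]
  refine prod_eq_one (isCocycle_finset (isCocycle_term θ)) hB hEp hxE _ (fun e he Q hQ => ?_)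
    (fun Q hQ => ?_) (fun e he Q hQ hfix => ?_) fun Q hQ => ?_
  · obtain ⟨ω, hω, rfl⟩ := Finset.mem_image.1 hQ
    obtain ⟨hωS, hb⟩ := Finset.mem_filter.1 hω
    rw [hPsmul e (le_C h he)]
    exact Finset.mem_image_of_mem P (Finset.mem_filter.2
      ⟨hstable e (le_C h he) ω hωS, (hbad_iff e (le_C h he) ω).2 hb⟩)
  · obtain ⟨ω, hω, rfl⟩ := Finset.mem_image.1 hQ
    obtain ⟨hωS, hb⟩ := Finset.mem_filter.1 hω
    rw [hPsmul x hx]
    exact Finset.mem_image_of_mem P (Finset.mem_filter.2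
      ⟨hstable x hx ω hωS, (hbad_iff x hx ω).2 hb⟩)
  · obtain ⟨ω, hω, rfl⟩ := Finset.mem_image.1 hQ
    obtain ⟨hzw, -, d, hd, hdw, -⟩ := hwz hω
    obtain ⟨hne, hP2⟩ := hPpair hdw
    obtain ⟨hωS, -⟩ := Finset.mem_filter.1 hω
    have hzfix := (hmem hωS).1
    have hfz : term θ z ω = 1 := by
      have hm : ω.out⁻¹ * z * ω.out ∈ (centralizer ({z} : Set G)) := by
        have := smul_out z ω
        rwa [hzfix] at this
      rw [term_fixed θ hzfix hm]
      refine hθ _ ?_
      rw [← map_pow, show (⟨_, hm⟩ : ↥(centralizer ({z} : Set G))) ^ 2 = 1 from Subtype.ext (by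
        show (ω.out⁻¹ * z * ω.out) ^ 2 = 1
        rw [pow_two]
        calc _ = ω.out⁻¹ * (z * z) * ω.out := by group
          _ = 1 := by rw [h.gen.sq]; group), map_one]
    have hcz := isCocycle_term θ
    show ∏ ρ ∈ P ω, term θ e ρ = 1
    rw [hP2, Finset.prod_pair (Ne.symm hne)]
    have heω : e • ω ∈ P ω := by
      have := Finset.smul_mem_smul_finset (a := e) (hPmem.2 (Or.inl rfl) : ω ∈ P ω)
      rwa [hfix] at this
    rw [hP2, Finset.mem_insert, Finset.mem_singleton] at heω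
    rcases heω with heω | heω
    · -- `e` fixes both points
      have h1 : term θ (e * d) ω = term θ d ω * term θ e ω := by
        rcases conj_eq h.gen hd he with e' | e'
        · rw [show e * d = d * e from (mul_inv_eq_iff_eq_mul.1 e').symm, hcz, heω]
        · have e2 : d * e = z * (e * d) := by
            rw [mul_inv_eq_iff_eq_mul.1 e', mul_assoc]
          have e3 : e * d = z * (d * e) := by rw [e2, ← mul_assoc, h.gen.sq, one_mul]
          have h4 : z * (d * e) = d * e * z := ((h.gen.comm_z _ (mul_mem hd he)).eq).symm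
          rw [e3, h4, hcz, hzfix, hfz, mul_one, hcz, heω]
      rw [hcz, mul_comm] at h1
      rw [mul_left_cancel h1]
      exact hB _
    · have h1 := hcz e e ω
      rw [heω] at h1
      rw [mul_comm, ← h1]
      rcases h.gen.square e he with e2 | e2 <;> rw [e2]
      · exact hcz.one ω
      · exact hfz
  · obtain ⟨ω, hω, rfl⟩ := Finset.mem_image.1 hQ
    obtain ⟨-, -, d, hd, hdw, e, he, he1, he2⟩ := hwz hω
    refine ⟨e, he, fun hfix => ?_⟩
    have heω : e • ω ∈ P ω := by
      have := Finset.smul_mem_smul_finset (a := e) (hPmem.2 (Or.inl rfl) : ω ∈ P ω)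
      rwa [hfix] at this
    rw [hPmem, wt_smul] at heω
    exact heω.elim he1 he2

/-- `E` lies in the kernel of every character of `C(z)`. -/
theorem char_eq_one_on (hres : Cfsg.pResidual 2 G = ⊤) (hB : ∀ b : B, b * b = 1) {n : ℕ}
    (hn : 2 ≤ n) (hcard : Nat.card ↥E = 2 ^ (2 * n + 1)) (θ : ↥(centralizer ({z} : Set G)) →* B) {x : G} (hx : x ∈ E) :
    θ ⟨x, le_C h hx⟩ = 1 := by
  classical
  haveI : Fintype (G ⧸ (centralizer ({z} : Set G))) := Fintype.ofFinite _
  have hEp : IsPGroup 2 E := hE.1.1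
  set S := (Finset.univ : Finset (G ⧸ (centralizer ({z} : Set G)))).filter fun ω => z • ω = ω ∧ wt ω ≠ z with hSdef
  refine transfer_split h hres hB θ (le_C h hx) S (fun ω => by simp [S]) ?_
  let r : G ⧸ (centralizer ({z} : Set G)) → G ⧸ (centralizer ({z} : Set G)) := fun ω => (Quotient.mk (orbitRel E (G ⧸ (centralizer ({z} : Set G)))) ω).out
  rw [← Finset.prod_fiberwise_of_maps_to (t := S.image r) (g := r)
    (fun ω hω => Finset.mem_image_of_mem r hω)]
  refine Finset.prod_eq_one fun q hq => ?_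
  obtain ⟨ω, hω, rfl⟩ := Finset.mem_image.1 hq
  set O := S.filter fun ρ => r ρ = r ω
  obtain ⟨hzω, hwz'⟩ := (Finset.mem_filter.1 hω).2
  have hrr : ∀ e ∈ E, ∀ ρ, r (e • ρ) = r ρ := fun e he ρ =>
    congrArg Quotient.out (Quotient.sound (s := orbitRel E (G ⧸ (centralizer ({z} : Set G)))) (mem_orbit ρ (⟨e, he⟩ : E)))
  have hO : ∀ ρ, ρ ∈ O ↔ ∃ e ∈ E, e • ω = ρ := by
    intro ρ
    constructor
    · intro hρ
      have h1 := (Finset.mem_filter.1 hρ).2
      have h2 : Quotient.mk (orbitRel E (G ⧸ (centralizer ({z} : Set G)))) ρ = Quotient.mk (orbitRel E (G ⧸ (centralizer ({z} : Set G)))) ω := by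
        rw [← Quotient.out_eq (Quotient.mk _ ρ), ← Quotient.out_eq (Quotient.mk _ ω)]
        exact congrArg _ h1
      obtain ⟨e, he⟩ := mem_orbit_iff.1 (Quotient.exact h2)
      exact ⟨e, e.2, he⟩
    · rintro ⟨e, he, rfl⟩
      refine Finset.mem_filter.2 ⟨Finset.mem_filter.2 ⟨Finset.mem_univ _, ?_, ?_⟩, hrr e he ω⟩
      · exact fixed_smul h (le_C h he) hzω
      · rw [wt_smul]
        intro e'
        refine hwz' ?_
        calc wt ω = e⁻¹ * (e * wt ω * e⁻¹) * e := by group
          _ = e⁻¹ * (z * e) := by rw [e', mul_assoc]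
          _ = z := by rw [← (h.gen.comm_z e he).eq, inv_mul_cancel_left]
  have hOS : ∀ a ∈ E, ∀ ρ ∈ O, a • ρ ∈ O := by
    intro a ha ρ hρ
    obtain ⟨e, he, rfl⟩ := (hO ρ).1 hρ
    exact (hO _).2 ⟨a * e, mul_mem ha he, mul_smul a e ω⟩
  have hmem : ∀ ρ ∈ O, z • ρ = ρ ∧ wt ρ ≠ z := fun ρ hρ =>
    (Finset.mem_filter.1 (Finset.mem_filter.1 hρ).1).2
  have hcm : ∀ a ∈ E, x * a = a * x ∨ x * a = a * x * z := by
    intro a ha
    rcases conj_eq h.gen hx ha with e | e
    · exact Or.inl (mul_inv_eq_iff_eq_mul.1 e)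
    · refine Or.inr ?_
      rw [mul_inv_eq_iff_eq_mul.1 e, mul_assoc z, (h.gen.comm_z _ (mul_mem ha hx)).eq]
  have hcz := isCocycle_term θ
  -- the value at `z` is constant on the orbit
  have hzval : ∀ ρ ∈ O, term θ z ρ = term θ z ω := by
    intro ρ hρ
    obtain ⟨e, he, rfl⟩ := (hO ρ).1 hρ
    have h1 : term θ (z * e) ω = term θ (e * z) ω := by rw [(h.gen.comm_z e he).eq]
    rw [hcz, hcz, hzω, mul_comm] at h1
    exact mul_left_cancel h1
  by_cases hv : term θ z ω = 1
  · refine prod_self_eq_one hcz hB hEp (z := z) hx (h.gen.square x hx) hcm O hOS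
      (fun ρ hρ => (hmem ρ hρ).1) (fun ρ hρ => (hzval ρ hρ).trans hv) fun ρ hρ => ?_
    obtain ⟨e, he, hne⟩ := moved h (wt_props h ρ).1 (hmem ρ hρ).2 (wt_props h ρ).2
    exact ⟨e, he, fun hf => hne (fix_iff.1 hf)⟩
  -- the isotropy group is abelian, so of index at least four
  have habC : ∀ a ∈ E, ∀ b ∈ E, a * wt ω = wt ω * a → b * wt ω = wt ω * b → a * b = b * a := by
    intro a ha b hb haw hbw
    by_contra hnc
    obtain ⟨a', b', hz, hab'⟩ := exists_comm h ha hb haw hbw hnc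
    refine hv ?_
    rw [term_fixed θ hzω hz, ← hab', map_mul, map_mul, map_mul, map_inv, map_inv, mul_comm (θ a'),
      mul_inv_cancel_right, mul_inv_cancel]
  obtain ⟨d, hd, hdw⟩ := moved h (wt_props h ω).1 hwz' (wt_props h ω).2
  have hdfix : ∀ ρ ∈ O, d • ρ ≠ ρ := by
    intro ρ hρ hf
    obtain ⟨e, he, rfl⟩ := (hO ρ).1 hρ
    refine hdw (fix_iff.1 (MulAction.injective e ?_ : d • ω = ω))
    show e • d • ω = e • ω
    have h2 : e • d • ω = d • e • ω := by
      rcases conj_eq h.gen he hd with e' | e'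
      · rw [← mul_smul, mul_inv_eq_iff_eq_mul.1 e', mul_smul]
      · rw [← mul_smul, mul_inv_eq_iff_eq_mul.1 e', mul_assoc, mul_smul, mul_smul]
        exact (hmem _ (hOS d hd _ hρ)).1
    rw [h2, hf]
  let P : G ⧸ (centralizer ({z} : Set G)) → Finset (G ⧸ (centralizer ({z} : Set G))) := fun ρ => {ρ, d • ρ}
  have hdd : ∀ ρ ∈ O, d • d • ρ = ρ := fun ρ hρ => by
    rw [← mul_smul]
    rcases h.gen.square d hd with e | e <;> rw [e]
    · exact one_smul _ _
    · exact (hmem ρ hρ).1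
  have hdcomm : ∀ a ∈ E, ∀ ρ ∈ O, a • d • ρ = d • a • ρ := fun a ha ρ hρ => by
    rcases conj_eq h.gen ha hd with e' | e'
    · rw [← mul_smul, mul_inv_eq_iff_eq_mul.1 e', mul_smul]
    · rw [← mul_smul, mul_inv_eq_iff_eq_mul.1 e', mul_assoc, mul_smul, mul_smul]
      exact (hmem _ (hOS d hd _ (hOS a ha ρ hρ))).1
  have hPsmul : ∀ a ∈ E, ∀ ρ ∈ O, a • P ρ = P (a • ρ) := fun a ha ρ hρ => by
    simp only [P, Finset.smul_finset_insert, Finset.smul_finset_singleton, hdcomm a ha ρ hρ]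
  have hfib : ∀ ρ ∈ O, O.filter (fun σ => P σ = P ρ) = P ρ := by
    intro ρ hρ
    ext σ
    rw [Finset.mem_filter]
    constructor
    · rintro ⟨-, e⟩
      rw [← e]
      exact Finset.mem_insert_self _ _
    · intro hσ
      simp only [P, Finset.mem_insert, Finset.mem_singleton] at hσ
      rcases hσ with rfl | rfl
      · exact ⟨hρ, rfl⟩
      · refine ⟨hOS d hd ρ hρ, ?_⟩
        simp only [P, hdd ρ hρ]
        exact Finset.pair_comm _ _
  rw [← Finset.prod_fiberwise_of_maps_to (t := O.image P) (g := P)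
    (fun ρ hρ => Finset.mem_image_of_mem P hρ)]
  rw [Finset.prod_congr rfl (g := fun Q => ∏ σ ∈ Q, term θ x σ) fun Q hQ => by
    obtain ⟨ρ, hρ, rfl⟩ := Finset.mem_image.1 hQ
    rw [hfib ρ hρ]]
  refine prod_self_eq_one (isCocycle_finset hcz) hB hEp (z := z) hx (h.gen.square x hx) hcm _
    (fun a ha Q hQ => ?_) (fun Q hQ => ?_) (fun Q hQ => ?_) fun Q hQ => ?_
  · obtain ⟨ρ, hρ, rfl⟩ := Finset.mem_image.1 hQ
    rw [hPsmul a ha ρ hρ]
    exact Finset.mem_image_of_mem P (hOS a ha ρ hρ)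
  · obtain ⟨ρ, hρ, rfl⟩ := Finset.mem_image.1 hQ
    rw [hPsmul z h.gen.mem ρ hρ, (hmem ρ hρ).1]
  · obtain ⟨ρ, hρ, rfl⟩ := Finset.mem_image.1 hQ
    show ∏ σ ∈ P ρ, term θ z σ = 1
    simp only [P]
    rw [Finset.prod_pair (Ne.symm (hdfix ρ hρ)), hzval ρ hρ, hzval _ (hOS d hd ρ hρ), hB]
  · obtain ⟨ρ, hρ, rfl⟩ := Finset.mem_image.1 hQ
    by_contra hall
    push Not at hall
    obtain ⟨e₁, he₁, rfl⟩ := (hO ρ).1 hρ
    -- then the isotropy group has index two
    set C := E ⊓ centralizer ({wt ω} : Set G)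
    have hωO : ω ∈ O := (hO ω).2 ⟨1, one_mem E, one_smul _ _⟩
    have hcover : (E : Set G) ⊆ (C : Set G) ∪ (d * ·) '' (C : Set G) := by
      intro a ha
      have h1 : e₁ • ω ∈ P (e₁ • ω) := Finset.mem_insert_self _ _
      have h2 := Finset.smul_mem_smul_finset (a := e₁ * a * e₁⁻¹) h1
      rw [hall _ (mul_mem (mul_mem he₁ ha) (inv_mem he₁)), ← mul_smul, inv_mul_cancel_right,
        mul_smul] at h2
      simp only [P, Finset.mem_insert, Finset.mem_singleton] at h2
      rcases h2 with h2 | h2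
      · exact Or.inl ⟨ha, mem_centralizer_singleton_iff.2
          (fix_iff.1 (MulAction.injective e₁ h2))⟩
      · rw [← hdcomm e₁ he₁ ω hωO] at h2
        have h3 : (d⁻¹ * a) • ω = ω := by
          rw [mul_smul, MulAction.injective e₁ h2, inv_smul_smul]
        exact Or.inr ⟨d⁻¹ * a, Subgroup.mem_inf.2 ⟨mul_mem (inv_mem hd) ha,
          mem_centralizer_singleton_iff.2 (fix_iff.1 h3)⟩, mul_inv_cancel_left d a⟩
    have hcardE : Nat.card E ≤ 2 * Nat.card C := by
      rw [← SetLike.coe_sort_coe, Nat.card_coe_set_eq, ← SetLike.coe_sort_coe, Nat.card_coe_set_eq,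
        two_mul]
      exact (Set.ncard_le_ncard hcover (Set.toFinite _)).trans ((Set.ncard_union_le _ _).trans
        (Nat.add_le_add_left (Set.ncard_image_le (Set.toFinite _)) _))
    have hzC : z ∈ C := ⟨h.gen.mem, mem_centralizer_singleton_iff.2 (fix_iff.1 hzω)⟩
    have hcc := card_mul_card_centralizer h.gen (R := C) hzC inf_le_left
    have hle : Nat.card C ≤ Nat.card ↥(E ⊓ centralizer (C : Set G)) := card_le_of_le
      (fun a ha => ⟨ha.1, mem_centralizer_iff.2 fun b hb => habC b hb.1 a ha.1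
        (mem_centralizer_singleton_iff.1 hb.2) (mem_centralizer_singleton_iff.1 ha.2)⟩)
    have h32 : 32 ≤ Nat.card E :=
      hcard ▸ (Nat.pow_le_pow_right two_pos (show 5 ≤ 2 * n + 1 by omega) : 2 ^ 5 ≤ _)
    have h4 : Nat.card C * Nat.card C ≤ 4 * Nat.card C := by
      calc Nat.card C * Nat.card C ≤ Nat.card C * Nat.card ↥(E ⊓ centralizer (C : Set G)) :=
            Nat.mul_le_mul_left _ hle
        _ = 2 * Nat.card E := hcc
        _ ≤ _ := by omega
    have := Nat.le_of_mul_le_mul_right h4 Nat.card_pos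
    omega

end Main

theorem pre_of_pcore {G : Type*} [Group G] [Finite G] {E : Subgroup G} {z : G} (hz : orderOf z = 2)
    (hE : E = (Cfsg.pCore 2 ↥(centralizer ({z} : Set G))).map (centralizer ({z} : Set G)).subtype)
    (hext : Cfsg.IsExtraspecial 2 ↥E) (hcent : centralizer (E : Set G) ≤ E) : Pre E z := by
  set C := centralizer ({z} : Set G)
  have hEC : E ≤ C := hE.le.trans (map_subtype_le _)
  have hzQ : z ∈ E := hcent (mem_centralizer_iff.2 fun y hy =>
    mem_centralizer_singleton_iff.1 (hEC hy))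
  obtain ⟨z', hg⟩ := exists_gen hext
  have hzz' : z = z' := by
    have hz1 : z ≠ 1 := fun e => by rw [e, orderOf_one] at hz; omega
    exact (hg.center_iff z hzQ fun y hy =>
      (mem_centralizer_singleton_iff.1 (hEC hy)).symm).resolve_left hz1
  subst hzz'
  refine ⟨hg, hcent, fun c hc => ?_⟩
  rw [hE, mem_normalizer_iff]
  intro a
  constructor
  · rintro ⟨y, hy, rfl⟩
    exact ⟨⟨c, hc⟩ * y * ⟨c, hc⟩⁻¹, Normal.conj_mem inferInstance y hy _, rfl⟩
  · rintro ⟨y, hy, he⟩
    refine ⟨⟨c, hc⟩⁻¹ * y * ⟨c, hc⟩, ?_, ?_⟩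
    · simpa using Normal.conj_mem (H := Cfsg.pCore 2 ↥C) inferInstance y hy (⟨c, hc⟩⁻¹ : ↥C)
    · simp only [Subgroup.coe_subtype, Subgroup.coe_mul, InvMemClass.coe_inv] at he ⊢
      rw [he]; group

end CfsgLib.OrbitTransfer
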