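import Cfsg.Agent.LargeExtra.OrbitTransfer

/-!
If the central involution of an extraspecial subgroup of width at least three is weakly closed in
it, the centralizer has no character of order two.
-/

set_option autoImplicit false
set_option linter.unusedSectionVars false
set_option linter.style.haveILetI false

namespace CfsgLib.NoFusion

open Subgroup MulAction CfsgLib.Extra2 CfsgLib.LargeExtra CfsgLib.OrbitTransfer
open scoped Pointwise

variable {G : Type*} [Group G] [Finite G] {E : Subgroup G} {z : G} (h : Pre E z)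
include h

theorem conj_mem_of_z {U : Subgroup G} (hzU : z ∈ U) (hUE : U ≤ E) {a u : G} (ha : a ∈ E)
    (hu : u ∈ U) : a * u * a⁻¹ ∈ U := by
  rcases conj_eq h.gen ha (hUE hu) with e | e <;> rw [e]
  · exact hu
  · exact mul_mem hzU hu

/-- An involution outside `E` has isotropy of index at least four. -/
theorem not_two {w : G} (hwz : w * z = z * w) (hw2 : w * w = 1) (hwE : w ∉ E) {a : G} (ha : a ∈ E)
    (haw : a * w ≠ w * a) : ∃ b ∈ E, b * w ≠ w * b ∧ a * b * w ≠ w * (a * b) := by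
  by_contra hno
  push Not at hno
  set D := E ⊓ centralizer ({w} : Set G)
  have hD : ∀ {b : G}, b ∈ D ↔ b ∈ E ∧ b * w = w * b := fun {b} => by
    simp [D, mem_inf, mem_centralizer_singleton_iff]
  have hall : ∀ b ∈ E, b ∈ D ∨ a * b ∈ D := fun b hb => by
    by_cases hbw : b * w = w * b
    · exact Or.inl (hD.2 ⟨hb, hbw⟩)
    · exact Or.inr (hD.2 ⟨mul_mem ha hb, hno b hb hbw⟩)
  have hwi : w⁻¹ = w := inv_eq_of_mul_eq_one_right hw2
  have hzD : z ∈ D := hD.2 ⟨h.gen.mem, hwz.symm⟩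
  set a' := w * a * w with ha'
  have ha'E : a' ∈ E := by
    have := h.conj_mem hwz ha
    rwa [hwi] at this
  have ha'D : a' ∉ D := fun h1 => haw (by
    have h2 := (hD.1 h1).2
    calc a * w = w * a' := by simp only [a']; rw [← mul_assoc, ← mul_assoc, hw2, one_mul]
      _ = a' * w := h2.symm
      _ = w * a := by simp only [a']; rw [mul_assoc (w * a), hw2, mul_one])
  have haD : a ∉ D := fun h1 => haw (hD.1 h1).2
  set q := a⁻¹ * a' with hq
  have hqD : q ∈ D := by
    rcases hall a⁻¹ (inv_mem ha) with h1 | h1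
    · exact absurd (inv_mem_iff.1 h1) haD
    · rcases hall a' ha'E with h2 | h2
      · exact absurd h2 ha'D
      · have h3 := hall (a⁻¹ * a') (mul_mem (inv_mem ha) ha'E)
        rcases h3 with h3 | h3
        · exact h3
        · rw [mul_inv_cancel_left] at h3
          exact absurd h3 ha'D
  have hqE := (hD.1 hqD).1
  have haq : a * q = a' := mul_inv_cancel_left a a'
  have hq2 : q * q = 1 := by
    have h1 : w * q * w = q := by rw [← (hD.1 hqD).2, mul_assoc, hw2, mul_one]
    have h2 : w * q * w = q⁻¹ := by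
      simp only [q, a', mul_inv_rev, inv_inv, hwi]
      calc w * (a⁻¹ * (w * a * w)) * w = w * a⁻¹ * w * a * (w * w) := by group
        _ = _ := by rw [hw2, mul_one]; simp only [mul_assoc]
    rw [h1] at h2
    nth_rw 2 [h2]
    exact mul_inv_cancel q
  have hqc : ∀ e ∈ D, q * e = e * q := by
    intro e he
    have h1 : a * e * a⁻¹ ∈ D := conj_mem_of_z h hzD inf_le_left ha he
    have h2 := (hD.1 h1).2
    have h3 : a' * e * a'⁻¹ = a * e * a⁻¹ := by
      have he2 := (hD.1 he).2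
      simp only [a', mul_inv_rev, hwi]
      calc w * a * w * e * (w * (a⁻¹ * w)) = w * a * (w * e * w) * a⁻¹ * w := by group
        _ = w * a * e * a⁻¹ * w := by rw [← he2, mul_assoc e w w, hw2, mul_one]
        _ = w * (a * e * a⁻¹ * w) := by group
        _ = a * e * a⁻¹ := by rw [h2, ← mul_assoc, hw2, one_mul]
    rw [← haq] at h3
    calc q * e = a⁻¹ * ((a * q) * e * (a * q)⁻¹) * a * q := by group
      _ = a⁻¹ * (a * e * a⁻¹) * a * q := by rw [h3]
      _ = e * q := by group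
  have hqa : q * a = a * q := by
    have h1 : a' * a' = a * a := by
      have h2 : a * a * w = w * (a * a) := by
        rcases h.gen.square a ha with e | e <;> rw [e]
        · rw [one_mul, mul_one]
        · exact hwz.symm
      calc a' * a' = w * a * (w * w) * a * w := by simp only [a']; group
        _ = w * (a * a * w) := by rw [hw2]; group
        _ = _ := by rw [h2, ← mul_assoc, hw2, one_mul]
    rw [← haq] at h1
    have h4 : q * a * q = a := mul_left_cancel (a := a) (by rw [← h1]; group)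
    calc q * a = q * a * (q * q) := by rw [hq2, mul_one]
      _ = q * a * q * q := by group
      _ = a * q := by rw [h4]
  have hcen : ∀ y ∈ E, Commute q y := by
    intro y hy
    rcases hall y hy with h1 | h1
    · exact hqc y h1
    · have := Commute.mul_right (Commute.inv_right (show Commute q a from hqa))
        (show Commute q (a * y) from hqc _ h1)
      rwa [inv_mul_cancel_left] at this
  rcases h.gen.center_iff q hqE hcen with e | e
  · refine haw ?_
    rw [e, mul_one] at haq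
    calc a * w = w * a * w * w := congrArg (· * w) haq
      _ = w * a := by rw [mul_assoc (w * a), hw2, mul_one]
  · -- `w` acts as an element of `E`
    have hcard : Nat.card E = 2 * Nat.card D := by
      have hset : (E : Set G) = (D : Set G) ∪ (a⁻¹ * ·) '' (D : Set G) := by
        ext y
        constructor
        · intro hy
          exact (hall y hy).imp id fun h1 => ⟨a * y, h1, inv_mul_cancel_left a y⟩
        · rintro (hy | ⟨d, hd, rfl⟩)
          · exact (hD.1 hy).1
          · exact mul_mem (inv_mem ha) (hD.1 hd).1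
      rw [← SetLike.coe_sort_coe, Nat.card_coe_set_eq, ← SetLike.coe_sort_coe, Nat.card_coe_set_eq,
        hset, Set.ncard_union_eq ?_ (Set.toFinite _) (Set.toFinite _),
        Set.ncard_image_of_injective _ (mul_right_injective _), two_mul]
      rw [Set.disjoint_left]
      rintro y hy ⟨d, hd, rfl⟩
      refine haD ?_
      have := mul_mem hy (inv_mem hd)
      rwa [mul_inv_cancel_right, inv_mem_iff] at this
    have hc4 : Nat.card ↥(E ⊓ centralizer (D : Set G)) = 4 := by
      have := card_mul_card_centralizer h.gen (R := D) hzD inf_le_left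
      rw [hcard] at this
      exact Nat.eq_of_mul_eq_mul_left (Nat.card_pos (α := D)) (by linarith)
    obtain ⟨c, hcR, hc1, hcz⟩ : ∃ c ∈ E ⊓ centralizer (D : Set G), c ≠ 1 ∧ c ≠ z := by
      by_contra hn
      push Not at hn
      have hle : E ⊓ centralizer (D : Set G) ≤ zpowers z := fun c hc =>
        (mem_zpowers_iff h.gen.sq).2 (or_iff_not_imp_left.2 (hn c hc))
      have := card_le_of_le hle
      rw [hc4, Nat.card_zpowers, orderOf_gen h.gen] at this
      omega
    obtain ⟨hcE, hcD⟩ := mem_inf.1 hcR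
    rw [mem_centralizer_iff] at hcD
    have hca : c * a * c⁻¹ = z * a := by
      refine (conj_eq h.gen hcE ha).resolve_left fun e' => ?_
      have hca' : Commute c a := mul_inv_eq_iff_eq_mul.1 e'
      refine (h.gen.center_iff c hcE fun y hy => ?_).elim hc1 hcz
      rcases hall y hy with h1 | h1
      · exact (hcD y h1).symm
      · have := Commute.mul_right hca'.inv_right (show Commute c (a * y) from (hcD _ h1).symm)
        rwa [inv_mul_cancel_left] at this
    refine hwE ?_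
    have hwc : c⁻¹ * w ∈ centralizer (E : Set G) := by
      rw [mem_centralizer_iff]
      have key1 : Commute (c⁻¹ * w) a := by
        have hz' : z * a = a' := by rw [← haq, e, (h.gen.comm_z a ha).eq]
        show c⁻¹ * w * a = a * (c⁻¹ * w)
        calc c⁻¹ * w * a = c⁻¹ * a' * w := by
              simp only [a']; rw [mul_assoc _ _ w, mul_assoc (w * a) w w, hw2, mul_one, ← mul_assoc]
          _ = c⁻¹ * (c * a * c⁻¹) * w := by rw [hca, hz']
          _ = _ := by group
      intro y hy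
      rcases hall y hy with h1 | h1
      · exact (Commute.mul_left (Commute.inv_left (hcD y h1).symm) (hD.1 h1).2.symm).eq.symm
      · have := Commute.mul_right key1.inv_right
          (Commute.mul_left (Commute.inv_left (hcD _ h1).symm) (hD.1 h1).2.symm)
        rw [inv_mul_cancel_left] at this
        exact this.eq.symm
    have := mul_mem hcE (h.self hwc)
    rwa [mul_inv_cancel_left] at this

/-- A hyperplane over a given subgroup, cut out by a subgroup normalized by a `2`-element. -/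
theorem exists_halving {x : G} (hx : x * z = z * x) {k : ℕ} (hxk : x ^ 2 ^ k = 1) {D : Subgroup G}
    (hzD : z ∈ D) (hDE : D ≤ E) (hne : ¬ E ≤ D) :
    ∃ U : Subgroup G, U ≤ E ∧ x ∈ normalizer (U : Set G) ∧
      ∃ u ∈ E, u ∉ D ⊔ U ∧ ∀ a ∈ E, a ∈ D ⊔ U ∨ u * a ∈ D ⊔ U := by
  classical
  have hnE : x ∈ normalizer (E : Set G) := h.norm (mem_centralizer_singleton_iff.2 hx)
  obtain ⟨U, ⟨hUE, hzU, hUx, hUD⟩, hmin⟩ := Set.Finite.exists_minimal
    (s := {U : Subgroup G | U ≤ E ∧ z ∈ U ∧ x ∈ normalizer (U : Set G) ∧ E ≤ D ⊔ U}) (Set.toFinite _)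
    ⟨E, le_rfl, h.gen.mem, hnE, le_sup_right⟩
  have hZx : x ∈ normalizer ((zpowers z : Subgroup G) : Set G) := by
    rw [mem_normalizer_iff]
    intro y
    have hconj : x * z * x⁻¹ = z := by rw [hx, mul_inv_cancel_right]
    constructor
    · intro hy
      rcases (mem_zpowers_iff h.gen.sq).1 hy with rfl | rfl
      · simp
      · rw [hconj]; exact hy
    · intro hy
      rcases (mem_zpowers_iff h.gen.sq).1 hy with e | e
      · rw [conj_eq_one_iff.1 e]; exact one_mem _
      · have : y = z := by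
          calc y = x⁻¹ * (x * y * x⁻¹) * x := by group
            _ = x⁻¹ * (z * x) := by rw [e, mul_assoc]
            _ = z := by rw [← hx, inv_mul_cancel_left]
        rw [this]; exact mem_zpowers z
  have hZne : zpowers z < U := lt_of_le_of_ne (zpowers_le.2 hzU) fun e => hne (by
    rw [← e] at hUD
    exact hUD.trans (sup_le le_rfl (zpowers_le.2 hzD)))
  obtain ⟨M, ⟨hzM, hMU, hMx⟩, hmax⟩ := Set.Finite.exists_maximal
    (s := {M : Subgroup G | z ∈ M ∧ M < U ∧ x ∈ normalizer (M : Set G)}) (Set.toFinite _)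
    ⟨zpowers z, mem_zpowers z, hZne, hZx⟩
  have hpow : ∀ (N : Subgroup G), x ∈ normalizer (N : Set G) → ∀ (m : ℕ) (y : G), y ∈ N →
      x ^ m * y * (x ^ m)⁻¹ ∈ N := fun N hN m y hy =>
    (mem_normalizer_iff.1 (pow_mem hN m) y).1 hy
  have hfix : ∀ i, ∀ u ∈ U, u ∉ M → x ^ 2 ^ i * u * (x ^ 2 ^ i)⁻¹ * u⁻¹ ∈ M →
      ∃ u ∈ U, u ∉ M ∧ x * u * x⁻¹ * u⁻¹ ∈ M := by
    intro i
    induction i with
    | zero => exact fun u hu hu' h1 => ⟨u, hu, hu', by simpa using h1⟩
    | succ i ih =>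
      intro u hu hu' h1
      set y := x ^ 2 ^ i with hy
      by_cases h2 : y * u * y⁻¹ * u⁻¹ ∈ M
      · exact ih u hu hu' h2
      · refine ih (y * u * y⁻¹ * u⁻¹) (mul_mem (hpow U hUx _ u hu) (inv_mem hu)) h2 ?_
        have hyy : x ^ 2 ^ (i + 1) = y * y := by rw [hy, ← pow_add, pow_succ, mul_two]
        rw [hyy] at h1
        set r := y * u⁻¹ * y⁻¹ with hr
        have hrE : r ∈ E := hUE (hpow U hUx _ _ (inv_mem hu))
        have hsq : (u * r) * (u * r) ∈ M := by
          rcases h.gen.square _ (mul_mem (hUE hu) hrE) with e | e <;> rw [e]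
          · exact one_mem M
          · exact hzM
        have := mul_mem h1 hsq
        convert this using 1
        simp only [hr]
        group
  obtain ⟨u₀, hu₀, hu₀'⟩ := SetLike.exists_of_lt hMU
  obtain ⟨u, hu, huM, hux⟩ := hfix k u₀ hu₀ hu₀' (by rw [hxk]; simp)
  have hMu : zpowers u ⊔ M = U := by
    refine (eq_or_lt_of_le (sup_le (zpowers_le.2 hu) hMU.le)).resolve_right fun hlt => huM ?_
    refine hmax ⟨mem_sup_right hzM, hlt, ?_⟩ le_sup_right (mem_sup_left (mem_zpowers u))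
    have hmap : ∀ y ∈ zpowers u ⊔ M, x * y * x⁻¹ ∈ zpowers u ⊔ M := by
      have hle : (zpowers u ⊔ M).map (MulAut.conj x).toMonoidHom ≤ zpowers u ⊔ M := by
        rw [Subgroup.map_sup, MonoidHom.map_zpowers]
        refine sup_le (zpowers_le.2 ?_) ?_
        · have := mul_mem (mem_sup_right hux : _ ∈ zpowers u ⊔ M) (mem_sup_left (mem_zpowers u))
          rwa [inv_mul_cancel_right] at this
        · rintro _ ⟨y, hy, rfl⟩
          exact mem_sup_right ((mem_normalizer_iff.1 hMx y).1 hy)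
      exact fun y hy => hle ⟨y, hy, rfl⟩
    exact mem_normalizer_fintype hmap
  refine ⟨M, hMU.le.trans hUE, hMx, u, hUE hu, fun hu1 => ?_, fun a ha => ?_⟩
  · refine hMU.not_ge (hmin ⟨hMU.le.trans hUE, hzM, hMx, hUD.trans (sup_le le_sup_left ?_)⟩ hMU.le)
    rw [← hMu]
    exact sup_le (zpowers_le.2 hu1) le_sup_right
  · set N := D ⊔ M with hN
    have hzN : z ∈ N := mem_sup_left hzD
    have hNE : N ≤ E := sup_le hDE (hMU.le.trans hUE)
    have hle : D ⊔ U ≤ zpowers u ⊔ N := by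
      rw [← hMu]
      exact sup_le (le_sup_left.trans le_sup_right)
        (sup_le le_sup_left (le_sup_right.trans le_sup_right))
    have hnorm : zpowers u ≤ normalizer (N : Set G) := zpowers_le.2 (mem_normalizer_fintype
      fun y hy => conj_mem_of_z h hzN hNE (hUE hu) hy)
    have ha' := hle (hUD ha)
    rw [← SetLike.mem_coe, coe_mul_of_left_le_normalizer_right _ _ hnorm] at ha'
    obtain ⟨v, hv, b, hb, rfl⟩ := ha'
    have hu2 : u * u ∈ N := by
      rcases h.gen.square u (hUE hu) with e | e <;> rw [e]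
      · exact one_mem N
      · exact hzN
    obtain ⟨j, rfl⟩ := mem_zpowers_iff.1 hv
    rcases Int.even_or_odd j with ⟨i, rfl⟩ | ⟨i, rfl⟩
    · exact Or.inl (mul_mem (by
        rw [← two_mul, zpow_mul, zpow_two]; exact zpow_mem hu2 i) hb)
    · refine Or.inr ?_
      rw [← mul_assoc, ← zpow_one_add, show (1 : ℤ) + (2 * i + 1) = 2 * (i + 1) by ring, zpow_mul,
        zpow_two]
      exact mul_mem (zpow_mem hu2 _) hb

variable {B : Type*} [CommGroup B] (θ : ↥(centralizer ({z} : Set G)) →* B)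

/-- The contribution at an element of the block stabilizer. -/
theorem block_prod [DecidableEq (G ⧸ centralizer ({z} : Set G))] (hB : ∀ b : B, b * b = 1)
    (hEp : IsPGroup 2 E)
    {n : ℕ} (hn : 3 ≤ n) (hcard : Nat.card E = 2 ^ (2 * n + 1))
    {ρ : G ⧸ centralizer ({z} : Set G)} (hzρ : z • ρ = ρ) (hwE : wt ρ ∉ E) {D₁ : Subgroup G}
    (hD₁ : D₁ ≤ E) (hDD₁ : E ⊓ centralizer ({wt ρ} : Set G) ≤ D₁)
    (hhalf : ∃ u ∈ E, u ∉ D₁ ∧ ∀ a ∈ E, a ∈ D₁ ∨ u * a ∈ D₁)
    (P : Finset (G ⧸ centralizer ({z} : Set G))) (hP : ∀ σ, σ ∈ P ↔ ∃ a ∈ D₁, a • ρ = σ)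
    {e : G} (he : e ∈ D₁) : ∏ σ ∈ P, term θ e σ = 1 := by
  classical
  have hcz := isCocycle_term θ
  obtain ⟨u, huE, huD, hu⟩ := hhalf
  set D := E ⊓ centralizer ({wt ρ} : Set G)
  have hD : ∀ {b : G}, b ∈ D ↔ b ∈ E ∧ b • ρ = ρ := fun {b} => by
    rw [fix_iff]; simp [D, mem_inf, mem_centralizer_singleton_iff]
  have hzD : z ∈ D := hD.2 ⟨h.gen.mem, hzρ⟩
  have hzP : ∀ σ ∈ P, z • σ = σ := fun σ hσ => by
    obtain ⟨a, ha, rfl⟩ := (hP σ).1 hσ
    exact fixed_smul h (le_C h (hD₁ ha)) hzρ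
  have hPsm : ∀ a ∈ D₁, ∀ σ ∈ P, a • σ ∈ P := fun a ha σ hσ => by
    obtain ⟨b, hb, rfl⟩ := (hP σ).1 hσ
    exact (hP _).2 ⟨a * b, mul_mem ha hb, mul_smul _ _ _⟩
  have hPfix : ∀ a ∈ E, ∀ σ ∈ P, (a • σ = σ ↔ a ∈ D) := by
    intro a ha σ hσ
    obtain ⟨b, hb, rfl⟩ := (hP σ).1 hσ
    have h1 : a • b • ρ = b • a • ρ := by
      rcases conj_eq h.gen ha (hD₁ hb) with e' | e'
      · rw [← mul_smul, mul_inv_eq_iff_eq_mul.1 e', mul_smul]
      · rw [← mul_smul, mul_inv_eq_iff_eq_mul.1 e', mul_assoc, mul_smul, mul_smul]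
        exact fixed_smul h (le_C h (hD₁ hb)) (fixed_smul h (le_C h ha) hzρ)
    rw [h1, (MulAction.injective b).eq_iff, hD]
    exact ⟨fun e' => ⟨ha, e'⟩, And.right⟩
  have hzval : ∀ σ ∈ P, term θ z σ = term θ z ρ := by
    intro σ hσ
    obtain ⟨a, ha, rfl⟩ := (hP σ).1 hσ
    have h1 : term θ (z * a) ρ = term θ (a * z) ρ := by rw [(h.gen.comm_z a (hD₁ ha)).eq]
    rw [hcz, hcz, hzρ, mul_comm] at h1
    exact mul_left_cancel h1
  have hwz : wt ρ * z = z * wt ρ := (fix_iff.1 hzρ).symm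
  have hD₁D : ∃ a ∈ D₁, a ∉ D := by
    by_contra hn'
    push Not at hn'
    obtain ⟨b, hb, hb1, hb2⟩ := not_two h hwz (wt_props h ρ).1 hwE huE
      (fun e' => huD (hDD₁ (mem_inf.2 ⟨huE, mem_centralizer_singleton_iff.2 e'⟩)))
    rcases hu b hb with h1 | h1
    · exact hb1 (fix_iff.1 (hD.1 (hn' b h1)).2)
    · exact hb2 (fix_iff.1 (hD.1 (hn' _ h1)).2)
  have hEcard : Nat.card E = 2 * Nat.card D₁ := by
    have hset : (E : Set G) = (D₁ : Set G) ∪ (u⁻¹ * ·) '' (D₁ : Set G) := by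
      ext y
      constructor
      · intro hy
        exact (hu y hy).imp id fun h1 => ⟨u * y, h1, inv_mul_cancel_left u y⟩
      · rintro (hy | ⟨d, hd, rfl⟩)
        · exact hD₁ hy
        · exact mul_mem (inv_mem huE) (hD₁ hd)
    rw [← SetLike.coe_sort_coe, Nat.card_coe_set_eq, ← SetLike.coe_sort_coe, Nat.card_coe_set_eq,
      hset, Set.ncard_union_eq ?_ (Set.toFinite _) (Set.toFinite _),
      Set.ncard_image_of_injective _ (mul_right_injective _), two_mul]
    rw [Set.disjoint_left]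
    rintro y hy ⟨d, hd, rfl⟩
    refine huD ?_
    have := mul_mem hy (inv_mem hd)
    rwa [mul_inv_cancel_right, inv_mem_iff] at this
  -- a nontrivial value at `z` forces an abelian, hence small, isotropy group
  have hbig : term θ z ρ ≠ 1 → 2 * Nat.card D < Nat.card D₁ := by
    intro hv
    have habC : ∀ a ∈ D, ∀ b ∈ D, a * b = b * a := by
      intro a ha b hb
      by_contra hnc
      obtain ⟨a', b', hz', hab'⟩ := exists_comm h (hD.1 ha).1 (hD.1 hb).1
        (fix_iff.1 (hD.1 ha).2) (fix_iff.1 (hD.1 hb).2) hnc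
      refine hv ?_
      rw [term_fixed θ hzρ hz', ← hab', map_mul, map_mul, map_mul, map_inv, map_inv,
        mul_comm (θ a'), mul_inv_cancel_right, mul_inv_cancel]
    have hle : Nat.card D ≤ Nat.card ↥(E ⊓ centralizer (D : Set G)) := card_le_of_le
      (fun a ha => ⟨(hD.1 ha).1, mem_centralizer_iff.2 fun b hb => habC b hb a ha⟩)
    have hcc := card_mul_card_centralizer h.gen (R := D) hzD inf_le_left
    have h2 : Nat.card D * Nat.card D ≤ 2 * Nat.card E := hcc ▸ Nat.mul_le_mul_left _ hle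
    have h128 : 2 ^ 7 ≤ Nat.card E := hcard ▸ Nat.pow_le_pow_right two_pos (by omega)
    by_contra hlt
    push Not at hlt
    have h3 : Nat.card D * Nat.card D ≤ 8 * Nat.card D := by omega
    have := Nat.le_of_mul_le_mul_right h3 Nat.card_pos
    omega
  by_cases heD : e ∈ D
  · -- `e` fixes every point of the block
    let K : Subgroup G := if term θ z ρ = 1 then D₁ else D₁ ⊓ centralizer ({e} : Set G)
    have hK : K ≤ D₁ := by
      simp only [K]; split_ifs
      · exact le_rfl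
      · exact inf_le_left
    refine prod_eq_one_of_invariant hB (hEp.to_le (hK.trans hD₁)) _ P
      (fun a ha => hPsm a (hK ha)) (fun a ha σ hσ => ?_) fun σ hσ => ?_
    · have hfix := (hPfix e (hD₁ he) σ hσ).2 heD
      have hstep : e * a = a * e ∨ (term θ z ρ = 1 ∧ e * a = a * e * z) := by
        by_cases hv : term θ z ρ = 1
        · rcases conj_eq h.gen (hD₁ he) (hD₁ (hK ha)) with e' | e'
          · exact Or.inl (mul_inv_eq_iff_eq_mul.1 e')
          · refine Or.inr ⟨hv, ?_⟩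
            rw [mul_inv_eq_iff_eq_mul.1 e', mul_assoc z,
              (h.gen.comm_z _ (mul_mem (hD₁ (hK ha)) (hD₁ he))).eq]
        · simp only [K, if_neg hv, mem_inf, mem_centralizer_singleton_iff] at ha
          exact Or.inl ha.2.symm
      have h1 : term θ (e * a) σ = term θ a σ * term θ e σ := by
        rcases hstep with h' | ⟨hv, h'⟩ <;> rw [h']
        · rw [hcz, hfix]
        · rw [hcz, hzP σ hσ, hzval σ hσ, hv, mul_one, hcz, hfix]
      rw [hcz, mul_comm] at h1
      exact mul_left_cancel h1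
    · obtain ⟨a₁, ha₁, ha₁D⟩ := hD₁D
      by_contra hnm
      push Not at hnm
      have hKD : K ≤ D := fun a ha => (hPfix a (hD₁ (hK ha)) σ hσ).1 (hnm a ha)
      by_cases hv : term θ z ρ = 1
      · exact ha₁D (hKD (by simpa [K, hv] using ha₁))
      · have hKD' : ∀ a ∈ D₁, a * e = e * a → a ∈ D := fun a ha hae =>
          hKD (by simp [K, hv, ha, mem_centralizer_singleton_iff, hae])
        have hsub : (D₁ : Set G) ⊆ (D : Set G) ∪ (a₁ * ·) '' (D : Set G) := by
          intro a ha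
          by_cases haD : a ∈ D
          · exact Or.inl haD
          · refine Or.inr ⟨a₁⁻¹ * a, hKD' _ (mul_mem (inv_mem ha₁) ha) ?_, mul_inv_cancel_left _ _⟩
            have ec : ∀ b ∈ D₁, b ∉ D → b * e * b⁻¹ = z * e := fun b hb hbD =>
              (conj_eq h.gen (hD₁ hb) (hD₁ he)).resolve_left fun e' =>
                hbD (hKD' b hb (mul_inv_eq_iff_eq_mul.1 e'))
            refine mul_inv_eq_iff_eq_mul.1 ?_
            calc a₁⁻¹ * a * e * (a₁⁻¹ * a)⁻¹ = a₁⁻¹ * (a * e * a⁻¹) * a₁ := by group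
              _ = a₁⁻¹ * (a₁ * e * a₁⁻¹) * a₁ := by rw [ec a ha haD, ec a₁ ha₁ ha₁D]
              _ = e := by group
        have : Nat.card D₁ ≤ 2 * Nat.card D := by
          rw [← SetLike.coe_sort_coe, Nat.card_coe_set_eq, ← SetLike.coe_sort_coe,
            Nat.card_coe_set_eq, two_mul]
          exact (Set.ncard_le_ncard hsub (Set.toFinite _)).trans ((Set.ncard_union_le _ _).trans
            (Nat.add_le_add_left (Set.ncard_image_le (Set.toFinite _)) _))
        have := hbig hv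
        omega
  · -- `e` has no fixed point in the block
    have hne : ∀ σ ∈ P, e • σ ≠ σ := fun σ hσ hf => heD ((hPfix e (hD₁ he) σ hσ).1 hf)
    have hee : ∀ σ ∈ P, e • e • σ = σ := fun σ hσ => by
      rw [← mul_smul]
      rcases h.gen.square e (hD₁ he) with e' | e' <;> rw [e']
      · exact one_smul _ _
      · exact hzP σ hσ
    have hpair : ∀ σ ∈ P, term θ e σ * term θ e (e • σ) = term θ (e * e) ρ := by
      intro σ hσ
      rw [mul_comm, ← hcz]
      rcases h.gen.square e (hD₁ he) with e' | e' <;> rw [e']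
      · rw [hcz.one, hcz.one]
      · exact hzval σ hσ
    by_cases hv : term θ (e * e) ρ = 1
    · exact Finset.prod_involution (fun σ _ => e • σ) (fun σ hσ => (hpair σ hσ).trans hv)
        (fun σ hσ _ => hne σ hσ) (fun σ hσ => hPsm e he σ hσ) (fun σ hσ => hee σ hσ)
    · have hvz : term θ z ρ ≠ 1 := by
        rcases h.gen.square e (hD₁ he) with e' | e'
        · rw [e', hcz.one] at hv; exact absurd rfl hv
        · rwa [e'] at hv
      let Q : G ⧸ centralizer ({z} : Set G) → Finset (G ⧸ centralizer ({z} : Set G)) :=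
        fun σ => {σ, e • σ}
      have hfib : ∀ σ ∈ P, P.filter (fun τ => Q τ = Q σ) = Q σ := by
        intro σ hσ
        ext τ
        rw [Finset.mem_filter]
        constructor
        · rintro ⟨-, e'⟩
          rw [← e']; exact Finset.mem_insert_self _ _
        · intro hτ
          simp only [Q, Finset.mem_insert, Finset.mem_singleton] at hτ
          rcases hτ with rfl | rfl
          · exact ⟨hσ, rfl⟩
          · refine ⟨hPsm e he σ hσ, ?_⟩
            simp only [Q, hee σ hσ]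
            exact Finset.pair_comm _ _
      rw [← Finset.prod_fiberwise_of_maps_to (t := P.image Q) (g := Q)
        (fun σ hσ => Finset.mem_image_of_mem Q hσ),
        Finset.prod_congr rfl (g := fun _ => term θ (e * e) ρ) fun q hq => ?_, Finset.prod_const]
      · have hPcard : P.card = 2 * (P.image Q).card := by
          rw [Finset.card_eq_sum_card_fiberwise (t := P.image Q) (f := Q)
            (fun σ hσ => Finset.mem_image_of_mem Q hσ), mul_comm, ← smul_eq_mul, ← Finset.sum_const]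
          refine Finset.sum_congr rfl fun q hq => ?_
          obtain ⟨σ, hσ, rfl⟩ := Finset.mem_image.1 hq
          rw [hfib σ hσ]
          exact Finset.card_pair (Ne.symm (hne σ hσ))
        have horb : (P : Set _) = orbit D₁ ρ := by
          ext σ
          rw [Finset.mem_coe, hP, mem_orbit_iff]
          exact ⟨fun ⟨a, ha, e'⟩ => ⟨⟨a, ha⟩, e'⟩, fun ⟨a, e'⟩ => ⟨a, a.2, e'⟩⟩
        have hst : Nat.card (stabilizer D₁ ρ) = Nat.card D := Nat.card_congr
          { toFun := fun a => ⟨((a.1 : D₁) : G), hD.2 ⟨hD₁ a.1.2, a.2⟩⟩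
            invFun := fun a => ⟨⟨a, hDD₁ a.2⟩, (hD.1 a.2).2⟩
            left_inv := fun _ => rfl
            right_inv := fun _ => rfl }
        have hos : P.card * Nat.card D = Nat.card D₁ := by
          rw [← hst, show P.card = Nat.card (orbit D₁ ρ) by rw [← horb]; simp,
            Nat.card_congr (orbitEquivQuotientStabilizer D₁ ρ)]
          exact (card_eq_card_quotient_mul_card_subgroup _).symm
        have hgt : 2 < P.card := by
          have := hbig hvz
          rw [← hos] at this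
          exact Nat.lt_of_mul_lt_mul_right this
        obtain ⟨m, hm⟩ := IsPGroup.iff_card.1 (hEp.to_le hD₁)
        obtain ⟨j, -, hj⟩ := (Nat.dvd_prime_pow Nat.prime_two).1
          (hm ▸ hos ▸ dvd_mul_right _ _ : P.card ∣ 2 ^ m)
        obtain ⟨j', rfl⟩ : ∃ j', j = j' + 2 := ⟨j - 2, by
          have : 2 ≤ j := by
            by_contra hj'
            interval_cases j <;> omega
          omega⟩
        have hc : (P.image Q).card = 2 * 2 ^ j' := by
          have : 2 * (P.image Q).card = 2 * (2 * 2 ^ j') := by rw [← hPcard, hj]; ring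
          omega
        rw [hc, pow_mul, pow_two, hB, one_pow]
      · obtain ⟨σ, hσ, rfl⟩ := Finset.mem_image.1 hq
        rw [hfib σ hσ]
        simp only [Q]
        rw [Finset.prod_pair (Ne.symm (hne σ hσ))]
        exact hpair σ hσ

/-- No character of order two when `z` is weakly closed in `E`. -/
theorem char_two_element (hres : Cfsg.pResidual 2 G = ⊤) (hB : ∀ b : B, b * b = 1)
    (hEp : IsPGroup 2 E) {n : ℕ}
    (hn : 3 ≤ n) (hcard : Nat.card E = 2 ^ (2 * n + 1))
    (hno : ∀ g : G, g * z * g⁻¹ ∈ E → g * z * g⁻¹ = z) {x : G}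
    (hx : x ∈ centralizer ({z} : Set G)) {k : ℕ} (hxk : x ^ 2 ^ k = 1) : θ ⟨x, hx⟩ = 1 := by
  classical
  haveI : Fintype (G ⧸ centralizer ({z} : Set G)) := Fintype.ofFinite _
  set S := (Finset.univ : Finset (G ⧸ centralizer ({z} : Set G))).filter
    fun ω => z • ω = ω ∧ wt ω ≠ z with hSdef
  refine transfer_split h hres hB θ hx S (fun ω => by simp [S]) ?_
  have hxz := mem_centralizer_singleton_iff.1 hx
  set f : G →* G := (MulAut.conj x).toMonoidHom
  have hf : ∀ {a : G} {H : Subgroup G}, x * a * x⁻¹ ∈ H.map f ↔ a ∈ H := fun {a H} =>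
    mem_map_iff_mem (MulAut.conj x).injective
  have hfE : ∀ {a : G}, x * a * x⁻¹ ∈ E ↔ a ∈ E := fun {a} =>
    (mem_normalizer_iff.1 (h.norm hx) a).symm
  let Qp : Subgroup G → Subgroup G → Prop := fun D U =>
    U ≤ E ∧ x ∈ normalizer (U : Set G) ∧ ∃ u ∈ E, u ∉ D ⊔ U ∧ ∀ a ∈ E, a ∈ D ⊔ U ∨ u * a ∈ D ⊔ U
  have hUmap : ∀ {U : Subgroup G}, x ∈ normalizer (U : Set G) → U.map f = U := by
    intro U hU
    ext y
    constructor
    · rintro ⟨a, ha, rfl⟩
      exact (mem_normalizer_iff.1 hU a).1 ha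
    · intro hy
      exact ⟨x⁻¹ * y * x, (mem_normalizer_iff.1 hU _).2 (by simpa [mul_assoc] using hy),
        by simp [f, mul_assoc]⟩
  have hQp : ∀ D, Qp (D.map f) = Qp D := by
    intro D
    funext U
    refine propext ⟨fun ⟨h1, h2, u, hu, hu1, hu2⟩ => ⟨h1, h2, x⁻¹ * u * x, ?_, ?_, fun a ha => ?_⟩,
      fun ⟨h1, h2, u, hu, hu1, hu2⟩ => ⟨h1, h2, x * u * x⁻¹, hfE.2 hu, ?_, fun a ha => ?_⟩⟩
    · exact hfE.1 (by simpa [mul_assoc] using hu)
    · intro h3
      refine hu1 ?_
      have := (hf (H := D ⊔ U)).2 h3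
      rw [Subgroup.map_sup, hUmap h2] at this
      simpa [mul_assoc] using this
    · have h3 := hu2 _ (hfE.2 ha)
      rw [← hUmap h2, ← Subgroup.map_sup] at h3
      rcases h3 with h3 | h3
      · exact Or.inl (hf.1 h3)
      · refine Or.inr (hf.1 ?_)
        convert h3 using 1
        group
    · rw [← hUmap h2, ← Subgroup.map_sup, hf]
      exact hu1
    · have ha' : x⁻¹ * a * x ∈ E := hfE.1 (by simpa [mul_assoc] using ha)
      have h3 := hu2 _ ha'
      rw [← hUmap h2, ← Subgroup.map_sup]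
      refine h3.imp (fun h4 => ?_) fun h4 => ?_
      · have := hf.2 h4
        simpa [mul_assoc] using this
      · have := hf.2 h4
        simpa [mul_assoc] using this
  let Df : G ⧸ centralizer ({z} : Set G) → Subgroup G := fun ρ => E ⊓ centralizer ({wt ρ} : Set G)
  have hDfmem : ∀ {ρ : G ⧸ centralizer ({z} : Set G)} {a : G},
      a ∈ Df ρ ↔ a ∈ E ∧ a • ρ = ρ := fun {ρ a} => by
    rw [fix_iff]; simp [Df, mem_inf, mem_centralizer_singleton_iff]
  let D₁ : G ⧸ centralizer ({z} : Set G) → Subgroup G := fun ρ =>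
    Df ρ ⊔ Classical.epsilon (Qp (Df ρ))
  have hS : ∀ {ρ}, ρ ∈ S → z • ρ = ρ ∧ wt ρ ≠ z := fun hρ => (Finset.mem_filter.1 hρ).2
  have hstable : ∀ y ∈ centralizer ({z} : Set G), ∀ ω ∈ S, y • ω ∈ S := by
    intro y hy ω hω
    refine Finset.mem_filter.2 ⟨Finset.mem_univ _, fixed_smul h hy (hS hω).1, fun e => (hS hω).2 ?_⟩
    rw [wt_smul] at e
    calc wt ω = y⁻¹ * (y * wt ω * y⁻¹) * y := by group
      _ = y⁻¹ * (z * y) := by rw [e, mul_assoc]
      _ = z := by rw [← mem_centralizer_singleton_iff.1 hy, inv_mul_cancel_left]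
  have hspec : ∀ {ρ}, ρ ∈ S → wt ρ ∉ E ∧ D₁ ρ ≤ E ∧
      ∃ u ∈ E, u ∉ D₁ ρ ∧ ∀ a ∈ E, a ∈ D₁ ρ ∨ u * a ∈ D₁ ρ := by
    intro ρ hρ
    have hwE : wt ρ ∉ E := fun hm => (hS hρ).2 (hno _ hm)
    obtain ⟨a, ha, hne⟩ := moved h (wt_props h ρ).1 (hS hρ).2 (wt_props h ρ).2
    have hex : ∃ U, Qp (Df ρ) U := exists_halving h hxz hxk
      (hDfmem.2 ⟨h.gen.mem, (hS hρ).1⟩) inf_le_left
      fun hle => hne (fix_iff.1 (hDfmem.1 (hle ha)).2)
    obtain ⟨h1, -, h3⟩ := Classical.epsilon_spec hex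
    exact ⟨hwE, sup_le inf_le_left h1, h3⟩
  have hDE : ∀ a ∈ E, ∀ ρ ∈ S, Df (a • ρ) = Df ρ := by
    intro a ha ρ hρ
    ext b
    rw [hDfmem, hDfmem]
    refine and_congr_right fun hb => ?_
    have h1 : b • a • ρ = a • b • ρ := by
      rcases conj_eq h.gen hb ha with e' | e'
      · rw [← mul_smul, mul_inv_eq_iff_eq_mul.1 e', mul_smul]
      · rw [← mul_smul, mul_inv_eq_iff_eq_mul.1 e', mul_assoc, mul_smul, mul_smul]
        exact fixed_smul h (le_C h ha) (fixed_smul h (le_C h hb) (hS hρ).1)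
    rw [h1, (MulAction.injective a).eq_iff]
  have hDx : ∀ ρ, Df (x • ρ) = (Df ρ).map f := by
    intro ρ
    ext b
    have hb : b = x * (x⁻¹ * b * x) * x⁻¹ := by group
    rw [hb, hf, hDfmem, hDfmem, hfE]
    refine and_congr_right fun _ => ?_
    rw [mul_smul, mul_smul, inv_smul_smul, (MulAction.injective x).eq_iff]
  have hD₁E : ∀ a ∈ E, ∀ ρ ∈ S, D₁ (a • ρ) = D₁ ρ := fun a ha ρ hρ => by
    simp only [D₁, hDE a ha ρ hρ]
  have hD₁x : ∀ ρ ∈ S, D₁ (x • ρ) = (D₁ ρ).map f := by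
    intro ρ hρ
    simp only [D₁, hDx, hQp]
    have hex : ∃ U, Qp (Df ρ) U := by
      obtain ⟨a, ha, hne⟩ := moved h (wt_props h ρ).1 (hS hρ).2 (wt_props h ρ).2
      exact exists_halving h hxz hxk (hDfmem.2 ⟨h.gen.mem, (hS hρ).1⟩) inf_le_left
        fun hle => hne (fix_iff.1 (hDfmem.1 (hle ha)).2)
    rw [Subgroup.map_sup, hUmap (Classical.epsilon_spec hex).2.1]
  let P : G ⧸ centralizer ({z} : Set G) → Finset (G ⧸ centralizer ({z} : Set G)) := fun ρ =>
    Finset.univ.filter fun σ => ∃ a ∈ D₁ ρ, a • ρ = σ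
  have hPmem : ∀ {ρ σ}, σ ∈ P ρ ↔ ∃ a ∈ D₁ ρ, a • ρ = σ := fun {ρ σ} => by simp [P]
  have hself : ∀ ρ, ρ ∈ P ρ := fun ρ => hPmem.2 ⟨1, one_mem _, one_smul _ _⟩
  have hPE : ∀ e ∈ E, ∀ ρ ∈ S, e • P ρ = P (e • ρ) := by
    intro e he ρ hρ
    have hz1 : z ∈ D₁ ρ := mem_sup_left (hDfmem.2 ⟨h.gen.mem, (hS hρ).1⟩)
    ext σ
    rw [Finset.mem_smul_finset, hPmem, hD₁E e he ρ hρ]
    constructor
    · rintro ⟨τ, hτ, rfl⟩
      obtain ⟨a, ha, rfl⟩ := hPmem.1 hτ
      exact ⟨e * a * e⁻¹, conj_mem_of_z h hz1 (hspec hρ).2.1 he ha, by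
        rw [← mul_smul, inv_mul_cancel_right, mul_smul]⟩
    · rintro ⟨a, ha, rfl⟩
      refine ⟨(e⁻¹ * a * e⁻¹⁻¹) • ρ, hPmem.2 ⟨_, conj_mem_of_z h hz1 (hspec hρ).2.1 (inv_mem he) ha,
        rfl⟩, ?_⟩
      rw [← mul_smul, ← mul_smul]
      congr 1
      group
  have hPx : ∀ ρ ∈ S, x • P ρ = P (x • ρ) := by
    intro ρ hρ
    ext σ
    rw [Finset.mem_smul_finset, hPmem, hD₁x ρ hρ]
    constructor
    · rintro ⟨τ, hτ, rfl⟩
      obtain ⟨a, ha, rfl⟩ := hPmem.1 hτ
      exact ⟨x * a * x⁻¹, hf.2 ha, by rw [← mul_smul, inv_mul_cancel_right, mul_smul]⟩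
    · rintro ⟨_, ⟨a, ha, rfl⟩, rfl⟩
      refine ⟨a • ρ, hPmem.2 ⟨a, ha, rfl⟩, ?_⟩
      show x • a • ρ = (x * a * x⁻¹) • x • ρ
      rw [← mul_smul, ← mul_smul, inv_mul_cancel_right]
  have hclass : ∀ ρ ∈ S, ∀ σ ∈ P ρ, σ ∈ S ∧ P σ = P ρ := by
    intro ρ hρ σ hσ
    obtain ⟨a, ha, rfl⟩ := hPmem.1 hσ
    have haE := (hspec hρ).2.1 ha
    refine ⟨hstable a (le_C h haE) ρ hρ, ?_⟩
    ext τ
    rw [hPmem, hPmem, hD₁E a haE ρ hρ]
    constructor
    · rintro ⟨b, hb, rfl⟩
      exact ⟨b * a, mul_mem hb ha, mul_smul _ _ _⟩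
    · rintro ⟨b, hb, rfl⟩
      exact ⟨b * a⁻¹, mul_mem hb (inv_mem ha), by rw [← mul_smul, inv_mul_cancel_right]⟩
  have hfib : ∀ ρ ∈ S, S.filter (fun σ => P σ = P ρ) = P ρ := by
    intro ρ hρ
    ext σ
    rw [Finset.mem_filter]
    exact ⟨fun ⟨_, e⟩ => e ▸ hself σ, hclass ρ hρ σ⟩
  rw [← Finset.prod_fiberwise_of_maps_to (t := S.image P) (g := P)
    (fun ω hω => Finset.mem_image_of_mem P hω)]
  rw [Finset.prod_congr rfl (g := fun Q => ∏ σ ∈ Q, term θ x σ) fun Q hQ => by
    obtain ⟨ρ, hρ, rfl⟩ := Finset.mem_image.1 hQ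
    rw [hfib ρ hρ]]
  have hfixD₁ : ∀ e ∈ E, ∀ ρ ∈ S, e • P ρ = P ρ → e ∈ D₁ ρ := by
    intro e he ρ hρ hfix
    have := Finset.smul_mem_smul_finset (a := e) (hself ρ)
    rw [hfix] at this
    obtain ⟨a, ha, e'⟩ := hPmem.1 this
    have h1 : a⁻¹ * e ∈ Df ρ := hDfmem.2 ⟨mul_mem (inv_mem ((hspec hρ).2.1 ha)) he, by
      rw [mul_smul, ← e', inv_smul_smul]⟩
    have := mul_mem ha (mem_sup_left h1 : a⁻¹ * e ∈ D₁ ρ)
    rwa [mul_inv_cancel_left] at this
  refine prod_eq_one (isCocycle_finset (isCocycle_term θ)) hB hEp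
    (fun e he => h.conj_mem hxz he) _ (fun e he Q hQ => ?_)
    (fun Q hQ => ?_) (fun e he Q hQ hfix => ?_) fun Q hQ => ?_
  · obtain ⟨ρ, hρ, rfl⟩ := Finset.mem_image.1 hQ
    rw [hPE e he ρ hρ]
    exact Finset.mem_image_of_mem P (hstable e (le_C h he) ρ hρ)
  · obtain ⟨ρ, hρ, rfl⟩ := Finset.mem_image.1 hQ
    rw [hPx ρ hρ]
    exact Finset.mem_image_of_mem P (hstable x hx ρ hρ)
  · obtain ⟨ρ, hρ, rfl⟩ := Finset.mem_image.1 hQ
    obtain ⟨hwE, h1, h2⟩ := hspec hρ
    exact block_prod h θ hB hEp hn hcard (hS hρ).1 hwE h1 le_sup_left h2 (P ρ)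
      (fun σ => hPmem) (hfixD₁ e he ρ hρ hfix)
  · obtain ⟨ρ, hρ, rfl⟩ := Finset.mem_image.1 hQ
    obtain ⟨-, -, u, hu, hu1, -⟩ := hspec hρ
    exact ⟨u, hu, fun hfix => hu1 (hfixD₁ u hu ρ hρ hfix)⟩

theorem char_eq_one (hres : Cfsg.pResidual 2 G = ⊤) (hB : ∀ b : B, b * b = 1)
    (hEp : IsPGroup 2 E) {n : ℕ}
    (hn : 3 ≤ n) (hcard : Nat.card E = 2 ^ (2 * n + 1))
    (hno : ∀ g : G, g * z * g⁻¹ ∈ E → g * z * g⁻¹ = z) (x : ↥(centralizer ({z} : Set G))) :
    θ x = 1 := by
  obtain ⟨k, m, hm, hk⟩ := Nat.exists_eq_pow_mul_and_not_dvd (orderOf_pos x).ne' 2 (by norm_num)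
  have h1 : (x ^ m) ^ 2 ^ k = 1 := by rw [← pow_mul, mul_comm, ← hk, pow_orderOf_eq_one]
  have h2 : θ (x ^ m) = 1 := char_two_element h θ hres hB hEp hn hcard hno (x := ((x ^ m :
    ↥(centralizer ({z} : Set G))) : G)) (x ^ m).2 (k := k) (by
      rw [← Subgroup.coe_pow, h1, Subgroup.coe_one])
  obtain ⟨j, rfl⟩ := Nat.odd_iff.2 (Nat.two_dvd_ne_zero.1 hm)
  rwa [map_pow, pow_succ, pow_mul, pow_two, hB, one_pow, one_mul] at h2

end CfsgLib.NoFusion
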