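import Cfsg.Agent.LargeExtra.NoFusion

/-!
The orbit transfer of `NoFusion` with fusion inside `E` allowed: only the values of the character
on the conjugates of `E` at the fused elements are needed.
-/

set_option autoImplicit false
set_option linter.unusedSectionVars false
set_option linter.style.haveILetI false

namespace CfsgLib.FusedTransfer

open Subgroup MulAction CfsgLib.Extra2 CfsgLib.LargeExtra CfsgLib.OrbitTransfer CfsgLib.NoFusion
open scoped Pointwise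

variable {G : Type*} [Group G] [Finite G] {E : Subgroup G} {z : G} (h : Pre E z)
include h
variable {B : Type*} [CommGroup B] (θ : ↥(centralizer ({z} : Set G)) →* B)

/-- The conjugates of `z` outside `E` do not contribute, and those inside contribute nothing if the
character vanishes on the corresponding conjugates of `E`. -/
theorem char_two_element (hres : Cfsg.pResidual 2 G = ⊤) (hB : ∀ b : B, b * b = 1)
    (hEp : IsPGroup 2 E) {n : ℕ}
    (hn : 3 ≤ n) (hcard : Nat.card E = 2 ^ (2 * n + 1))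
    (hgood : ∀ g : G, g * z * g⁻¹ ∈ E → g * z * g⁻¹ ≠ z →
      ∀ b ∈ E.map (MulAut.conj g).toMonoidHom, ∀ hb : b ∈ centralizer ({z} : Set G), θ ⟨b, hb⟩ = 1) {x : G}
    (hx : x ∈ centralizer ({z} : Set G)) {k : ℕ} (hxk : x ^ 2 ^ k = 1) : θ ⟨x, hx⟩ = 1 := by
  classical
  haveI : Fintype (G ⧸ centralizer ({z} : Set G)) := Fintype.ofFinite _
  set S₀ := (Finset.univ : Finset (G ⧸ centralizer ({z} : Set G))).filter
    fun ω => z • ω = ω ∧ wt ω ≠ z with hSdef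
  refine transfer_split h hres hB θ hx S₀ (fun ω => by simp [S₀]) ?_
  have hxz := mem_centralizer_singleton_iff.1 hx
  have hconjE : ∀ y ∈ centralizer ({z} : Set G), ∀ w, w ∈ E ↔ y * w * y⁻¹ ∈ E := fun y hy w =>
    mem_normalizer_iff.1 (h.norm hy) w
  have hS₀ : ∀ y ∈ centralizer ({z} : Set G), ∀ ω ∈ S₀, y • ω ∈ S₀ := by
    intro y hy ω hω
    obtain ⟨-, hω1, hω2⟩ := Finset.mem_filter.1 hω
    refine Finset.mem_filter.2 ⟨Finset.mem_univ _, fixed_smul h hy hω1, fun e => hω2 ?_⟩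
    rw [wt_smul] at e
    calc wt ω = y⁻¹ * (y * wt ω * y⁻¹) * y := by group
      _ = y⁻¹ * (z * y) := by rw [e, mul_assoc]
      _ = z := by rw [← mem_centralizer_singleton_iff.1 hy, inv_mul_cancel_left]
  rw [← Finset.prod_filter_mul_prod_filter_not S₀ (fun ω => wt ω ∈ E)]
  have hin : ∏ ω ∈ S₀.filter (fun ω => wt ω ∈ E), term θ x ω = 1 := by
    refine prod_eq_one (isCocycle_term θ) hB hEp (fun e he => h.conj_mem hxz he) _
      (fun e he ω hω => ?_) (fun ω hω => ?_) (fun e he ω hω hfix => ?_) fun ω hω => ?_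
    · obtain ⟨hω0, hωE⟩ := Finset.mem_filter.1 hω
      exact Finset.mem_filter.2 ⟨hS₀ e (le_C h he) ω hω0, by
        rw [wt_smul]; exact (hconjE e (le_C h he) _).1 hωE⟩
    · obtain ⟨hω0, hωE⟩ := Finset.mem_filter.1 hω
      exact Finset.mem_filter.2 ⟨hS₀ x hx ω hω0, by rw [wt_smul]; exact (hconjE x hx _).1 hωE⟩
    · obtain ⟨hω0, hωE⟩ := Finset.mem_filter.1 hω
      obtain ⟨-, hω1, hω2⟩ := Finset.mem_filter.1 hω0
      have hm : ω.out⁻¹ * e * ω.out ∈ centralizer ({z} : Set G) := by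
        have := smul_out e ω
        rwa [hfix] at this
      rw [term_fixed θ hfix hm]
      obtain ⟨a, haE, ha⟩ := h.center_mem_conj (g := ω.out) hωE
      have haz : ω.out⁻¹ * z * ω.out⁻¹⁻¹ = a := by
        have e := congrArg (fun y => ω.out⁻¹ * y * ω.out) ha
        simpa [mul_assoc] using e.symm
      refine hgood ω.out⁻¹ (haz ▸ haE) (fun e' => hω2 ?_) _ ⟨e, he, by simp⟩ hm
      show ω.out * z * ω.out⁻¹ = z
      calc ω.out * z * ω.out⁻¹ = ω.out * (ω.out⁻¹ * z * ω.out⁻¹⁻¹) * ω.out⁻¹ := by rw [e']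
        _ = z := by group
    · obtain ⟨hω0, -⟩ := Finset.mem_filter.1 hω
      obtain ⟨e, he, hne⟩ := moved h (wt_props h ω).1 (Finset.mem_filter.1 hω0).2.2 (wt_props h ω).2
      exact ⟨e, he, fun hf => hne (fix_iff.1 hf)⟩
  rw [hin, one_mul]
  set S := S₀.filter (fun ω => ¬ wt ω ∈ E) with hSdef'
  set f : G →* G := (MulAut.conj x).toMonoidHom
  have hf : ∀ {a : G} {H : Subgroup G}, x * a * x⁻¹ ∈ H.map f ↔ a ∈ H := fun {a H} =>
    mem_map_iff_mem (MulAut.conj x).injective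
  have hfE : ∀ {a : G}, x * a * x⁻¹ ∈ E ↔ a ∈ E := fun {a} =>
    (mem_normalizer_iff.1 (h.norm hx) a).symm
  let Qp : Subgroup G → Subgroup G → Prop := fun D U =>
    U ≤ E ∧ x ∈ normalizer (U : Set G) ∧ ∃ u ∈ E, u ∉ D ⊔ U ∧ ∀ a ∈ E, a ∈ D ⊔ U ∨ u * a ∈ D ⊔ U
  have hUmap : ∀ {U : Subgroup G}, x ∈ normalizer (U : Set G) → U.map f = U := by
    intro U hU
    ext y
    constructor
    · rintro ⟨a, ha, rfl⟩
      exact (mem_normalizer_iff.1 hU a).1 ha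
    · intro hy
      exact ⟨x⁻¹ * y * x, (mem_normalizer_iff.1 hU _).2 (by simpa [mul_assoc] using hy),
        by simp [f, mul_assoc]⟩
  have hQp : ∀ D, Qp (D.map f) = Qp D := by
    intro D
    funext U
    refine propext ⟨fun ⟨h1, h2, u, hu, hu1, hu2⟩ => ⟨h1, h2, x⁻¹ * u * x, ?_, ?_, fun a ha => ?_⟩,
      fun ⟨h1, h2, u, hu, hu1, hu2⟩ => ⟨h1, h2, x * u * x⁻¹, hfE.2 hu, ?_, fun a ha => ?_⟩⟩
    · exact hfE.1 (by simpa [mul_assoc] using hu)
    · intro h3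
      refine hu1 ?_
      have := (hf (H := D ⊔ U)).2 h3
      rw [Subgroup.map_sup, hUmap h2] at this
      simpa [mul_assoc] using this
    · have h3 := hu2 _ (hfE.2 ha)
      rw [← hUmap h2, ← Subgroup.map_sup] at h3
      rcases h3 with h3 | h3
      · exact Or.inl (hf.1 h3)
      · refine Or.inr (hf.1 ?_)
        convert h3 using 1
        group
    · rw [← hUmap h2, ← Subgroup.map_sup, hf]
      exact hu1
    · have ha' : x⁻¹ * a * x ∈ E := hfE.1 (by simpa [mul_assoc] using ha)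
      have h3 := hu2 _ ha'
      rw [← hUmap h2, ← Subgroup.map_sup]
      refine h3.imp (fun h4 => ?_) fun h4 => ?_
      · have := hf.2 h4
        simpa [mul_assoc] using this
      · have := hf.2 h4
        simpa [mul_assoc] using this
  let Df : G ⧸ centralizer ({z} : Set G) → Subgroup G := fun ρ => E ⊓ centralizer ({wt ρ} : Set G)
  have hDfmem : ∀ {ρ : G ⧸ centralizer ({z} : Set G)} {a : G},
      a ∈ Df ρ ↔ a ∈ E ∧ a • ρ = ρ := fun {ρ a} => by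
    rw [fix_iff]; simp [Df, mem_inf, mem_centralizer_singleton_iff]
  let D₁ : G ⧸ centralizer ({z} : Set G) → Subgroup G := fun ρ =>
    Df ρ ⊔ Classical.epsilon (Qp (Df ρ))
  have hS : ∀ {ρ}, ρ ∈ S → z • ρ = ρ ∧ wt ρ ≠ z := fun hρ =>
    (Finset.mem_filter.1 (Finset.mem_filter.1 hρ).1).2
  have hstable : ∀ y ∈ centralizer ({z} : Set G), ∀ ω ∈ S, y • ω ∈ S := by
    intro y hy ω hω
    refine Finset.mem_filter.2 ⟨hS₀ y hy ω (Finset.mem_filter.1 hω).1, fun e => ?_⟩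
    rw [wt_smul] at e
    exact (Finset.mem_filter.1 hω).2 ((hconjE y hy _).2 e)
  have hspec : ∀ {ρ}, ρ ∈ S → wt ρ ∉ E ∧ D₁ ρ ≤ E ∧
      ∃ u ∈ E, u ∉ D₁ ρ ∧ ∀ a ∈ E, a ∈ D₁ ρ ∨ u * a ∈ D₁ ρ := by
    intro ρ hρ
    have hwE : wt ρ ∉ E := (Finset.mem_filter.1 hρ).2
    obtain ⟨a, ha, hne⟩ := moved h (wt_props h ρ).1 (hS hρ).2 (wt_props h ρ).2
    have hex : ∃ U, Qp (Df ρ) U := exists_halving h hxz hxk
      (hDfmem.2 ⟨h.gen.mem, (hS hρ).1⟩) inf_le_left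
      fun hle => hne (fix_iff.1 (hDfmem.1 (hle ha)).2)
    obtain ⟨h1, -, h3⟩ := Classical.epsilon_spec hex
    exact ⟨hwE, sup_le inf_le_left h1, h3⟩
  have hDE : ∀ a ∈ E, ∀ ρ ∈ S, Df (a • ρ) = Df ρ := by
    intro a ha ρ hρ
    ext b
    rw [hDfmem, hDfmem]
    refine and_congr_right fun hb => ?_
    have h1 : b • a • ρ = a • b • ρ := by
      rcases conj_eq h.gen hb ha with e' | e'
      · rw [← mul_smul, mul_inv_eq_iff_eq_mul.1 e', mul_smul]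
      · rw [← mul_smul, mul_inv_eq_iff_eq_mul.1 e', mul_assoc, mul_smul, mul_smul]
        exact fixed_smul h (le_C h ha) (fixed_smul h (le_C h hb) (hS hρ).1)
    rw [h1, (MulAction.injective a).eq_iff]
  have hDx : ∀ ρ, Df (x • ρ) = (Df ρ).map f := by
    intro ρ
    ext b
    have hb : b = x * (x⁻¹ * b * x) * x⁻¹ := by group
    rw [hb, hf, hDfmem, hDfmem, hfE]
    refine and_congr_right fun _ => ?_
    rw [mul_smul, mul_smul, inv_smul_smul, (MulAction.injective x).eq_iff]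
  have hD₁E : ∀ a ∈ E, ∀ ρ ∈ S, D₁ (a • ρ) = D₁ ρ := fun a ha ρ hρ => by
    simp only [D₁, hDE a ha ρ hρ]
  have hD₁x : ∀ ρ ∈ S, D₁ (x • ρ) = (D₁ ρ).map f := by
    intro ρ hρ
    simp only [D₁, hDx, hQp]
    have hex : ∃ U, Qp (Df ρ) U := by
      obtain ⟨a, ha, hne⟩ := moved h (wt_props h ρ).1 (hS hρ).2 (wt_props h ρ).2
      exact exists_halving h hxz hxk (hDfmem.2 ⟨h.gen.mem, (hS hρ).1⟩) inf_le_left
        fun hle => hne (fix_iff.1 (hDfmem.1 (hle ha)).2)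
    rw [Subgroup.map_sup, hUmap (Classical.epsilon_spec hex).2.1]
  let P : G ⧸ centralizer ({z} : Set G) → Finset (G ⧸ centralizer ({z} : Set G)) := fun ρ =>
    Finset.univ.filter fun σ => ∃ a ∈ D₁ ρ, a • ρ = σ
  have hPmem : ∀ {ρ σ}, σ ∈ P ρ ↔ ∃ a ∈ D₁ ρ, a • ρ = σ := fun {ρ σ} => by simp [P]
  have hself : ∀ ρ, ρ ∈ P ρ := fun ρ => hPmem.2 ⟨1, one_mem _, one_smul _ _⟩
  have hPE : ∀ e ∈ E, ∀ ρ ∈ S, e • P ρ = P (e • ρ) := by
    intro e he ρ hρ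
    have hz1 : z ∈ D₁ ρ := mem_sup_left (hDfmem.2 ⟨h.gen.mem, (hS hρ).1⟩)
    ext σ
    rw [Finset.mem_smul_finset, hPmem, hD₁E e he ρ hρ]
    constructor
    · rintro ⟨τ, hτ, rfl⟩
      obtain ⟨a, ha, rfl⟩ := hPmem.1 hτ
      exact ⟨e * a * e⁻¹, conj_mem_of_z h hz1 (hspec hρ).2.1 he ha, by
        rw [← mul_smul, inv_mul_cancel_right, mul_smul]⟩
    · rintro ⟨a, ha, rfl⟩
      refine ⟨(e⁻¹ * a * e⁻¹⁻¹) • ρ, hPmem.2 ⟨_, conj_mem_of_z h hz1 (hspec hρ).2.1 (inv_mem he) ha,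
        rfl⟩, ?_⟩
      rw [← mul_smul, ← mul_smul]
      congr 1
      group
  have hPx : ∀ ρ ∈ S, x • P ρ = P (x • ρ) := by
    intro ρ hρ
    ext σ
    rw [Finset.mem_smul_finset, hPmem, hD₁x ρ hρ]
    constructor
    · rintro ⟨τ, hτ, rfl⟩
      obtain ⟨a, ha, rfl⟩ := hPmem.1 hτ
      exact ⟨x * a * x⁻¹, hf.2 ha, by rw [← mul_smul, inv_mul_cancel_right, mul_smul]⟩
    · rintro ⟨_, ⟨a, ha, rfl⟩, rfl⟩
      refine ⟨a • ρ, hPmem.2 ⟨a, ha, rfl⟩, ?_⟩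
      show x • a • ρ = (x * a * x⁻¹) • x • ρ
      rw [← mul_smul, ← mul_smul, inv_mul_cancel_right]
  have hclass : ∀ ρ ∈ S, ∀ σ ∈ P ρ, σ ∈ S ∧ P σ = P ρ := by
    intro ρ hρ σ hσ
    obtain ⟨a, ha, rfl⟩ := hPmem.1 hσ
    have haE := (hspec hρ).2.1 ha
    refine ⟨hstable a (le_C h haE) ρ hρ, ?_⟩
    ext τ
    rw [hPmem, hPmem, hD₁E a haE ρ hρ]
    constructor
    · rintro ⟨b, hb, rfl⟩
      exact ⟨b * a, mul_mem hb ha, mul_smul _ _ _⟩
    · rintro ⟨b, hb, rfl⟩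
      exact ⟨b * a⁻¹, mul_mem hb (inv_mem ha), by rw [← mul_smul, inv_mul_cancel_right]⟩
  have hfib : ∀ ρ ∈ S, S.filter (fun σ => P σ = P ρ) = P ρ := by
    intro ρ hρ
    ext σ
    rw [Finset.mem_filter]
    exact ⟨fun ⟨_, e⟩ => e ▸ hself σ, hclass ρ hρ σ⟩
  rw [← Finset.prod_fiberwise_of_maps_to (t := S.image P) (g := P)
    (fun ω hω => Finset.mem_image_of_mem P hω)]
  rw [Finset.prod_congr rfl (g := fun Q => ∏ σ ∈ Q, term θ x σ) fun Q hQ => by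
    obtain ⟨ρ, hρ, rfl⟩ := Finset.mem_image.1 hQ
    rw [hfib ρ hρ]]
  have hfixD₁ : ∀ e ∈ E, ∀ ρ ∈ S, e • P ρ = P ρ → e ∈ D₁ ρ := by
    intro e he ρ hρ hfix
    have := Finset.smul_mem_smul_finset (a := e) (hself ρ)
    rw [hfix] at this
    obtain ⟨a, ha, e'⟩ := hPmem.1 this
    have h1 : a⁻¹ * e ∈ Df ρ := hDfmem.2 ⟨mul_mem (inv_mem ((hspec hρ).2.1 ha)) he, by
      rw [mul_smul, ← e', inv_smul_smul]⟩
    have := mul_mem ha (mem_sup_left h1 : a⁻¹ * e ∈ D₁ ρ)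
    rwa [mul_inv_cancel_left] at this
  refine prod_eq_one (isCocycle_finset (isCocycle_term θ)) hB hEp
    (fun e he => h.conj_mem hxz he) _ (fun e he Q hQ => ?_)
    (fun Q hQ => ?_) (fun e he Q hQ hfix => ?_) fun Q hQ => ?_
  · obtain ⟨ρ, hρ, rfl⟩ := Finset.mem_image.1 hQ
    rw [hPE e he ρ hρ]
    exact Finset.mem_image_of_mem P (hstable e (le_C h he) ρ hρ)
  · obtain ⟨ρ, hρ, rfl⟩ := Finset.mem_image.1 hQ
    rw [hPx ρ hρ]
    exact Finset.mem_image_of_mem P (hstable x hx ρ hρ)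
  · obtain ⟨ρ, hρ, rfl⟩ := Finset.mem_image.1 hQ
    obtain ⟨hwE, h1, h2⟩ := hspec hρ
    exact block_prod h θ hB hEp hn hcard (hS hρ).1 hwE h1 le_sup_left h2 (P ρ)
      (fun σ => hPmem) (hfixD₁ e he ρ hρ hfix)
  · obtain ⟨ρ, hρ, rfl⟩ := Finset.mem_image.1 hQ
    obtain ⟨-, -, u, hu, hu1, -⟩ := hspec hρ
    exact ⟨u, hu, fun hfix => hu1 (hfixD₁ u hu ρ hρ hfix)⟩

theorem char_eq_one (hres : Cfsg.pResidual 2 G = ⊤) (hB : ∀ b : B, b * b = 1)
    (hEp : IsPGroup 2 E) {n : ℕ}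
    (hn : 3 ≤ n) (hcard : Nat.card E = 2 ^ (2 * n + 1))
    (hgood : ∀ g : G, g * z * g⁻¹ ∈ E → g * z * g⁻¹ ≠ z →
      ∀ b ∈ E.map (MulAut.conj g).toMonoidHom, ∀ hb : b ∈ centralizer ({z} : Set G), θ ⟨b, hb⟩ = 1) (x : ↥(centralizer ({z} : Set G))) :
    θ x = 1 := by
  obtain ⟨k, m, hm, hk⟩ := Nat.exists_eq_pow_mul_and_not_dvd (orderOf_pos x).ne' 2 (by norm_num)
  have h1 : (x ^ m) ^ 2 ^ k = 1 := by rw [← pow_mul, mul_comm, ← hk, pow_orderOf_eq_one]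
  have h2 : θ (x ^ m) = 1 := char_two_element h θ hres hB hEp hn hcard hgood (x := ((x ^ m :
    ↥(centralizer ({z} : Set G))) : G)) (x ^ m).2 (k := k) (by
      rw [← Subgroup.coe_pow, h1, Subgroup.coe_one])
  obtain ⟨j, rfl⟩ := Nat.odd_iff.2 (Nat.two_dvd_ne_zero.1 hm)
  rwa [map_pow, pow_succ, pow_mul, pow_two, hB, one_pow, one_mul] at h2

end CfsgLib.FusedTransfer
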