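import Cfsg.Agent.LargeExtra.SimpleCriterion
import Cfsg.Agent.Invol.SmallSylow
import Cfsg.Agent.S5434

/-!
Large extraspecial subgroups in sections `N(A)/A` and `C(t)/⟨t⟩` of a group with a large
extraspecial subgroup.
-/

set_option autoImplicit false
set_option linter.style.haveILetI false
set_option linter.unusedSectionVars false

namespace CfsgLib.SectionLarge

open Subgroup CfsgLib.Extra2 CfsgLib.LargeExtra
open scoped commutatorElement

variable {G : Type*} [Group G] [Finite G] {Q : Subgroup G} {z : G}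

/-- An element of `M/N` commutes with `z` and the image of `R` is stable: `Pre` for the image. -/
theorem pre_map {M L : Type*} [Group M] [Group L] (f : M →* L) (hf : Function.Surjective f)
    (R : Subgroup M) (hR : Cfsg.IsExtraspecial 2 ↥(R.map f)) {zM : M} (hzR : zM ∈ R) (hz1 : f zM ≠ 1)
    (hzc : ∀ r ∈ R, f r * f zM = f zM * f r)
    (hself : ∀ m, (∀ r ∈ R, f m * f r = f r * f m) → f m ∈ R.map f)
    (hnorm : ∀ m, f m * f zM = f zM * f m → ∀ r ∈ R, f (m * r * m⁻¹) ∈ R.map f) :
    Pre (R.map f) (f zM) := by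
  obtain ⟨c, hg⟩ := exists_gen hR
  have hc : c = f zM := by
    refine ((hg.center_iff (f zM) (mem_map_of_mem f hzR) ?_).resolve_left hz1).symm
    rintro _ ⟨r, hr, rfl⟩
    exact (hzc r hr).symm
  subst hc
  refine ⟨hg, fun y hy => ?_, fun y hy => ?_⟩
  · obtain ⟨m, rfl⟩ := hf y
    exact hself m fun r hr => (mem_centralizer_iff.1 hy _ (mem_map_of_mem f hr)).symm
  · obtain ⟨m, rfl⟩ := hf y
    have key : ∀ m, f m * f zM = f zM * f m → ∀ w ∈ R.map f, f m * w * (f m)⁻¹ ∈ R.map f := by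
      rintro m hm _ ⟨r, hr, rfl⟩
      rw [← map_inv, ← map_mul, ← map_mul]
      exact hnorm m hm r hr
    have hm := mem_centralizer_singleton_iff.1 hy
    refine mem_normalizer_iff.2 fun w => ⟨key m hm w, fun hw => ?_⟩
    have hm' : f m⁻¹ * f zM = f zM * f m⁻¹ := by rw [map_inv]; exact (Commute.inv_left hm).eq
    have := key m⁻¹ hm' _ hw
    simpa [map_inv, mul_assoc] using this

/-- In a four group `{1, z, b, bz}`: if `r` sends `b` to `bz` and `s` sends `z` to `zb`, then
`s⁻¹ r` sends `b` to `z`. -/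
theorem conj_swap {b r s : G} (hzb : z * b = b * z) (hr : r * b * r⁻¹ = b * z)
    (hs : s * z * s⁻¹ = z * b) : (s⁻¹ * r) * b * (s⁻¹ * r)⁻¹ = z := by
  calc (s⁻¹ * r) * b * (s⁻¹ * r)⁻¹ = s⁻¹ * (r * b * r⁻¹) * s := by group
    _ = s⁻¹ * (s * z * s⁻¹) * s := by rw [hr, hs, hzb]
    _ = z := by group

theorem isExtraspecial_conj (g : G) (hQ : Cfsg.IsExtraspecial 2 ↥Q) :
    Cfsg.IsExtraspecial 2 ↥(Q.map (MulAut.conj g).toMonoidHom) :=
  isExtraspecial_equiv (Q.equivMapOfInjective _ (MulEquiv.injective _)) hQ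

theorem sq_conj (h : Pre Q z) (g : G) : g * z * g⁻¹ * (g * z * g⁻¹) = 1 := (pre_conj h g).gen.sq

section Odd

variable {A R : Subgroup G}

/-- `Q = C_Q(A)[Q,A]`, a commuting product. -/
theorem decompose (hL : Cfsg.IsLargeExtraspecial Q) (hA : A ≤ normalizer (Q : Set G))
    (hAodd : Odd (Nat.card A)) :
    (Q ⊓ centralizer (A : Set G)) ⊔ ⁅Q, A⁆ = Q ∧
      (∀ x ∈ Q ⊓ centralizer (A : Set G), ∀ y ∈ ⁅Q, A⁆, x * y = y * x) ∧
      (Q ⊓ centralizer (A : Set G) = (center ↥Q).map Q.subtype ∨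
        Cfsg.IsExtraspecial 2 ↥(Q ⊓ centralizer (A : Set G))) := by
  rcases eq_or_ne A ⊥ with rfl | hA1
  · have h1 : Q ⊓ centralizer ((⊥ : Subgroup G) : Set G) = Q :=
      inf_eq_left.2 fun x _ => mem_centralizer_iff.2 fun y hy => by rw [mem_bot.1 hy]; simp
    rw [h1, commutator_bot_right, sup_bot_eq]
    exact ⟨rfl, fun x _ y hy => by rw [mem_bot.1 hy]; simp, Or.inr hL.1⟩
  · obtain ⟨h1, h2, -, h4⟩ := Cfsg.Agent.S5434.result Q hL A hA hAodd hA1
    exact ⟨h1, h2, h4⟩

/-- An element centralizing `A` that moves a 2-element of `C(A)` inside its `A`-coset fixes it. -/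
theorem eq_one_of_shift (hAodd : Odd (Nat.card A)) {c r a : G} {k : ℕ} (hr : r ^ 2 ^ k = 1)
    (hrA : r ∈ centralizer (A : Set G)) (ha : a ∈ A) (he : c * r * c⁻¹ = a * r) : a = 1 := by
  have h1 : (a * r) ^ 2 ^ k = 1 := by rw [← he, conj_pow, hr]; simp
  have hcm : Commute a r := mem_centralizer_iff.1 hrA a ha
  rw [hcm.mul_pow, hr, mul_one] at h1
  exact orderOf_eq_one_iff.1 (Nat.eq_one_of_dvd_coprimes
    ((Nat.coprime_two_left.2 hAodd).pow_left k) (orderOf_dvd_of_pow_eq_one h1)
    (A.orderOf_dvd_natCard ha))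

/-- A group with Sylow 2-subgroup of order two. -/
theorem eq_core_sup {D : Subgroup G} (h4 : ¬ 4 ∣ Nat.card D) {w : G} (hw : w ∈ D) (hw2 : orderOf w = 2) :
    D ≤ (Cfsg.oddCore D).map D.subtype ⊔ zpowers w := by
  haveI : Fact (Nat.Prime 2) := ⟨Nat.prime_two⟩
  have heven : 2 ∣ Nat.card D := hw2 ▸ D.orderOf_dvd_natCard hw
  obtain ⟨T⟩ : Nonempty (Sylow 2 D) := inferInstance
  obtain ⟨k, hk⟩ := IsPGroup.iff_card.1 T.isPGroup'
  have hk1 : k = 1 := by
    have hd := card_subgroup_dvd_card (T : Subgroup D)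
    rw [hk] at hd
    have h2 : k ≤ 1 := by
      by_contra hc
      exact h4 ((pow_dvd_pow 2 (by omega : 2 ≤ k)).trans hd)
    have h0 : k ≠ 0 := by
      intro h0
      have := T.ne_bot_of_dvd_card heven
      exact this (eq_bot_of_card_eq _ (by rw [hk, h0, pow_zero]))
    omega
  obtain ⟨H, hH⟩ := SmallSylow.exists_index_two_of_cyclic (even_iff_two_dvd.2 heven) T
    (isCyclic_of_prime_card (p := 2) (by rw [hk, hk1, pow_one]))
  haveI := normal_of_index_eq_two hH
  have hHodd : ¬ 2 ∣ Nat.card H := fun hd => h4 (by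
    rw [← H.card_mul_index, hH]
    exact Nat.mul_dvd_mul_right hd 2)
  have hHO : H ≤ Cfsg.oddCore D := Solvable.le_pPrimeCore 2 inferInstance
    ((Nat.Prime.coprime_iff_not_dvd Nat.prime_two).2 hHodd).symm
  have hwH : (⟨w, hw⟩ : D) ∉ H := fun hm => hHodd (by
    have := H.orderOf_dvd_natCard hm
    rwa [← orderOf_coe, hw2] at this)
  intro x hx
  by_cases hxH : (⟨x, hx⟩ : D) ∈ H
  · exact mem_sup_left ⟨_, hHO hxH, rfl⟩
  · have hm : (⟨x, hx⟩ : D) * ⟨w, hw⟩ ∈ H := (mul_mem_iff_of_index_two hH).2 (by simp [hxH, hwH])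
    have := mul_mem (mem_sup_left (T := zpowers w) (mem_map_of_mem D.subtype (hHO hm)))
      (mem_sup_right (S := (Cfsg.oddCore D).map D.subtype) (inv_mem (mem_zpowers w)))
    simpa using this

theorem odd_main (h : Pre Q z) (hQ : Cfsg.IsExtraspecial 2 ↥Q)
    (hA : A ≤ centralizer ({z} : Set G)) (hAodd : Odd (Nat.card A))
    (hR : R = Q ⊓ centralizer (A : Set G)) (hR32 : 32 ≤ Nat.card R)
    (hO : (Cfsg.oddCore ↥(centralizer ((A ⊔ R : Subgroup G) : Set G))).map
      (centralizer ((A ⊔ R : Subgroup G) : Set G)).subtype ≤ A)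
    (h4 : ¬ 4 ∣ Nat.card ↥(centralizer ((A ⊔ R : Subgroup G) : Set G)))
    {g : G} (hgR : g * z * g⁻¹ ∈ R) (hgz : g * z * g⁻¹ ≠ z) (M : Subgroup G)
    (hM : M = centralizer (A : Set G) ⊔ A) [hn : (A.subgroupOf M).Normal] :
    (M ⊓ centralizer ((R ⊔ A : Subgroup G) : Set G)) ⊔ A = A ⊔ zpowers z ∧
      Cfsg.IsLargeExtraspecial ((R.subgroupOf M).map (QuotientGroup.mk' (A.subgroupOf M))) ∧
      ∃ x ∈ R ⊔ (Q.map (MulAut.conj g).toMonoidHom ⊓ centralizer (A : Set G)),
        x * (g * z * g⁻¹) * x⁻¹ = z := by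
  subst hR
  set R := Q ⊓ centralizer (A : Set G)
  set b := g * z * g⁻¹
  have hbQ : b ∈ Q := hgR.1
  have hb1 : b ≠ 1 := (pre_conj h g).gen.ne_one
  have hL := large_of_conj h hQ hbQ hgz
  obtain ⟨-, -, hRe⟩ := decompose hL (hA.trans h.norm) hAodd
  have hzR : z ∈ R := ⟨h.gen.mem, mem_centralizer_iff.2 fun a ha =>
    mem_centralizer_singleton_iff.1 (hA ha)⟩
  replace hRe : Cfsg.IsExtraspecial 2 ↥R := by
    refine hRe.resolve_left fun e => ?_
    rw [h.gen.map_center] at e
    have : Nat.card R = 2 := by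
      show Nat.card ↥(Q ⊓ centralizer (A : Set G)) = 2
      rw [e, Nat.card_zpowers, orderOf_gen h.gen]
    omega
  have hpow : ∀ r ∈ Q, ∃ k, r ^ 2 ^ k = 1 := fun r hr => by
    obtain ⟨k, hk⟩ := hQ.1.1 ⟨r, hr⟩
    exact ⟨k, congrArg Subtype.val hk⟩
  have hRA : ∀ r ∈ R, r ∈ A → r = 1 := fun r hr hrA =>
    eq_one_of_two_odd hQ.1.1 hAodd hr.1 hrA
  have hCn : centralizer (A : Set G) ≤ normalizer (A : Set G) := centralizer_le_normalizer _
  have hsplit : ∀ m ∈ M, ∃ c ∈ centralizer (A : Set G), ∃ a ∈ A, m = c * a := fun m hm => by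
    obtain ⟨c, hc, a, ha, he⟩ := (Solvable.mem_sup_of_le_normalizer hCn).1 (hM ▸ hm)
    exact ⟨c, hc, a, ha, he.symm⟩
  -- commuting modulo `A` forces commuting with the `C(A)`-part
  have hcomm : ∀ c ∈ centralizer (A : Set G), ∀ a ∈ A, ∀ r ∈ R,
      c * a * r * (c * a)⁻¹ * r⁻¹ ∈ A → c * r = r * c := by
    intro c hc a ha r hr hm
    have har : a * r * a⁻¹ = r := mul_inv_eq_iff_eq_mul.2 (mem_centralizer_iff.1 hr.2 a ha)
    have e : c * a * r * (c * a)⁻¹ * r⁻¹ = c * r * c⁻¹ * r⁻¹ := by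
      calc c * a * r * (c * a)⁻¹ * r⁻¹ = c * (a * r * a⁻¹) * c⁻¹ * r⁻¹ := by group
        _ = _ := by rw [har]
    rw [e] at hm
    obtain ⟨k, hk⟩ := hpow r hr.1
    have h1 := eq_one_of_shift hAodd hk hr.2 hm (show c * r * c⁻¹ = c * r * c⁻¹ * r⁻¹ * r by group)
    exact mul_inv_eq_iff_eq_mul.1 (mul_inv_eq_one.1 h1)
  have hCM : centralizer (A : Set G) ≤ M := hM ▸ le_sup_left
  have hAM : A ≤ M := hM ▸ le_sup_right
  have hD : centralizer ((A ⊔ R : Subgroup G) : Set G) ≤ A ⊔ zpowers z := by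
    refine (eq_core_sup h4 (mem_centralizer_iff.2 fun w hw => ?_) (orderOf_gen h.gen)).trans
      (sup_le_sup_right hO _)
    have : A ⊔ R ≤ centralizer ({z} : Set G) := sup_le hA fun r hr =>
      mem_centralizer_singleton_iff.2 (h.gen.comm_z r hr.1).eq
    exact mem_centralizer_singleton_iff.1 (this hw)
  have hzC : z ∈ centralizer ((R ⊔ A : Subgroup G) : Set G) :=
    mem_centralizer_iff.2 fun w hw => mem_centralizer_singleton_iff.1
      ((sup_le (fun r hr => mem_centralizer_singleton_iff.2 (h.gen.comm_z r hr.1).eq) hA :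
        R ⊔ A ≤ centralizer ({z} : Set G)) hw)
  refine ⟨le_antisymm (sup_le (inf_le_right.trans (sup_comm R A ▸ hD)) le_sup_left)
    (sup_le le_sup_right (zpowers_le.2 (mem_sup_left ⟨hCM hzR.2, hzC⟩))), ?_, ?_⟩
  · set f := QuotientGroup.mk' (A.subgroupOf M)
    have hf1 : ∀ m : M, f m = 1 ↔ (m : G) ∈ A := fun m =>
      (QuotientGroup.eq_one_iff m).trans mem_subgroupOf
    have hfc : ∀ m n : M, f m * f n = f n * f m → (m : G) * n * (m : G)⁻¹ * (n : G)⁻¹ ∈ A := by
      intro m n he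
      have : f (m * n * m⁻¹ * n⁻¹) = 1 := by
        simp only [map_mul, map_inv]; rw [he]; group
      simpa using (hf1 _).1 this
    have hRM : R ≤ M := inf_le_right.trans hCM
    have hinj : Function.Injective (f.subgroupMap (R.subgroupOf M)) := by
      rw [injective_iff_map_eq_one]
      intro r hr
      have hr' : ((r : M) : G) ∈ A := (hf1 _).1 (congrArg Subtype.val hr)
      exact Subtype.ext (Subtype.ext (hRA _ (mem_subgroupOf.1 r.2) hr'))
    have hRbar : Cfsg.IsExtraspecial 2 ↥((R.subgroupOf M).map f) :=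
      isExtraspecial_equiv ((subgroupOfEquivOfLe hRM).symm.trans
        (MulEquiv.ofBijective _ ⟨hinj, f.subgroupMap_surjective _⟩)) hRe
    have hzne : f ⟨z, hRM hzR⟩ ≠ 1 := fun e =>
      h.gen.ne_one (hRA z hzR ((hf1 _).1 e))
    have hP : Pre ((R.subgroupOf M).map f) (f ⟨z, hRM hzR⟩) := by
      refine pre_map f (QuotientGroup.mk'_surjective _) _ hRbar (mem_subgroupOf.2 hzR) hzne
        (fun r hr => ?_) (fun m hm => ?_) fun m hm r hr => ?_
      · rw [← map_mul, ← map_mul]
        exact congrArg f (Subtype.ext (h.gen.comm_z _ (mem_subgroupOf.1 hr).1).eq)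
      · obtain ⟨c, hc, a, ha, he⟩ := hsplit m m.2
        have hcD : c ∈ centralizer ((A ⊔ R : Subgroup G) : Set G) := by
          refine mem_centralizer_iff.2 fun w hw => mem_centralizer_singleton_iff.1
            ((?_ : A ⊔ R ≤ centralizer ({c} : Set G)) hw)
          refine sup_le (fun w hw => mem_centralizer_singleton_iff.2 (mem_centralizer_iff.1 hc w hw))
            fun r hr => mem_centralizer_singleton_iff.2 (hcomm c hc a ha r hr ?_).symm
          have := hfc m ⟨r, hRM hr⟩ (hm _ (mem_subgroupOf.2 hr))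
          rw [he] at this
          exact this
        obtain ⟨u, hu, v, hv, huv⟩ := (Solvable.mem_sup_of_le_normalizer (K := A)
          (zpowers_le.2 (hCn hzR.2))).1 (sup_comm A _ ▸ hD hcD)
        refine ⟨⟨u, hRM (zpowers_le.2 hzR hu)⟩, mem_subgroupOf.2 (zpowers_le.2 hzR hu), ?_⟩
        refine (QuotientGroup.eq).2 (mem_subgroupOf.2 ?_)
        show u⁻¹ * (m : G) ∈ A
        rw [he, ← huv, mul_assoc u, inv_mul_cancel_left]
        exact mul_mem hv ha
      · obtain ⟨c, hc, a, ha, he⟩ := hsplit m m.2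
        have hcz : c * z = z * c := hcomm c hc a ha z hzR (by
          have := hfc m ⟨z, hRM hzR⟩ hm
          rwa [he] at this)
        have hrR := mem_subgroupOf.1 hr
        refine mem_map_of_mem f (mem_subgroupOf.2 ?_)
        show (m : G) * r * (m : G)⁻¹ ∈ R
        have har : a * (r : G) * a⁻¹ = r :=
          mul_inv_eq_iff_eq_mul.2 (mem_centralizer_iff.1 hrR.2 a ha)
        rw [he, show c * a * (r : G) * (c * a)⁻¹ = c * (a * r * a⁻¹) * c⁻¹ by group, har]
        exact ⟨h.conj_mem hcz hrR.1, Subgroup.mul_mem _ (Subgroup.mul_mem _ hc hrR.2) (Subgroup.inv_mem _ hc)⟩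
    have hpc := pre_conj h g
    refine large_of_core hP hRbar (b := f ⟨b, hRM hgR⟩) (mem_map_of_mem f (mem_subgroupOf.2 hgR))
      (fun e => hb1 (hRA b hgR ((hf1 _).1 e))) (fun e => hgz ?_) ?_
      (((Q.map (MulAut.conj g).toMonoidHom ⊓ centralizer (A : Set G)).subgroupOf M).map f) ?_
      (mem_map_of_mem f (mem_subgroupOf.2 ⟨h.center_mem_conj hbQ, hzR.2⟩)) ?_
    · have h1 := hRA _ (mul_mem (inv_mem hgR) hzR) (mem_subgroupOf.1 ((QuotientGroup.eq).1 e))
      exact inv_mul_eq_one.1 h1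
    · rw [← map_mul, show (⟨b, hRM hgR⟩ * ⟨b, hRM hgR⟩ : M) = 1 from Subtype.ext hpc.gen.sq, map_one]
    · exact IsPGroup.map ((((hQ.1.1 : IsPGroup 2 Q).map _).to_le inf_le_left).of_equiv
        (subgroupOfEquivOfLe (inf_le_right.trans hCM)).symm) _
    · intro y hy p hp
      obtain ⟨p, hp, rfl⟩ := hp
      obtain ⟨m, rfl⟩ := QuotientGroup.mk'_surjective _ y
      obtain ⟨c, hc, a, ha, he⟩ := hsplit m m.2
      have hcb : c * b = b * c := hcomm c hc a ha b hgR (by
        have := hfc m ⟨b, hRM hgR⟩ hy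
        rwa [he] at this)
      have hp' := mem_subgroupOf.1 hp
      rw [← map_inv, ← map_mul, ← map_mul]
      refine mem_map_of_mem f (mem_subgroupOf.2 ?_)
      show (m : G) * p * (m : G)⁻¹ ∈ _
      have hap : a * (p : G) * a⁻¹ = p :=
        mul_inv_eq_iff_eq_mul.2 (mem_centralizer_iff.1 hp'.2 a ha)
      rw [he, show c * a * (p : G) * (c * a)⁻¹ = c * (a * p * a⁻¹) * c⁻¹ by group, hap]
      exact ⟨hpc.conj_mem hcb hp'.1, Subgroup.mul_mem _ (Subgroup.mul_mem _ hc hp'.2) (Subgroup.inv_mem _ hc)⟩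
  · -- the conjugating element
    have hgenR : ∃ r ∈ R, r * b * r⁻¹ = b * z := by
      obtain ⟨w, hw⟩ := exists_gen hRe
      have hwz : w = z := ((hw.center_iff z hzR fun y hy => (h.gen.comm_z y hy.1).symm).resolve_left
        h.gen.ne_one).symm
      subst hwz
      exact exists_conj_mul hw hgR hb1 hgz
    obtain ⟨r, hr, hrb⟩ := hgenR
    have hpc := pre_conj h g
    have hLg : Cfsg.IsLargeExtraspecial (Q.map (MulAut.conj g).toMonoidHom) :=
      large_of_conj hpc (isExtraspecial_conj g hQ) (g := g⁻¹)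
        (by rw [show g⁻¹ * b * g⁻¹⁻¹ = z by simp only [b]; group]; exact h.center_mem_conj hbQ)
        (by rw [show g⁻¹ * b * g⁻¹⁻¹ = z by simp only [b]; group]; exact Ne.symm hgz)
    have hAb : A ≤ centralizer ({b} : Set G) := fun a ha =>
      mem_centralizer_singleton_iff.2 (mem_centralizer_iff.1 hgR.2 a ha)
    obtain ⟨hsup, hcm, -⟩ := decompose hLg (hAb.trans hpc.norm) hAodd
    set Qg := Q.map (MulAut.conj g).toMonoidHom
    have hzg : z ∈ Qg ⊓ centralizer (A : Set G) := ⟨h.center_mem_conj hbQ, hzR.2⟩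
    obtain ⟨s, hs, hsz⟩ : ∃ s ∈ Qg ⊓ centralizer (A : Set G), s * z ≠ z * s := by
      by_contra hall
      push Not at hall
      have : Qg ≤ centralizer ({z} : Set G) := by
        conv_lhs => rw [← hsup]
        exact sup_le (fun s hs => mem_centralizer_singleton_iff.2 (hall s hs))
          fun y hy => mem_centralizer_singleton_iff.2 (hcm z hzg y hy).symm
      rcases hpc.gen.center_iff z hzg.1
        (fun y hy => (mem_centralizer_singleton_iff.1 (this hy)).symm) with e | e
      · exact h.gen.ne_one e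
      · exact hgz e.symm
    have hsb : s * z * s⁻¹ = z * b := by
      rcases conj_eq hpc.gen hs.1 hzg.1 with e | e
      · exact absurd (mul_inv_eq_iff_eq_mul.1 e) hsz
      · rw [e]; exact (hpc.gen.comm_z z hzg.1).eq.symm
    exact ⟨s⁻¹ * r, mul_mem (mem_sup_right (inv_mem hs)) (mem_sup_left hr),
      conj_swap (h.gen.comm_z b hbQ).eq.symm hrb hsb⟩

end Odd

section Invol

/-- The section `C(t)/⟨t⟩`. -/
theorem invol_main (h : Pre Q z) (hQ : Cfsg.IsExtraspecial 2 ↥Q) {w : ℕ} (hw : 3 ≤ w)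
    (hcard : Nat.card ↥Q = 2 ^ (2 * w + 1)) {g : G} (hgQ : g * z * g⁻¹ ∈ Q)
    (hgz : g * z * g⁻¹ ≠ z) {t : G} (ht : orderOf t = 2)
    (htQ : t ∈ Q ⊓ Q.map (MulAut.conj g).toMonoidHom) (htz : ¬ IsConj z t) (P : Subgroup G)
    (hP : P = Q ⊓ centralizer ({t} : Set G))
    (hCP : ∀ c ∈ centralizer ({z} : Set G),
      (∀ x ∈ P, ∃ y ∈ closure ({t, z} : Set G), c * x * c⁻¹ = x * y) → c ∈ Q)
    [hn : ((zpowers t).subgroupOf (centralizer ({t} : Set G))).Normal] :
    Cfsg.IsLargeExtraspecial ((P.subgroupOf (centralizer ({t} : Set G))).map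
        (QuotientGroup.mk' ((zpowers t).subgroupOf (centralizer ({t} : Set G))))) ∧
      ∃ x ∈ P ⊔ (Q.map (MulAut.conj g).toMonoidHom ⊓ centralizer ({t} : Set G)),
        x * (g * z * g⁻¹) * x⁻¹ = z := by
  haveI : Fact (Nat.Prime 2) := ⟨Nat.prime_two⟩
  subst hP
  set C := centralizer ({t} : Set G)
  set P := Q ⊓ C
  set b := g * z * g⁻¹
  have hpc := pre_conj h g
  have htt : t * t = 1 := by rw [← pow_two, ← ht, pow_orderOf_eq_one]
  have ht1 : t ≠ 1 := fun e => by rw [e, orderOf_one] at ht; omega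
  have htnz : t ≠ z := fun e => htz (e ▸ IsConj.refl t)
  have htb : t ≠ b := fun e => htz (e ▸ isConj_iff.2 ⟨g, rfl⟩)
  -- `t` and its translates by the two centres are conjugate
  have htzc : ¬ IsConj z (t * z) := fun hc => by
    obtain ⟨q, -, hq⟩ := exists_conj_mul h.gen htQ.1 ht1 htnz
    exact htz (hc.trans (isConj_iff.2 ⟨q, hq⟩).symm)
  have htbc : ¬ IsConj z (t * b) := fun hc => by
    obtain ⟨q, -, hq⟩ := exists_conj_mul hpc.gen htQ.2 ht1 htb
    exact htz (hc.trans (isConj_iff.2 ⟨q, hq⟩).symm)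
  have hzP : z ∈ P := ⟨h.gen.mem, mem_centralizer_singleton_iff.2 (h.gen.comm_z t htQ.1).eq.symm⟩
  have hbP : b ∈ P := ⟨hgQ, mem_centralizer_singleton_iff.2 (hpc.gen.comm_z t htQ.2).eq.symm⟩
  have htP : t ∈ P := ⟨htQ.1, mem_centralizer_singleton_iff.2 rfl⟩
  have hmt : ∀ x, x ∈ zpowers t ↔ x = 1 ∨ x = t := fun x => mem_zpowers_iff htt
  have hbt : z ∉ zpowers t := fun hm => by
    rcases (hmt z).1 hm with e | e
    · exact h.gen.ne_one e
    · exact htnz e.symm
  -- the centralizer of `P` in `Q`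
  set W := zpowers z ⊔ zpowers t
  have htz' : Commute t z := h.gen.comm_z t htQ.1
  have hWmem : ∀ x ∈ W, x = 1 ∨ x = t ∨ x = z ∨ x = t * z := by
    intro x hx
    obtain ⟨a, ha, c, hc, rfl⟩ := (Solvable.mem_sup_of_le_normalizer (A := zpowers z)
      (K := zpowers t) (zpowers_le.2 (centralizer_le_normalizer _ (mem_centralizer_iff.2
        fun y hy => by rcases (hmt y).1 hy with rfl | rfl <;> simp [htz'.eq])))).1 hx
    rcases (mem_zpowers_iff h.gen.sq).1 ha with rfl | rfl <;> rcases (hmt c).1 hc with rfl | rfl <;>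
      simp [htz'.eq]
  have hWc : Nat.card W ≤ 4 := by
    classical
    calc Nat.card W = (W : Set G).ncard := (Nat.card_coe_set_eq _)
      _ ≤ ({1, t, z, t * z} : Finset G).card := by
          rw [← Set.ncard_coe_finset]
          refine Set.ncard_le_ncard (fun x hx => ?_) (Finset.finite_toSet _)
          simpa using hWmem x hx
      _ ≤ 4 := Finset.card_le_four
  have hcardP : Nat.card Q ≤ 2 * Nat.card P := card_le_two_mul h.gen Q le_rfl htQ.1
  have hCQP : ∀ x ∈ Q, (∀ p ∈ P, x * p = p * x) → x ∈ W := by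
    intro x hx hxp
    set U := Q ⊓ centralizer (P : Set G)
    have hWU : W ≤ U := sup_le (zpowers_le.2 ⟨h.gen.mem, mem_centralizer_iff.2 fun p hp =>
        (h.gen.comm_z p hp.1).eq⟩) (zpowers_le.2 ⟨htQ.1, mem_centralizer_iff.2 fun p hp =>
        mem_centralizer_singleton_iff.1 hp.2⟩)
    have hUc := card_mul_card_centralizer h.gen (R := P) hzP inf_le_left
    change Nat.card P * Nat.card U = 2 * Nat.card Q at hUc
    have hU4 : Nat.card U ≤ 4 := by
      refine Nat.le_of_mul_le_mul_left (?_ : Nat.card P * Nat.card U ≤ Nat.card P * 4) Nat.card_pos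
      rw [hUc]
      omega
    have hW4 : 4 ≤ Nat.card W := by
      classical
      have hsub : (({1, t, z, t * z} : Finset G) : Set G) ⊆ (W : Set G) := by
        intro y hy
        simp only [Finset.coe_insert, Finset.coe_singleton, Set.mem_insert_iff,
          Set.mem_singleton_iff] at hy
        rcases hy with rfl | rfl | rfl | rfl
        · exact one_mem _
        · exact mem_sup_right (mem_zpowers _)
        · exact mem_sup_left (mem_zpowers _)
        · exact mul_mem (mem_sup_right (mem_zpowers _)) (mem_sup_left (mem_zpowers _))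
      have h4 : ({1, t, z, t * z} : Finset G).card = 4 := by
        have e1 : (1 : G) ≠ t := ht1.symm
        have e2 : (1 : G) ≠ z := h.gen.ne_one.symm
        have e3 : (1 : G) ≠ t * z := fun e => htnz (by
          calc t = t * (z * z) := by rw [h.gen.sq, mul_one]
            _ = t * z * z := (mul_assoc _ _ _).symm
            _ = z := by rw [← e, one_mul])
        have e4 : t ≠ t * z := fun e => h.gen.ne_one (mul_eq_left.1 e.symm)
        have e5 : z ≠ t * z := fun e => ht1 (mul_eq_right.1 e.symm)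
        rw [Finset.card_insert_of_notMem (by simp [e1, e2, e3]),
          Finset.card_insert_of_notMem (by simp [htnz, e4]),
          Finset.card_insert_of_notMem (by simp [e5]), Finset.card_singleton]
      rw [← h4, ← Set.ncard_coe_finset, ← SetLike.coe_sort_coe, Nat.card_coe_set_eq]
      exact Set.ncard_le_ncard (t := (W : Set G)) hsub (Set.toFinite _)
    rw [eq_of_le_of_card_ge hWU (hU4.trans hW4)]
    exact ⟨hx, mem_centralizer_iff.2 fun p hp => (hxp p hp).symm⟩
  set f := QuotientGroup.mk' ((zpowers t).subgroupOf C)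
  have hf1 : ∀ m : C, f m = 1 ↔ (m : G) ∈ zpowers t := fun m =>
    (QuotientGroup.eq_one_iff m).trans mem_subgroupOf
  have hfc : ∀ m n : C, f m * f n = f n * f m → (m : G) * n * (m : G)⁻¹ = n ∨
      (m : G) * n * (m : G)⁻¹ = t * n := by
    intro m n he
    have : f (m * n * m⁻¹ * n⁻¹) = 1 := by
      simp only [map_mul, map_inv]; rw [he]; group
    rcases (hmt _).1 ((hf1 _).1 this) with e | e
    · exact Or.inl (mul_inv_eq_one.1 e)
    · exact Or.inr (mul_inv_eq_iff_eq_mul.1 e)
  have hPC : P ≤ C := inf_le_right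
  have hfix : ∀ (m : C) (hx : z ∈ C), f m * f ⟨z, hx⟩ = f ⟨z, hx⟩ * f m →
      (m : G) * z = z * (m : G) := fun m hx he => by
    rcases hfc m _ he with e | e
    · exact mul_inv_eq_iff_eq_mul.1 e
    · exact absurd (isConj_iff.2 ⟨(m : G), e⟩) htzc
  set zC : C := ⟨z, hPC hzP⟩
  have hz1 : f zC ≠ 1 := fun e => hbt ((hf1 _).1 e)
  -- the image of `P` is extraspecial
  have hPbar : Cfsg.IsExtraspecial 2 ↥((P.subgroupOf C).map f) := by
    set Pb := (P.subgroupOf C).map f
    have hzb : f zC ∈ Pb := mem_map_of_mem f (mem_subgroupOf.2 hzP)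
    have hPp : IsPGroup 2 Pb := IsPGroup.map
      (((hQ.1.1 : IsPGroup 2 Q).to_le inf_le_left).of_equiv (subgroupOfEquivOfLe hPC).symm) _
    have himg : ∀ y : C, (y : G) = 1 ∨ (y : G) = z → f y = 1 ∨ f y = f zC := by
      rintro y (e | e)
      · exact Or.inl ((hf1 y).2 (e ▸ one_mem _))
      · exact Or.inr (congrArg f (Subtype.ext e))
    have hcent : ∀ x : Pb, x ∈ center Pb ↔ (x : C ⧸ (zpowers t).subgroupOf C) = 1 ∨
        (x : C ⧸ (zpowers t).subgroupOf C) = f zC := by
      intro x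
      constructor
      · intro hx
        obtain ⟨_, ⟨p, hp, rfl⟩⟩ := x
        have hp' := mem_subgroupOf.1 hp
        have hall : ∀ r ∈ P, (p : G) * r = r * p := fun r hr => by
          have he := congrArg Subtype.val (mem_center_iff.1 hx ⟨f ⟨r, hPC hr⟩,
            mem_map_of_mem f (mem_subgroupOf.2 hr)⟩)
          rcases h.gen.comm _ hp'.1 r hr.1 with e | e
          · exact mul_inv_eq_iff_eq_mul.1 (mul_inv_eq_one.1 e)
          · exfalso
            rcases hfc p ⟨r, hPC hr⟩ he.symm with e' | e'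
            · rw [show (p : G) * r * (p : G)⁻¹ = r from e', mul_inv_cancel] at e
              exact h.gen.ne_one e.symm
            · rw [show (p : G) * r * (p : G)⁻¹ = t * r from e', mul_inv_cancel_right] at e
              exact htnz e
        rcases hWmem _ (hCQP _ hp'.1 hall) with e | e | e | e
        · exact himg p (Or.inl e)
        · exact Or.inl ((hf1 p).2 (e ▸ mem_zpowers t))
        · exact himg p (Or.inr e)
        · refine Or.inr ?_
          show f p = f zC
          rw [show p = ⟨t, hPC htP⟩ * zC from Subtype.ext e, map_mul,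
            (hf1 ⟨t, hPC htP⟩).2 (mem_zpowers t), one_mul]
      · rintro hx
        refine mem_center_iff.2 fun y => Subtype.ext ?_
        show (y : C ⧸ (zpowers t).subgroupOf C) * x = x * y
        rcases hx with e | e <;> rw [e]
        · simp
        · obtain ⟨_, ⟨r, hr, rfl⟩⟩ := y
          rw [← map_mul, ← map_mul]
          exact congrArg f (Subtype.ext (h.gen.comm_z _ (mem_subgroupOf.1 hr).1).eq)
    refine Monster.isExtraspecial_of hPp ?_ (fun x y => ?_) (fun x => ?_) ?_
    · refine Nat.card_eq_two_iff.2 ⟨1, ⟨⟨f zC, hzb⟩, (hcent _).2 (Or.inr rfl)⟩, ?_, ?_⟩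
      · intro e
        exact hz1 (congrArg (fun v : center Pb => ((v : Pb) : C ⧸ (zpowers t).subgroupOf C)) e).symm
      · refine Set.eq_univ_of_forall fun v => ?_
        rcases (hcent _).1 v.2 with e | e
        · exact Or.inl (Subtype.ext (Subtype.ext e))
        · exact Or.inr (Subtype.ext (Subtype.ext e))
    · obtain ⟨_, ⟨p, hp, rfl⟩⟩ := x
      obtain ⟨_, ⟨r, hr, rfl⟩⟩ := y
      refine (hcent _).2 ?_
      have := himg (p * r * p⁻¹ * r⁻¹)
        (h.gen.comm _ (mem_subgroupOf.1 hp).1 _ (mem_subgroupOf.1 hr).1)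
      simpa using this
    · obtain ⟨_, ⟨p, hp, rfl⟩⟩ := x
      refine (hcent _).2 ?_
      have := himg (p * p) (h.gen.square _ (mem_subgroupOf.1 hp).1)
      simpa using this
    · by_contra hab
      push Not at hab
      have hPW : P ≤ W := fun p hp => hCQP p hp.1 fun r hr => by
        rcases h.gen.comm p hp.1 r hr.1 with e | e
        · exact mul_inv_eq_iff_eq_mul.1 (mul_inv_eq_one.1 e)
        · exfalso
          have he := congrArg Subtype.val (hab
            ⟨_, mem_map_of_mem f (show (⟨p, hPC hp⟩ : C) ∈ P.subgroupOf C from mem_subgroupOf.2 hp)⟩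
            ⟨_, mem_map_of_mem f (show (⟨r, hPC hr⟩ : C) ∈ P.subgroupOf C from mem_subgroupOf.2 hr)⟩)
          rcases hfc ⟨p, hPC hp⟩ ⟨r, hPC hr⟩ he with e' | e'
          · rw [show p * r * p⁻¹ = r from e', mul_inv_cancel] at e
            exact h.gen.ne_one e.symm
          · rw [show p * r * p⁻¹ = t * r from e', mul_inv_cancel_right] at e
            exact htnz e
      have h1 : Nat.card P ≤ 4 := (card_le_of_le hPW).trans hWc
      have h2 : 2 ^ 7 ≤ Nat.card Q := hcard ▸ Nat.pow_le_pow_right two_pos (by omega)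
      omega
  have hPre : Pre ((P.subgroupOf C).map f) (f zC) := by
    refine pre_map f (QuotientGroup.mk'_surjective _) _ hPbar (mem_subgroupOf.2 hzP) hz1
      (fun r hr => ?_) (fun m hm => ?_) fun m hm r hr => ?_
    · rw [← map_mul, ← map_mul]
      exact congrArg f (Subtype.ext (h.gen.comm_z _ (mem_subgroupOf.1 hr).1).eq)
    · have hmz := hfix m (hPC hzP) (hm zC (mem_subgroupOf.2 hzP))
      have hmQ : (m : G) ∈ Q := hCP m (mem_centralizer_singleton_iff.2 hmz) fun x hx => by
        rcases hfc m ⟨x, hPC hx⟩ (hm _ (mem_subgroupOf.2 hx)) with e | e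
        · exact ⟨1, one_mem _, by rw [mul_one]; exact e⟩
        · exact ⟨t, subset_closure (Set.mem_insert _ _),
            e.trans (mem_centralizer_singleton_iff.1 hx.2).symm⟩
      exact mem_map_of_mem f (mem_subgroupOf.2 ⟨hmQ, m.2⟩)
    · have hmz := hfix m (hPC hzP) hm
      refine mem_map_of_mem f (mem_subgroupOf.2 ⟨?_, ?_⟩)
      · exact h.conj_mem hmz (mem_subgroupOf.1 hr).1
      · exact (m * r * m⁻¹).2
  set Qg := Q.map (MulAut.conj g).toMonoidHom
  refine ⟨large_of_core hPre hPbar (b := f ⟨b, hPC hbP⟩) (mem_map_of_mem f (mem_subgroupOf.2 hbP))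
    ?_ ?_ ?_ (((Qg ⊓ C).subgroupOf C).map f) ?_
    (mem_map_of_mem f (mem_subgroupOf.2 ⟨h.center_mem_conj hgQ, hPC hzP⟩)) ?_, ?_⟩
  · intro e
    rcases (hmt _).1 ((hf1 _).1 e) with e | e
    · exact hpc.gen.ne_one e
    · exact htb e.symm
  · intro e
    rcases (hmt _).1 (mem_subgroupOf.1 ((QuotientGroup.eq).1 e)) with e | e
    · exact hgz (inv_mul_eq_one.1 e)
    · refine htbc ?_
      have e' : z = b * t := inv_mul_eq_iff_eq_mul.1 e
      rw [(hpc.gen.comm_z t htQ.2).eq, ← e']
  · rw [← map_mul, show (⟨b, hPC hbP⟩ * ⟨b, hPC hbP⟩ : C) = 1 from Subtype.ext hpc.gen.sq, map_one]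
  · exact IsPGroup.map ((((hQ.1.1 : IsPGroup 2 Q).map _).to_le inf_le_left).of_equiv
      (subgroupOfEquivOfLe inf_le_right).symm) _
  · intro y hy p hp
    obtain ⟨p, hp, rfl⟩ := hp
    obtain ⟨m, rfl⟩ := QuotientGroup.mk'_surjective _ y
    rw [← map_inv, ← map_mul, ← map_mul]
    refine mem_map_of_mem f (mem_subgroupOf.2 ⟨?_, (m * p * m⁻¹).2⟩)
    refine hpc.conj_mem ?_ (mem_subgroupOf.1 hp).1
    rcases hfc m ⟨b, hPC hbP⟩ hy with e | e
    · exact mul_inv_eq_iff_eq_mul.1 e
    · refine absurd ?_ htbc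
      exact (isConj_iff.2 ⟨g, rfl⟩ : IsConj z b).trans (isConj_iff.2 ⟨(m : G), e⟩)
  · obtain ⟨r, hr, hrb⟩ : ∃ r ∈ P, r * b * r⁻¹ = b * z := by
      by_contra hall
      push Not at hall
      have hb : b ∈ W := hCQP b hgQ fun p hp => by
        rcases conj_eq h.gen hp.1 hgQ with e | e
        · exact (mul_inv_eq_iff_eq_mul.1 e).symm
        · exact absurd (e.trans (h.gen.comm_z b hgQ).eq.symm) (hall p hp)
      rcases hWmem b hb with e | e | e | e
      · exact hpc.gen.ne_one e
      · exact htb e.symm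
      · exact hgz e
      · exact htzc (e ▸ isConj_iff.2 ⟨g, rfl⟩)
    obtain ⟨s, hs, hsb⟩ : ∃ s ∈ Qg ⊓ C, s * z * s⁻¹ = z * b := by
      by_contra hall
      push Not at hall
      have hzQg : z ∈ Qg := h.center_mem_conj hgQ
      have hzb : z ≠ b := Ne.symm hgz
      have hone : ∀ s ∈ Qg ⊓ C, s * z = z * s := fun s hs => by
        rcases conj_eq hpc.gen hs.1 hzQg with e | e
        · exact mul_inv_eq_iff_eq_mul.1 e
        · exact absurd (e.trans (hpc.gen.comm_z z hzQg).eq.symm) (hall s hs)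
      -- then `z` and `t` have the same centralizer in `Q^g`, so `z t ∈ ⟨b⟩`
      obtain ⟨q, hq, hqt⟩ := exists_conj_mul hpc.gen htQ.2 ht1 htb
      obtain ⟨q', hq', hqz⟩ := exists_conj_mul hpc.gen hzQg h.gen.ne_one hzb
      have hzt : ∀ y ∈ Qg, y * (z * t) = z * t * y := by
        intro y hy
        rcases conj_eq hpc.gen hy htQ.2 with e | e
        · have hyt : y * t = t * y := mul_inv_eq_iff_eq_mul.1 e
          have hyz := hone y ⟨hy, mem_centralizer_singleton_iff.2 hyt⟩
          rw [← mul_assoc, hyz, mul_assoc, hyt, mul_assoc]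
        · have hyz : y * z * y⁻¹ = b * z := by
            refine (conj_eq hpc.gen hy hzQg).resolve_left fun e1 => ?_
            have hz' : y * z = z * y := mul_inv_eq_iff_eq_mul.1 e1
            have hq'C : q' * t * q'⁻¹ ≠ t := fun e2 => by
              have h3 := hone q' ⟨hq', mem_centralizer_singleton_iff.2 (mul_inv_eq_iff_eq_mul.1 e2)⟩
              rw [h3, mul_inv_cancel_right] at hqz
              exact hpc.gen.ne_one (mul_eq_left.1 hqz.symm)
            have e2 := (conj_eq hpc.gen hq' htQ.2).resolve_left hq'C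
            -- `q' y` fixes `t` and moves `z`
            have h4 : (q' * y) * t * (q' * y)⁻¹ = t := by
              rw [show q' * y * t * (q' * y)⁻¹ = q' * (y * t * y⁻¹) * q'⁻¹ by group, e,
                show q' * (b * t) * q'⁻¹ = (q' * b * q'⁻¹) * (q' * t * q'⁻¹) by group, e2,
                (hpc.gen.comm_z q' hq').eq, mul_inv_cancel_right, ← mul_assoc, hpc.gen.sq, one_mul]
            have h5 := hone _ ⟨mul_mem hq' hy,
              mem_centralizer_singleton_iff.2 (mul_inv_eq_iff_eq_mul.1 h4)⟩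
            have h6 : q' * z * q'⁻¹ = z := by
              calc q' * z * q'⁻¹ = q' * (y * z * y⁻¹) * q'⁻¹ := by rw [e1]
                _ = (q' * y) * z * (q' * y)⁻¹ := by group
                _ = z := by rw [h5, mul_inv_cancel_right]
            rw [h6] at hqz
            exact hpc.gen.ne_one (mul_eq_left.1 hqz.symm)
          refine mul_inv_eq_iff_eq_mul.1 ?_
          rw [show y * (z * t) * y⁻¹ = (y * z * y⁻¹) * (y * t * y⁻¹) by group, hyz, e,
            show b * z * (b * t) = b * (z * b) * t by group, (hpc.gen.comm_z z hzQg).eq,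
            show b * (b * z) * t = (b * b) * (z * t) by group, hpc.gen.sq, one_mul]
      rcases hpc.gen.center_iff _ (mul_mem hzQg htQ.2) (fun y hy => (hzt y hy).symm) with e | e
      · exact htnz ((eq_inv_of_mul_eq_one_right e).trans (inv_eq_of_mul_eq_one_right h.gen.sq))
      · refine htzc ?_
        rw [htz'.eq, e]
        exact isConj_iff.2 ⟨g, rfl⟩
    exact ⟨s⁻¹ * r, mul_mem (mem_sup_right (inv_mem hs)) (mem_sup_left hr),
      conj_swap (h.gen.comm_z b hgQ).eq.symm hrb hsb⟩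

end Invol

end CfsgLib.SectionLarge
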