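import Cfsg.Agent.LargeExtra.SimpleCriterion
import Cfsg.Agent.ExtPrim.MinNormal
import Cfsg.Agent.CharP.YMinimal
import Cfsg.Agent.KGroup.CharP
import Cfsg.Agent.Invol.SmallSylow

/-!
The generalized Fitting subgroup of a group with a large extraspecial 2-subgroup.
-/

set_option autoImplicit false
set_option linter.style.haveILetI false
set_option linter.unusedSectionVars false

namespace CfsgLib.LargeStructure

open Subgroup CfsgLib.Extra2 CfsgLib.LargeExtra CfsgLib.ExtPrim
open scoped commutatorElement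

variable {G : Type*} [Group G] [Finite G] {Q : Subgroup G} {z : G}

/-- A 2-group normalizing a subgroup of even order centralizes an element of it that is central
in a Sylow 2-subgroup. -/
theorem exists_fixed {X P : Subgroup G} (hP : IsPGroup 2 P) (hPX : P ≤ normalizer (X : Set G))
    (heven : 2 ∣ Nat.card X) :
    ∃ (S : Sylow 2 X), ∃ w ∈ X, w ≠ 1 ∧ (∀ p ∈ P, p * w = w * p) ∧
      ∀ s ∈ (S : Subgroup X).map X.subtype, s * w = w * s := by
  haveI : Fact (Nat.Prime 2) := ⟨Nat.prime_two⟩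
  set J := P ⊔ X
  obtain ⟨T, hT⟩ := (hP.comap_subtype (K := J)).exists_le_sylow
  haveI : (X.subgroupOf J).Normal :=
    (normal_subgroupOf_iff_le_normalizer le_sup_right).2 (sup_le hPX le_normalizer)
  set T' := (T : Subgroup J).map J.subtype
  have hidx : ¬ 2 ∣ (T' ⊓ X).relIndex X := by
    have h := CharP.not_dvd_relIndex_inf T (X.subgroupOf J) le_normalizer_of_normal
    have hm : (X.subgroupOf J).map J.subtype = X := map_subgroupOf_eq_of_le le_sup_right
    have e : ((T : Subgroup J) ⊓ X.subgroupOf J).map J.subtype = T' ⊓ X := by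
      rw [Subgroup.map_inf _ _ _ J.subtype_injective, hm]
    have e2 := relIndex_map_map_of_injective ((T : Subgroup J) ⊓ X.subgroupOf J) (X.subgroupOf J)
      J.subtype_injective
    rw [e, hm] at e2
    rwa [e2]
  have hTp : IsPGroup 2 T' := T.isPGroup'.map _
  obtain ⟨S, hS⟩ := (show YMinimal.IsSylowIn 2 (T' ⊓ X) X from
    ⟨inf_le_right, hTp.to_le inf_le_left, hidx⟩).exists_sylow
  haveI := hTp.isNilpotent
  have hXn : T' ≤ normalizer (X : Set G) := (map_subtype_le _).trans (sup_le hPX le_normalizer)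
  haveI : (X.subgroupOf T').Normal := normal_subgroupOf_of_le_normalizer hXn
  have hne : X.subgroupOf T' ≠ ⊥ := fun hb => by
    rw [subgroupOf_eq_bot] at hb
    have e : T' ⊓ X = ⊥ := inf_comm X T' ▸ hb.eq_bot
    rw [e, relIndex_bot_left] at hidx
    exact hidx heven
  obtain ⟨w, hw, hw1⟩ := (bot_or_exists_ne_one _).resolve_left
    (PGroupBasic.inf_center_ne_bot (X.subgroupOf T') hne)
  have hcm : ∀ s ∈ T', s * (w : G) = w * s := fun s hs =>
    congrArg Subtype.val (mem_center_iff.1 hw.2 ⟨s, hs⟩)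
  refine ⟨S, w, mem_subgroupOf.1 hw.1, fun e => hw1 (Subtype.ext e), fun p hp => hcm p ?_,
    fun s hs => hcm s ?_⟩
  · exact ⟨⟨p, mem_sup_left hp⟩, hT (mem_subgroupOf.2 hp), rfl⟩
  · rw [hS, map_subgroupOf_eq_of_le inf_le_right] at hs; exact hs.1

theorem invariant_mem (h : Pre Q z) (hL : Cfsg.IsLargeExtraspecial Q) {X : Subgroup G}
    (hX : X ≠ ⊥) (hQX : Q ≤ normalizer (X : Set G)) : z ∈ X := by
  by_cases hodd : Odd (Nat.card X)
  · exact absurd (hL.2.2.2 X hodd hQX) hX
  have h2 : 2 ∣ Nat.card X := by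
    rcases Nat.even_or_odd (Nat.card X) with he | he
    · exact even_iff_two_dvd.1 he
    · exact absurd he hodd
  obtain ⟨-, w, hwX, hw1, hwc, -⟩ := exists_fixed hL.1.1.1 hQX h2
  have hwQ : w ∈ Q := h.self (mem_centralizer_iff.2 hwc)
  rcases h.gen.center_iff w hwQ (fun y hy => (hwc y hy).symm) with e | e
  · exact absurd e hw1
  · exact e ▸ hwX

/-- A simple group with a self-centralizing involution. -/
theorem false_of_small {T : Subgroup G} [IsSimpleGroup T] (hna : ¬ IsMulCommutative T) {t : G}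
    (ht : t ∈ T) (ht2 : t * t = 1) (ht1 : t ≠ 1)
    (hC : ∀ c ∈ T, c * t = t * c → c = 1 ∨ c = t) : False := by
  haveI : Fact (Nat.Prime 2) := ⟨Nat.prime_two⟩
  set tT : T := ⟨t, ht⟩
  have hto : orderOf tT = 2 := orderOf_eq_prime (Subtype.ext (by simpa [pow_two] using ht2))
    fun e => ht1 (congrArg Subtype.val e)
  obtain ⟨S, hS⟩ := (IsPGroup.of_card (n := 1) (p := 2) (G := zpowers tT)
    (by rw [Nat.card_zpowers, hto, pow_one])).exists_le_sylow
  have htS := hS (mem_zpowers tT)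
  haveI : Nontrivial ↥(S : Subgroup T) :=
    (nontrivial_iff_exists_ne_one _).2 ⟨tT, htS, fun e => ht1 (congrArg Subtype.val e)⟩
  haveI := S.isPGroup'.center_nontrivial
  obtain ⟨w, hw⟩ := exists_ne (1 : center ↥(S : Subgroup T))
  have hwt : ((w : ↥(S : Subgroup T)) : T) = tT := by
    refine Subtype.ext ((hC _ (w : ↥(S : Subgroup T)).1.2 ?_).resolve_left fun e => hw ?_)
    · exact (congrArg (fun x : ↥(S : Subgroup T) => ((x : T) : G))
        (mem_center_iff.1 w.2 ⟨tT, htS⟩)).symm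
    · exact Subtype.ext (Subtype.ext (Subtype.ext e))
  have hall : ∀ s ∈ (S : Subgroup T), s = 1 ∨ s = tT := fun s hs => by
    have hc := congrArg (fun x : ↥(S : Subgroup T) => (x : T)) (mem_center_iff.1 w.2 ⟨s, hs⟩)
    simp only [Subgroup.coe_mul] at hc
    rw [hwt] at hc
    exact (hC s s.2 (congrArg Subtype.val hc)).imp (fun e => Subtype.ext e) (fun e => Subtype.ext e)
  have hcyc : IsCyclic ↥(S : Subgroup T) := by
    refine ⟨⟨⟨tT, htS⟩, fun x => ?_⟩⟩
    rcases hall x x.2 with e | e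
    · exact ⟨0, Subtype.ext (by simp [e])⟩
    · exact ⟨1, Subtype.ext (by simp [e])⟩
  obtain ⟨H, hH⟩ := SmallSylow.exists_index_two_of_cyclic
    (even_iff_two_dvd.2 (hto ▸ orderOf_dvd_natCard tT)) S hcyc
  haveI := normal_of_index_eq_two hH
  rcases IsSimpleGroup.eq_bot_or_eq_top_of_normal H inferInstance with e | e
  · rw [e, index_bot] at hH
    haveI := isCyclic_of_prime_card (α := T) hH
    exact hna ⟨⟨fun a b => (IsCyclic.commGroup (α := T)).mul_comm a b⟩⟩
  · rw [e, index_top] at hH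
    omega

theorem others_cj_le (g : G) (T : Subgroup G) : cj g (others T) ≤ others (cj g T) := by
  simp only [others, ExtPrim.cj, Subgroup.map_iSup]
  refine iSup₂_le fun k hk => ?_
  refine le_iSup₂_of_le (g * k * g⁻¹) (fun e => hk ?_) ?_
  · refine map_injective (MulAut.conj g).injective (Eq.trans ?_ e)
    ext y; simp [mul_assoc]
  · rintro y hy
    simpa [mul_assoc] using hy

theorem cj_eq_iff {g : G} {T : Subgroup G} : cj g T = T ↔ g ∈ normalizer (T : Set G) :=
  ⟨fun e => YMinimal.mem_normalizer_of_conj_le e.le, YMinimal.conj_eq_self⟩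

variable {M : Subgroup G}

theorem abelian_case (h : Pre Q z) (hL : Cfsg.IsLargeExtraspecial Q) [M.Normal]
    (hab : IsMulCommutative M) (hMz : ∀ N : Subgroup G, N.Normal → N ≠ ⊥ → M ≤ N) (hzM : z ∈ M) :
    Cfsg.generalizedFittingSubgroup G = Cfsg.pCore 2 G := by
  haveI : Fact (Nat.Prime 2) := ⟨Nat.prime_two⟩
  have hMs : Group.IsSolvable M := by
    letI : CommGroup M := { (inferInstance : Group M) with mul_comm := hab.is_comm.comm }
    infer_instance
  have hE : Cfsg.layer G = ⊥ := by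
    set E := Cfsg.layer G
    have hEM : ⁅E, M⁆ = ⊥ := Comp.layer_commutator_normal_solvable hMs
    have hEz : E ≤ centralizer ({z} : Set G) := fun e he => mem_centralizer_singleton_iff.2
      (mem_centralizer_iff.1 (commutator_eq_bot_iff_le_centralizer.1 hEM he) z hzM).symm
    have hEQ : E ≤ normalizer (Q : Set G) := hEz.trans h.norm
    haveI : Group.IsNilpotent Q := (hL.1.1.1 : IsPGroup 2 Q).isNilpotent
    haveI : Group.IsSolvable Q := IsNilpotent.to_isSolvable
    refine eq_bot_iff.2 (Comp.layer_le fun K hK => ?_)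
    have hKE := Comp.component_le_layer hK
    have hKQ : ⁅K, Q⁆ = ⊥ := Comp.component_commutator_solvable hK ‹_› (hKE.trans hEQ)
    have hKq : K ≤ Q := (commutator_eq_bot_iff_le_centralizer.1 hKQ).trans h.self
    exact absurd (Group.isSolvable_of_isSolvable_injective (inclusion_injective hKq))
      (Comp.component_not_solvable hK)
  rw [Cfsg.generalizedFittingSubgroup, hE, bot_sup_eq, Solvable.fittingSubgroup_eq_iSup_pCore]
  refine le_antisymm (iSup_le fun p => ?_) (le_iSup_of_le ⟨2, Nat.prime_two⟩ le_rfl)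
  by_cases hp : (p : ℕ) = 2
  · rw [hp]
  haveI := Fact.mk p.2
  have hb : Cfsg.pCore (p : ℕ) G = ⊥ := by
    haveI := Solvable.pCore_normal (G := G) (p : ℕ)
    refine hL.2.2.2 _ ?_ le_normalizer_of_normal
    obtain ⟨k, hk⟩ := IsPGroup.iff_card.1 (Solvable.isPGroup_pCore (G := G) (p : ℕ))
    rw [hk]
    exact (p.2.odd_of_ne_two hp).pow
  rw [hb]
  exact bot_le

theorem main (hL : Cfsg.IsLargeExtraspecial Q) (hz : (center ↥Q).map Q.subtype = zpowers z)
    (hM : M = normalClosure ({z} : Set G)) :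
    Q.Normal ∨ (IsMulCommutative ↥M ∧ Cfsg.generalizedFittingSubgroup G = Cfsg.pCore 2 G) ∨
      (M = Cfsg.generalizedFittingSubgroup G ∧ IsSimpleGroup ↥M ∧ ¬ IsMulCommutative ↥M) ∨
      (M = Cfsg.generalizedFittingSubgroup G ∧ ∃ (L : Subgroup G) (u : G), u ∈ Q ∧
        IsSimpleGroup ↥L ∧ ¬ IsMulCommutative ↥L ∧ L ⊓ (L).map (MulAut.conj u).toMonoidHom = ⊥ ∧
        (∀ x ∈ L, ∀ y ∈ (L).map (MulAut.conj u).toMonoidHom, x * y = y * x) ∧
        L ⊔ (L).map (MulAut.conj u).toMonoidHom = M ∧ ∃ z₁ ∈ L, z = z₁ * (u * z₁ * u⁻¹) ∧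
        (∃ R : Sylow 2 ↥L, (R : Subgroup ↥L) = (centralizer ({z₁} : Set G)).subgroupOf L ∧
          (frattini ↥(R : Subgroup ↥L)).map ((L.subtype).comp (R : Subgroup ↥L).subtype) ≤
            zpowers z₁) ∧
        Q ≠ (Cfsg.pCore 2 ↥(centralizer ({z} : Set G))).map (centralizer ({z} : Set G)).subtype) := by
  haveI : Fact (Nat.Prime 2) := ⟨Nat.prime_two⟩
  have h := pre_of_large hL hz
  haveI hMn : M.Normal := hM ▸ normalClosure_normal
  have hzM : z ∈ M := hM ▸ subset_normalClosure (Set.mem_singleton z)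
  have hMz : ∀ N : Subgroup G, N.Normal → N ≠ ⊥ → M ≤ N := fun N hN hN1 => by
    haveI := hN
    exact hM ▸ normalClosure_le_normal
      (Set.singleton_subset_iff.2 (invariant_mem h hL hN1 le_normalizer_of_normal))
  by_cases hab : IsMulCommutative M
  · exact Or.inr (Or.inl ⟨hab, abelian_case h hL hab hMz hzM⟩)
  have hMne : M ≠ ⊥ := fun e => h.gen.ne_one (mem_bot.1 (e ▸ hzM))
  have hmin : ∀ K : Subgroup G, K.Normal → K ≤ M → K = ⊥ ∨ K = M := fun K hK hKM => by
    by_cases hK1 : K = ⊥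
    · exact Or.inl hK1
    · exact Or.inr (le_antisymm hKM (hMz K hK hK1))
  have hCM : centralizer (M : Set G) = ⊥ := by
    by_contra hne
    have h1 : M ≤ centralizer (M : Set G) := hMz _ inferInstance hne
    exact hab (le_centralizer_iff_isMulCommutative.1 h1)
  have hFM : M = Cfsg.generalizedFittingSubgroup G := by
    have hF : Cfsg.fittingSubgroup G = ⊥ := by
      by_contra hne
      haveI := Solvable.fittingSubgroup_normal (G := G)
      haveI : Group.IsSolvable (Cfsg.fittingSubgroup G) := Comp.fitting_isSolvable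
      haveI : Group.IsSolvable M := Group.isSolvable_of_isSolvable_injective
        (inclusion_injective (hMz _ inferInstance hne))
      exact hab (Solvable.minimal_normal_elementary hMne hmin inferInstance).1
    have hEne : Cfsg.layer G ≠ ⊥ := by
      intro hE
      have hle := Comp.centralizer_Fstar_le (G := G)
      rw [Cfsg.generalizedFittingSubgroup, hE, hF, sup_bot_eq] at hle
      exact h.gen.ne_one (mem_bot.1 (hle (mem_centralizer_iff.2 fun y hy => by
        rw [mem_bot.1 hy, one_mul, mul_one] : z ∈ centralizer ((⊥ : Subgroup G) : Set G))))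
    rw [Cfsg.generalizedFittingSubgroup, hF, sup_bot_eq]
    haveI : (Cfsg.layer G).Normal := by
      haveI := (Comp.Fstar_characteristic (G := G))
      have : (Cfsg.generalizedFittingSubgroup G).Normal := inferInstance
      rwa [Cfsg.generalizedFittingSubgroup, hF, sup_bot_eq] at this
    refine le_antisymm (hMz _ inferInstance hEne) (Comp.layer_le fun K hK => ?_)
    rcases Comp.component_le_or_commutator_eq_bot hK hMn.isSubnormal with e | e
    · exact e
    · exact (commutator_eq_bot_iff_le_centralizer.1 e).trans (hCM.le.trans bot_le)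
  right; right
  obtain ⟨T, hT⟩ := exists_isFactor M hMne hmin hab
  haveI := hT.simple
  set O := others T with hOdef
  have huniq : ∀ {a₁ b₁ a₂ b₂ : G}, a₁ ∈ T → b₁ ∈ O → a₂ ∈ T → b₂ ∈ O → a₁ * b₁ = a₂ * b₂ →
      a₁ = a₂ ∧ b₁ = b₂ := by
    intro a₁ b₁ a₂ b₂ ha₁ hb₁ ha₂ hb₂ he
    have h1 : a₂⁻¹ * a₁ = b₂ * b₁⁻¹ := by
      rw [eq_mul_inv_iff_mul_eq, mul_assoc, he, inv_mul_cancel_left]
    have h2 : a₂⁻¹ * a₁ = 1 :=
      mem_bot.1 (hT.inf_others ▸ (Subgroup.mem_inf.2 ⟨mul_mem (inv_mem ha₂) ha₁,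
        h1 ▸ mul_mem hb₂ (inv_mem hb₁)⟩ : a₂⁻¹ * a₁ ∈ T ⊓ O))
    have h3 : a₂ = a₁ := inv_mul_eq_one.1 h2
    exact ⟨h3.symm, mul_left_cancel (h3 ▸ he)⟩
  obtain ⟨t, ht, c₀, hc₀, hzt⟩ := hT.exists_mul hzM
  have hQz : ∀ q ∈ Q, q * z * q⁻¹ = z := fun q hq =>
    mul_inv_eq_iff_eq_mul.2 (h.gen.comm_z q hq).eq
  have hzfix : cj z T = T := hT.cj_eq_of_mem hzM
  -- the orbit of `Q` on the factors
  have hinv : ∀ H : Subgroup G, Q ≤ normalizer ((⨆ q : Q, cj (q : G) H : Subgroup G) : Set G) := by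
    intro H r hr
    refine YMinimal.mem_normalizer_of_conj_le ?_
    rw [Subgroup.map_iSup]
    refine iSup_le fun q => le_iSup_of_le ⟨r * q, mul_mem hr q.2⟩ ?_
    exact (cj_cj r (q : G) H).le
  have hTmem : z ∉ O → ∀ g, ∃ q ∈ Q, cj g T = cj q T := by
    intro hzO g
    by_contra hall
    push Not at hall
    refine hzO ?_
    have hne : (⨆ q : Q, cj (q : G) (cj g T)) ≠ ⊥ := fun e => by
      have : cj (1 : G) (cj g T) ≤ ⊥ := e ▸ le_iSup (fun q : Q => cj (q : G) (cj g T)) 1
      rw [cj_one, le_bot_iff] at this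
      exact hT.ne_bot ((map_eq_bot_iff_of_injective _ (MulAut.conj g).injective).1 this)
    refine (iSup_le fun q => ?_ : (⨆ q : Q, cj (q : G) (cj g T)) ≤ O)
      (invariant_mem h hL hne (hinv _))
    rw [cj_cj]
    refine cj_le_others fun e => hall _ (inv_mem q.2) ?_
    conv_rhs => rw [← e, cj_cj, inv_mul_cancel_left]
  have hzO : z ∉ O := by
    intro hzO
    have hall : ∀ q ∈ Q, z ∈ others (cj q T) := fun q hq => by
      refine others_cj_le q T ?_
      rw [mem_cj, (h.gen.comm_z _ (inv_mem hq)).eq, inv_mul_cancel_right]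
      exact hzO
    have hne : (⨆ q : Q, cj (q : G) T) ≠ ⊥ := fun e => by
      have : cj (1 : G) T ≤ ⊥ := e ▸ le_iSup (fun q : Q => cj (q : G) T) 1
      rw [cj_one, le_bot_iff] at this
      exact hT.ne_bot this
    have hz' := invariant_mem h hL hne (hinv T)
    -- `z` lies in one orbit and commutes with it
    have hzc : M ≤ centralizer ({z} : Set G) := by
      rw [← hT.sup_others]
      refine sup_le (fun x hx => mem_centralizer_singleton_iff.2 (hT.commute hx hzO).eq) ?_
      refine iSup₂_le fun g hg => ?_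
      by_cases hex : ∃ q ∈ Q, cj g T = cj q T
      · obtain ⟨q, hq, e⟩ := hex
        intro x hx
        exact mem_centralizer_singleton_iff.2 ((hT.cj q).commute (e ▸ hx) (hall q hq)).eq
      · push Not at hex
        intro x hx
        refine mem_centralizer_singleton_iff.2 ((hT.cj g).commute hx ?_).eq
        refine (iSup_le fun q => ?_ : (⨆ q : Q, cj (q : G) T) ≤ others (cj g T)) hz'
        have e : cj (q : G) T = cj ((q : G) * g⁻¹) (cj g T) := by
          rw [cj_cj, inv_mul_cancel_right]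
        rw [e]
        exact cj_le_others fun e' => hex q q.2 (e'.symm.trans e.symm)
    have : z ∈ centralizer (M : Set G) :=
      mem_centralizer_iff.2 fun m hm => mem_centralizer_singleton_iff.1 (hzc hm)
    exact h.gen.ne_one (mem_bot.1 (hCM ▸ this))
  have ht1 : t ≠ 1 := fun e => hzO (by rw [hzt, e, one_mul]; exact hc₀)
  have ht2 : t * t = 1 := by
    refine (huniq (mul_mem ht ht) (mul_mem hc₀ hc₀) (one_mem T) (one_mem O) ?_).1
    rw [one_mul, ← h.gen.sq, hzt]
    exact (hT.commute ht hc₀).symm.mul_mul_mul_comm t c₀ ▸ rfl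
  -- elements of `C_T(t)`
  have hcz : ∀ c ∈ T, c * t = t * c → c * z = z * c := fun c hc hct => by
    rw [hzt, ← mul_assoc, hct, mul_assoc, (hT.commute hc hc₀).eq, mul_assoc]
  have hcomm : ∀ c ∈ T, c * t = t * c → ∀ q ∈ Q, c * (q * c⁻¹ * q⁻¹) ∈ Q := fun c hc hct q hq => by
    have := mul_mem (h.conj_mem (hcz c hc hct) hq) (inv_mem hq)
    simpa [mul_assoc] using this
  have hsq : ∀ q ∈ Q, cj q T ≠ T → ∀ c ∈ T, c * t = t * c → c * c = 1 ∨ c * c = t := by
    intro q hq hqT c hc hct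
    have hd : q * c⁻¹ * q⁻¹ ∈ O := cj_le_others hqT (conj_mem_cj (inv_mem hc))
    set d := q * c⁻¹ * q⁻¹
    have e : c * d * (c * d) = (c * c) * (d * d) := (hT.commute hc hd).symm.mul_mul_mul_comm c d
    rcases h.gen.square _ (hcomm c hc hct q hq) with e' | e'
    · exact Or.inl (huniq (mul_mem hc hc) (mul_mem hd hd) (one_mem T) (one_mem O)
        (by rw [← e, e', one_mul])).1
    · exact Or.inr (huniq (mul_mem hc hc) (mul_mem hd hd) ht hc₀ (by rw [← e, e', hzt])).1
  by_cases hk1 : ∀ q ∈ Q, cj q T = T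
  · left
    have hO : O = ⊥ := eq_bot_iff.2 (iSup₂_le fun g hg => by
      obtain ⟨q, hq, e⟩ := hTmem hzO g
      exact absurd (e.trans (hk1 q hq)) hg)
    have hTM : T = M := by rw [← hT.sup_others, ← hOdef, hO, sup_bot_eq]
    exact ⟨hFM, hTM ▸ hT.simple, hab⟩
  push Not at hk1
  obtain ⟨q, hq, hqT⟩ := hk1
  have hsqfix : ∀ r ∈ Q, cj (r * r) T = T := fun r hr => by
    rcases h.gen.square r hr with e | e <;> rw [e]
    · exact cj_one T
    · exact hzfix
  -- at most two factors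
  have htwo : ∀ r ∈ Q, cj r T = T ∨ cj r T = cj q T := by
    intro r hr
    by_contra hne
    push Not at hne
    have hrq : cj (r * q) T ≠ T := by
      intro e
      refine hne.2 ?_
      have e1 := congrArg (cj r⁻¹) e
      rw [cj_cj, inv_mul_cancel_left] at e1
      rw [e1]
      conv_rhs => rw [← hsqfix r hr, cj_cj, inv_mul_cancel_left]
    refine false_of_small hT.nonab ht ht2 ht1 fun c hc hct => ?_
    have hy := hcomm c hc hct q hq
    set d := q * c⁻¹ * q⁻¹
    have hd : d ∈ O := cj_le_others hqT (conj_mem_cj (inv_mem hc))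
    have he : c * d * r * (c * d)⁻¹ * r⁻¹ =
        c * (d * ((r * q) * c * (r * q)⁻¹) * (r * c⁻¹ * r⁻¹)) := by
      simp only [d]; group
    have hrest : d * ((r * q) * c * (r * q)⁻¹) * (r * c⁻¹ * r⁻¹) ∈ O :=
      mul_mem (mul_mem hd (cj_le_others hrq (conj_mem_cj hc)))
        (cj_le_others hne.1 (conj_mem_cj (inv_mem hc)))
    rcases h.gen.comm _ hy r hr with e | e <;> rw [he] at e
    · exact Or.inl (huniq hc hrest (one_mem T) (one_mem O) (by rw [e, one_mul])).1
    · exact Or.inr (huniq hc hrest ht hc₀ (by rw [e, hzt])).1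
  right
  have hOq : O = cj q T := le_antisymm (iSup₂_le fun g hg => by
    obtain ⟨r, hr, e⟩ := hTmem hzO g
    rcases htwo r hr with e' | e'
    · exact absurd (e.trans e') hg
    · exact (e.trans e').le) (cj_le_others hqT)
  -- the projection of `z`
  obtain ⟨S, w, hwT, hw1, hwQ, hwS⟩ := exists_fixed (X := T) (P := Q ⊓ normalizer (T : Set G))
    ((hL.1.1.1 : IsPGroup 2 Q).to_le inf_le_left) inf_le_right
    (by
      rw [show 2 = orderOf t from (orderOf_eq_prime (by rw [pow_two, ht2]) ht1).symm]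
      exact T.orderOf_dvd_natCard ht)
  have hwO : q * w * q⁻¹ ∈ O := cj_le_others hqT (conj_mem_cj hwT)
  have hww : Commute w (q * w * q⁻¹) := hT.commute hwT hwO
  have hqq : q * q * w = w * (q * q) :=
    hwQ _ ⟨mul_mem hq hq, cj_eq_iff.1 (hsqfix q hq)⟩
  have hWQ : ∀ r ∈ Q, r * (w * (q * w * q⁻¹)) * r⁻¹ = w * (q * w * q⁻¹) := by
    have hQ0 : ∀ r ∈ Q, cj r T = T →
        r * (w * (q * w * q⁻¹)) * r⁻¹ = w * (q * w * q⁻¹) := by
      intro r hr hrT
      have h1 : r * w * r⁻¹ = w := mul_inv_eq_iff_eq_mul.2 (hwQ r ⟨hr, cj_eq_iff.1 hrT⟩)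
      have h2 : cj (q⁻¹ * r * q) T = T := by
        rw [show q⁻¹ * r * q = r * (r⁻¹ * q⁻¹ * r * q) by group, ← cj_cj]
        have hm := h.gen.comm r⁻¹ (inv_mem hr) q⁻¹ (inv_mem hq)
        rw [inv_inv, inv_inv] at hm
        rcases hm with e | e <;> rw [e]
        · rw [cj_one, hrT]
        · rw [hzfix, hrT]
      have h3 : (q⁻¹ * r * q) * w * (q⁻¹ * r * q)⁻¹ = w := mul_inv_eq_iff_eq_mul.2
        (hwQ _ (Subgroup.mem_inf.2 ⟨mul_mem (mul_mem (inv_mem hq) hr) hq, cj_eq_iff.1 h2⟩))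
      calc r * (w * (q * w * q⁻¹)) * r⁻¹
          = (r * w * r⁻¹) * (q * ((q⁻¹ * r * q) * w * (q⁻¹ * r * q)⁻¹) * q⁻¹) := by group
        _ = _ := by rw [h1, h3]
    have hqW : q * (w * (q * w * q⁻¹)) * q⁻¹ = w * (q * w * q⁻¹) := by
      calc q * (w * (q * w * q⁻¹)) * q⁻¹ = (q * w * q⁻¹) * (q * q * w * (q * q)⁻¹) := by group
        _ = (q * w * q⁻¹) * w := by rw [hqq, mul_inv_cancel_right]
        _ = _ := hww.eq.symm
    intro r hr
    rcases htwo r hr with e | e
    · exact hQ0 r hr e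
    · have h1 := hQ0 _ (mul_mem (inv_mem hq) hr) (by rw [← cj_cj, e, cj_cj, inv_mul_cancel, cj_one])
      calc r * (w * (q * w * q⁻¹)) * r⁻¹
          = q * ((q⁻¹ * r) * (w * (q * w * q⁻¹)) * (q⁻¹ * r)⁻¹) * q⁻¹ := by group
        _ = _ := by rw [h1, hqW]
  have hWc : w * (q * w * q⁻¹) ∈ centralizer (Q : Set G) :=
    mem_centralizer_iff.2 fun r hr => mul_inv_eq_iff_eq_mul.1 (hWQ r hr)
  obtain ⟨hwt, hqc⟩ : w = t ∧ q * w * q⁻¹ = c₀ := by
    refine huniq hwT hwO ht hc₀ ?_
    rcases h.gen.center_iff _ (h.self hWc)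
      (fun r hr => (mem_centralizer_iff.1 hWc r hr).symm) with e | e
    · exact absurd (huniq hwT hwO (one_mem T) (one_mem O) (by rw [e, one_mul])).1 hw1
    · rw [e, hzt]
  subst hwt
  -- the centralizer of the projection
  set C := (centralizer ({w} : Set G)).subgroupOf T with hCdef
  have hC4 : ∀ c ∈ T, c * w = w * c → c ^ 4 = 1 := fun c hc hct => by
    rw [show c ^ 4 = (c * c) * (c * c) by simp [pow_succ, mul_assoc]]
    rcases hsq q hq hqT c hc hct with e | e <;> rw [e]
    · rw [one_mul]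
    · exact ht2
  have hCp : IsPGroup 2 C := fun c => ⟨2, Subtype.ext (Subtype.ext (by
    simpa using hC4 _ c.1.2 (mem_centralizer_singleton_iff.1 (mem_subgroupOf.1 c.2))))⟩
  have hSC : (S : Subgroup T) = C := by
    refine (S.3 hCp fun s hs => mem_subgroupOf.2 (mem_centralizer_singleton_iff.2 ?_)).symm
    exact hwS s (mem_map_of_mem _ hs)
  have hcjq : cj q T = T.map (MulAut.conj q).toMonoidHom := rfl
  refine ⟨hFM, T, q, hq, hT.simple, hT.nonab, ?_, fun x hx y hy => ?_, ?_, w, hwT, ?_,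
    ⟨S, hSC, ?_⟩, fun hQO => ?_⟩
  · rw [← hcjq, ← hOq]; exact hT.inf_others
  · exact (hT.commute hx (show y ∈ O by rw [hOq]; exact hy)).eq
  · rw [← hcjq, ← hOq]; exact hT.sup_others
  · rw [hqc]; exact hzt
  · set φ := (T.subtype).comp (S : Subgroup T).subtype
    have hφ : ∀ x : (S : Subgroup T), φ x * w = w * φ x := fun x =>
      hwS _ (mem_map_of_mem T.subtype x.2)
    haveI : ((zpowers w).comap φ).Normal := ⟨fun n hn g => by
      have hn' := mem_comap.1 hn
      refine mem_comap.2 ?_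
      have hc : φ g * φ n = φ n * φ g := by
        obtain ⟨i, hi⟩ := mem_zpowers_iff.1 hn'
        rw [← hi]
        exact ((show Commute (φ g) w from hφ g).zpow_right i).eq
      rw [map_mul, map_mul, map_inv, hc, mul_inv_cancel_right]
      exact hn'⟩
    rw [map_le_iff_le_comap]
    have hsq' : ∀ x : (S : Subgroup T), x ^ 2 ∈ (zpowers w).comap φ := fun x => by
      rw [mem_comap, map_pow, pow_two]
      rcases hsq q hq hqT (φ x) x.1.2 (hφ x) with e | e
      · rw [e]; exact one_mem _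
      · rw [e]; exact mem_zpowers w
    refine PGroupBasic.frattini_le_of_elementary (p := 2) _ ?_ hsq'
    rw [_root_.commutator_def, commutator_le]
    intro a _ b _
    have := mul_mem (mul_mem (hsq' a) (hsq' (a⁻¹ * b))) (inv_mem (hsq' b))
    simpa [commutatorElement_def, pow_two, mul_assoc] using this
  · -- otherwise `C_T(t)` would lie in `Q`
    set Cz := centralizer ({z} : Set G)
    have hXp : IsPGroup 2 ↥((M ⊓ Cz).subgroupOf Cz) := by
      intro m
      refine ⟨2, Subtype.ext (Subtype.ext ?_)⟩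
      obtain ⟨hmM, hmz⟩ := mem_subgroupOf.1 m.2
      obtain ⟨a, ha, b, hb, hab'⟩ := hT.exists_mul hmM
      have hconj : (a * w * a⁻¹) * (b * (q * w * q⁻¹) * b⁻¹) = w * (q * w * q⁻¹) := by
        have e1 : Commute a b := hT.commute ha hb
        have e2 : Commute w b := hT.commute hwT hb
        calc (a * w * a⁻¹) * (b * (q * w * q⁻¹) * b⁻¹)
            = a * w * (a⁻¹ * b) * (q * w * q⁻¹) * b⁻¹ := by group
          _ = a * w * (b * a⁻¹) * (q * w * q⁻¹) * b⁻¹ := by rw [e1.inv_left.eq]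
          _ = a * (w * b) * (a⁻¹ * (q * w * q⁻¹)) * b⁻¹ := by group
          _ = a * (b * w) * ((q * w * q⁻¹) * a⁻¹) * b⁻¹ := by
            rw [e2.eq, (hT.commute ha hwO).inv_left.eq]
          _ = (a * b) * (w * (q * w * q⁻¹)) * (a⁻¹ * b⁻¹) := by group
          _ = (a * b) * (w * (q * w * q⁻¹)) * (a * b)⁻¹ := by rw [mul_inv_rev, e1.inv_inv.eq]
          _ = w * (q * w * q⁻¹) := by
            rw [hqc, ← hzt, ← hab', mem_centralizer_singleton_iff.1 hmz, mul_inv_cancel_right]
      obtain ⟨ha', hb'⟩ := huniq (hT.conj_mem a (hT.le ha) w hwT)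
        (mul_mem (mul_mem hb hwO) (inv_mem hb)) hwT hwO hconj
      have ha4 := hC4 a ha (mul_inv_eq_iff_eq_mul.1 ha')
      have hbT : q⁻¹ * b * q ∈ T := mem_cj.1 (hOq ▸ hb)
      have hb4 : (q⁻¹ * b * q) ^ 4 = 1 := hC4 _ hbT (by
        calc q⁻¹ * b * q * w = q⁻¹ * (b * (q * w * q⁻¹) * b⁻¹) * b * q := by group
          _ = _ := by rw [hb']; group)
      have hb4' : b ^ 4 = 1 := by
        rw [show b = q * (q⁻¹ * b * q) * q⁻¹ by group, conj_pow, hb4]; simp
      show ((m : ↥Cz) : G) ^ 2 ^ 2 = 1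
      rw [hab', show (2 : ℕ) ^ 2 = 4 by norm_num, (hT.commute ha hb).mul_pow, ha4, hb4', one_mul]
    have hXQ : M ⊓ Cz ≤ Q := by
      haveI : ((M ⊓ Cz).subgroupOf Cz).Normal := by
        rw [inf_subgroupOf_right]; exact hMn.comap Cz.subtype
      rw [hQO, ← map_subgroupOf_eq_of_le (inf_le_right : M ⊓ Cz ≤ Cz)]
      exact map_mono (Solvable.le_pCore 2 inferInstance hXp)
    refine false_of_small hT.nonab hwT ht2 ht1 fun c hc hct => ?_
    have hcQ : c ∈ Q := hXQ ⟨hT.le hc, mem_centralizer_singleton_iff.2 (hcz c hc hct)⟩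
    have he : c * q * c⁻¹ * q⁻¹ = c * (q * c⁻¹ * q⁻¹) := by group
    have hd : q * c⁻¹ * q⁻¹ ∈ O := cj_le_others hqT (conj_mem_cj (inv_mem hc))
    rcases h.gen.comm c hcQ q hq with e | e <;> rw [he] at e
    · exact Or.inl (huniq hc hd (one_mem T) (one_mem O) (by rw [e, one_mul])).1
    · exact Or.inr (huniq hc hd hwT hc₀ (by rw [e, hzt])).1

end CfsgLib.LargeStructure
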